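import Cfsg.Agent.UGT.FL34.KFCore

/-!
# `KF34`

* `wsmall` : 2-groups of `C_D(ξ, a)`, `a` of field or graph type, have order at most 2;
* `gen` : `⟨Y, Y^p⟩ = D`;
* `kf34 : KF34`.
-/

set_option autoImplicit false
set_option linter.constructorNameAsVariable false
set_option linter.unusedVariables false

namespace Cfsg.Agent.UGT.FL34.KF

open Subgroup Cfsg.Agent.UGT.FL34 Matrix
open Cfsg.Agent.SporadicA.FieldFour
open Cfsg.Agent.LThreeFour Cfsg.Agent.LThreeFour.Dat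
open Cfsg.Agent.ONType.Psl (PSL3 SL3 T t tm)
open Cfsg.Agent.ClassicalGeometry.AutPSL.Root
open Cfsg.Agent.ClassicalGeometry.AutPSL.Auto
open Cfsg.Agent.UGT.ThEL34 (fx mem_fx Wild)

variable {L : Type*} [Group L]

/-! ### `wsmall` -/

set_option maxRecDepth 100000 in
theorem small_code : ∀ ρ : Ty, (ρ.1, ρ.2.1) = (true, false) ∨ (ρ.1, ρ.2.1) = (false, true) →
    ∀ q : Code, ctau (true, true, 0) q = q → cmul (ctau ρ q) q = cone →
    ∀ p : Code, ctau (true, true, 0) p = p → cact q ρ p = p → p = cone ∨ p = ⟨0, 0, 1⟩ := by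
  decide +kernel

theorem wsmall (e0 : PSL3 ≃* L) {ξ : MulAut L} (hξ : ξ * ξ = 1)
    (hb : bits ((D e0).tyHom ξ) = (true, true)) (a : MulAut L) (ha : Wild ξ a) (hc : a * ξ = ξ * a)
    (W : Subgroup L) (hW : IsPGroup 2 W) (hf : ∀ w ∈ W, ξ w = w ∧ a w = w) : Nat.card W ≤ 2 := by
  have hfin : Finite L := (D e0).finite
  have h2 : Fact (Nat.Prime 2) := ⟨Nat.prime_two⟩
  have hP1 : IsPGroup 2 (closure ({ξ, a} : Set (MulAut L))) := by
    apply two_closure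
    · rintro b (rfl | rfl)
      · exact hξ
      · exact ha.sq
    · rintro b (rfl | rfl) c (rfl | rfl)
      · rfl
      · exact hc.symm
      · exact hc
      · rfl
  have hP2 : IsPGroup 2 (W.map (MulAut.conj : L →* MulAut L)) := hW.map _
  have hnorm : closure ({ξ, a} : Set (MulAut L)) ≤
      normalizer (W.map (MulAut.conj : L →* MulAut L) : Set (MulAut L)) := by
    refine le_trans ?_ (centralizer_le_normalizer _)
    rw [closure_le]
    rintro b (rfl | rfl)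
    · rw [SetLike.mem_coe, mem_centralizer_iff]
      rintro _ ⟨w, hw, rfl⟩
      exact (conj_comm (hf w hw).1).symm
    · rw [SetLike.mem_coe, mem_centralizer_iff]
      rintro _ ⟨w, hw, rfl⟩
      exact (conj_comm (hf w hw).2).symm
  have hQ := hP1.to_sup_of_normal_right' hP2 hnorm
  have hξm : ξ ∈ closure ({ξ, a} : Set (MulAut L)) := subset_closure (Set.mem_insert _ _)
  have ham : a ∈ closure ({ξ, a} : Set (MulAut L)) := subset_closure (Set.mem_insert_of_mem _ rfl)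
  obtain ⟨e', h0, hMT⟩ := pl e0 _ hQ (mem_sup_left hξm) hξ hb (by decide)
  set A := D e' with hA
  obtain ⟨q, ρ, hq⟩ := hMT a (mem_sup_left ham)
  have hρ : (ρ.1, ρ.2.1) = (true, false) ∨ (ρ.1, ρ.2.1) = (false, true) := by
    have h1 : A.tyHom a = ⟨ρ⟩ := hq.hasTy.tyHom
    have h3 := wild_bits e' hξ (by rw [bits_indep e0 e', hb]) ha
    rw [h1] at h3
    exact h3
  have c1 : ctau (true, true, 0) q = q := by
    have u1 := h0.cd.mul hq
    have u2 := hq.mul h0.cd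
    rw [hc] at u2
    have u3 := (u1.unique u2).2
    rw [ctau_cone, cone_cmul, cmul_cone] at u3
    exact u3.symm
  have c2 : cmul (ctau ρ q) q = cone := by
    have u1 := hq.mul hq
    rw [ha.sq] at u1
    exact u1.one.2
  have key : ∀ w : W, (w : L) = A.el cone ∨ (w : L) = A.el ⟨0, 0, 1⟩ := by
    intro w
    obtain ⟨p, hp⟩ := conj_mem (hMT (MulAut.conj (w : L)) (mem_sup_right ⟨w, w.2, rfl⟩))
    obtain ⟨h1, h3⟩ := hf w w.2
    rw [hp, h0.el] at h1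
    rw [hp, hq.apply] at h3
    rcases small_code ρ hρ q c1 c2 p (A.inj h1) (A.inj h3) with h4 | h4
    · exact Or.inl (by rw [hp, h4])
    · exact Or.inr (by rw [hp, h4])
  classical
  have hinj : Function.Injective (fun w : W => decide ((w : L) = A.el cone)) := by
    intro w w' h
    have h1 : (w : L) = A.el cone ↔ (w' : L) = A.el cone := by
      have h3 := congrArg (fun b => b = true) h
      simpa using h3
    apply Subtype.ext
    rcases key w with h3 | h3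
    · rw [h3, h1.1 h3]
    · rcases key w' with h4 | h4
      · rw [h4, h1.2 h4]
      · rw [h3, h4]
  have h5 := Nat.card_le_card_of_injective _ hinj
  rwa [Nat.card_eq_fintype_card (α := Bool), Fintype.card_bool] at h5

/-! ### `gen` -/

/-- the matrix of `x₀₂(ω)` -/
def P0 : M3 := ⟨.o, .z, .w, .z, .o, .z, .z, .z, .o⟩

/-- a letter: an element of `Y` or its conjugate under `x₀₂(ω)` -/
def letter (l : Bool × M3) : M3 := if l.1 then M3.mul (M3.mul P0 l.2) P0 else l.2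

/-- value of a word -/
def wval : List (Bool × M3) → M3
  | [] => ⟨.o, .z, .z, .z, .o, .z, .z, .z, .o⟩
  | l :: w => M3.mul (letter l) (wval w)

/-- letters in `Y` -/
def wok : List (Bool × M3) → Bool
  | [] => true
  | l :: w => (l.2.unit && (M3.cube l.2).isSc) && wok w

/-- the code of a root matrix -/
def rm (i j : Fin 3) (u : F4) : M3 := M3.ofM (tm i j u)

def wrd : List ((Fin 3 × Fin 3 × F4) × List (Bool × M3)) :=
  [((0, 1, .o), [(false, ⟨.o, .w, .w, .v, .z, .w, .v, .v, .o⟩), (true, ⟨.z, .z, .v, .z, .v, .z, .v, .z, .v⟩), (false, ⟨.o, .v, .v, .w, .z, .v, .w, .w, .o⟩), (true, ⟨.z, .z, .v, .z, .v, .z, .v, .z, .v⟩), (false, ⟨.o, .w, .w, .v, .z, .w, .v, .v, .o⟩)]),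
   ((0, 2, .o), [(false, ⟨.z, .z, .v, .z, .v, .z, .v, .z, .v⟩), (true, ⟨.z, .z, .v, .z, .v, .z, .v, .z, .v⟩), (false, ⟨.o, .z, .o, .z, .o, .z, .o, .z, .z⟩), (true, ⟨.o, .z, .o, .z, .o, .z, .o, .z, .z⟩), (false, ⟨.z, .z, .v, .z, .v, .z, .v, .z, .v⟩), (true, ⟨.z, .z, .v, .z, .v, .z, .v, .z, .v⟩)]),
   ((1, 0, .o), [(false, ⟨.o, .o, .w, .o, .z, .v, .v, .w, .o⟩), (true, ⟨.o, .z, .o, .z, .o, .z, .o, .z, .z⟩), (false, ⟨.o, .v, .v, .w, .z, .v, .w, .w, .o⟩), (true, ⟨.o, .z, .o, .z, .o, .z, .o, .z, .z⟩), (false, ⟨.o, .v, .w, .w, .z, .o, .v, .o, .o⟩)]),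
   ((1, 2, .o), [(false, ⟨.o, .w, .w, .v, .z, .w, .v, .v, .o⟩), (true, ⟨.o, .z, .o, .z, .o, .z, .o, .z, .z⟩), (false, ⟨.o, .v, .v, .w, .z, .v, .w, .w, .o⟩), (true, ⟨.o, .z, .o, .z, .o, .z, .o, .z, .z⟩), (false, ⟨.o, .w, .w, .v, .z, .w, .v, .v, .o⟩)]),
   ((2, 0, .o), [(true, ⟨.z, .z, .v, .z, .v, .z, .v, .z, .v⟩), (false, ⟨.o, .z, .o, .z, .o, .z, .o, .z, .z⟩), (true, ⟨.o, .z, .o, .z, .o, .z, .o, .z, .z⟩), (false, ⟨.z, .z, .v, .z, .v, .z, .v, .z, .v⟩), (true, ⟨.z, .z, .v, .z, .v, .z, .v, .z, .v⟩)]),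
   ((2, 1, .o), [(false, ⟨.o, .o, .w, .o, .z, .v, .v, .w, .o⟩), (true, ⟨.z, .z, .v, .z, .v, .z, .v, .z, .v⟩), (false, ⟨.o, .v, .v, .w, .z, .v, .w, .w, .o⟩), (true, ⟨.z, .z, .v, .z, .v, .z, .v, .z, .v⟩), (false, ⟨.o, .v, .w, .w, .z, .o, .v, .o, .o⟩)]),
   ((0, 2, .w), [(false, ⟨.z, .z, .v, .z, .v, .z, .v, .z, .v⟩), (true, ⟨.z, .z, .v, .z, .v, .z, .v, .z, .v⟩), (false, ⟨.z, .z, .v, .z, .v, .z, .v, .z, .v⟩), (true, ⟨.z, .z, .v, .z, .v, .z, .v, .z, .v⟩), (false, ⟨.z, .z, .v, .z, .v, .z, .v, .z, .v⟩)])]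

theorem wrd_ok : ∀ r ∈ wrd, r.1.1 ≠ r.1.2.1 ∧ wok r.2 = true ∧
    sim (wval r.2) (rm r.1.1 r.1.2.1 r.1.2.2) = true := by
  decide +kernel

/-- `x₀₂(ω)` -/
noncomputable def pp : PSL3 := t 0 2 F4.w

theorem pp_eq : pp = pr (T 0 2 F4.w) := rfl

theorem T_P0 : (T 0 2 F4.w).1 = P0.toM := by
  change tm 0 2 F4.w = P0.toM
  ext i j
  fin_cases i <;> fin_cases j <;> rfl

theorem pp_inv : pp⁻¹ = pp := datPSL.x_inv 0 2 (by decide) F4.w

theorem word_mem (H : Subgroup PSL3)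
    (hH : ∀ y, y ^ 3 = 1 → x0 y = y → y ∈ H ∧ pp * y * pp⁻¹ ∈ H) :
    ∀ w : List (Bool × M3), wok w = true → ∃ M : SL3, M.1 = (wval w).toM ∧ pr M ∈ H := by
  intro w
  induction w with
  | nil =>
    intro _
    refine ⟨1, ?_, by rw [map_one]; exact one_mem _⟩
    ext i j
    fin_cases i <;> fin_cases j <;> rfl
  | cons l w ih =>
    intro h
    unfold wok at h
    rw [Bool.and_eq_true, Bool.and_eq_true] at h
    obtain ⟨⟨h1, h2⟩, h3⟩ := h
    obtain ⟨M, hM, hMH⟩ := ih h3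
    obtain ⟨k1, k2⟩ := hH (pr (sl l.2 (unit_det h1))) ((pow_three_iff rfl).2 h2) (fix_x0_mem h1)
    have key : ∃ N : SL3, N.1 = (letter l).toM ∧ pr N ∈ H := by
      unfold letter
      rcases hl : l.1 with _ | _
      · exact ⟨sl l.2 (unit_det h1), rfl, k1⟩
      · refine ⟨T 0 2 F4.w * sl l.2 (unit_det h1) * T 0 2 F4.w, ?_, ?_⟩
        · rw [if_pos rfl, M3.toM_mul, M3.toM_mul, ← T_P0]
          rfl
        · rw [map_mul, map_mul, ← pp_eq]
          rw [pp_inv] at k2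
          exact k2
    obtain ⟨N, hN, hNH⟩ := key
    refine ⟨N * M, ?_, by rw [map_mul]; exact mul_mem hNH hMH⟩
    change N.1 * M.1 = (M3.mul (letter l) (wval w)).toM
    rw [M3.toM_mul, hN, hM]

theorem root_mem (H : Subgroup PSL3)
    (hH : ∀ y, y ^ 3 = 1 → x0 y = y → y ∈ H ∧ pp * y * pp⁻¹ ∈ H)
    (r : (Fin 3 × Fin 3 × F4) × List (Bool × M3)) (hr : r ∈ wrd) : t r.1.1 r.1.2.1 r.1.2.2 ∈ H := by
  obtain ⟨h0, h1, h2⟩ := wrd_ok r hr
  obtain ⟨M, hM, hMH⟩ := word_mem H hH r.2 h1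
  obtain ⟨c, hc⟩ := mem_sim h2
  have h3 : pr (T r.1.1 r.1.2.1 r.1.2.2) = pr M := by
    apply pr_eq_of_smul (c := c)
    rw [hM, hc, M3.toM_smul]
    congr 1
    unfold rm
    rw [M3.toM_ofM]
    rfl
  change pr (T r.1.1 r.1.2.1 r.1.2.2) ∈ H
  rw [h3]
  exact hMH

theorem gen0 (H : Subgroup PSL3)
    (hH : ∀ y, y ^ 3 = 1 → x0 y = y → y ∈ H ∧ pp * y * pp⁻¹ ∈ H) : H = ⊤ := by
  have h := root_mem H hH
  have h01 : t 0 1 1 ∈ H := h _ (List.mem_cons_self)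
  have h02 : t 0 2 1 ∈ H := h _ (List.mem_cons_of_mem _ List.mem_cons_self)
  have h10 : t 1 0 1 ∈ H := h _ (List.mem_cons_of_mem _ (List.mem_cons_of_mem _ List.mem_cons_self))
  have h12 : t 1 2 1 ∈ H := h _ (List.mem_cons_of_mem _ (List.mem_cons_of_mem _
    (List.mem_cons_of_mem _ List.mem_cons_self)))
  have h20 : t 2 0 1 ∈ H := h _ (List.mem_cons_of_mem _ (List.mem_cons_of_mem _
    (List.mem_cons_of_mem _ (List.mem_cons_of_mem _ List.mem_cons_self))))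
  have h21 : t 2 1 1 ∈ H := h _ (List.mem_cons_of_mem _ (List.mem_cons_of_mem _
    (List.mem_cons_of_mem _ (List.mem_cons_of_mem _ (List.mem_cons_of_mem _ List.mem_cons_self)))))
  have h02w : t 0 2 F4.w ∈ H := h _ (List.mem_cons_of_mem _ (List.mem_cons_of_mem _
    (List.mem_cons_of_mem _ (List.mem_cons_of_mem _ (List.mem_cons_of_mem _
      (List.mem_cons_of_mem _ List.mem_cons_self))))))
  apply gen_pair datPSL
  · intro i j hij
    fin_cases i <;> fin_cases j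
    · exact absurd rfl hij
    · exact h01
    · exact h02
    · exact h10
    · exact absurd rfl hij
    · exact h12
    · exact h20
    · exact h21
    · exact absurd rfl hij
  · intro u
    cases u
    · have := datPSL.x_zero 0 2 (by decide)
      change datPSL.x 0 2 0 ∈ H
      rw [this]; exact one_mem _
    · exact h02
    · exact h02w
    · have h3 := datPSL.x_add 0 2 (by decide) 1 F4.w
      change datPSL.x 0 2 (1 + F4.w) ∈ H
      rw [← h3]
      exact mul_mem h02 h02w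

theorem gen_code : ∀ q : Code, q = cmul ⟨0, 0, 1⟩ (ctau (true, true, 0) q) →
    ctau (true, true, 0) (cmul ⟨0, 0, F4.w⟩ q) = cmul ⟨0, 0, F4.w⟩ q := by decide +kernel

theorem gen (e0 : PSL3 ≃* L) {ξ : MulAut L} (hξ : ξ * ξ = 1)
    (hb : bits ((D e0).tyHom ξ) = (true, true)) (p b : L) (hbb : b * b = 1) (hb1 : b ≠ 1)
    (hξb : ξ b = b) (hpb : p * b = b * p)
    (hp : MulAut.conj p * ξ * (MulAut.conj p)⁻¹ = ξ * MulAut.conj b) (H : Subgroup L)
    (hH : ∀ y, y ^ 3 = 1 → ξ y = y → y ∈ H ∧ p * y * p⁻¹ ∈ H) : H = ⊤ := by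
  obtain ⟨e', h0, rfl⟩ := plx' e0 hξ hb hbb hb1 hξb
  set A := D e' with hA
  obtain ⟨q, rfl⟩ := (comm_iff A).1 hpb
  have h1 : A.el q = A.x 0 2 1 * ξ (A.el q) := by
    apply A.conj_injective
    rw [map_mul, conj_map ξ (A.el q)]
    have h2 : MulAut.conj (A.el q) = ξ * MulAut.conj (A.x 0 2 1) * MulAut.conj (A.el q) * ξ⁻¹ := by
      rw [← hp]; group
    have h3 := conj_comm hξb
    nth_rw 1 [h2]
    rw [h3]
    group
  rw [h0.el, ← A.el_x02, A.el_mul] at h1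
  have h2 := gen_code q (A.inj h1)
  set c := A.el (cmul ⟨0, 0, F4.w⟩ q) with hc
  have hξc : ξ c = c := by rw [hc, h0.el, h2]
  have hpc : A.el q = A.x 0 2 F4.w * c := by
    rw [hc, ← A.el_mul, A.el_x02, ← mul_assoc, A.x_sq 0 2 (by decide), one_mul]
  have h3 : ∀ y : L, y ^ 3 = 1 → ξ y = y → y ∈ H ∧ A.x 0 2 F4.w * y * (A.x 0 2 F4.w)⁻¹ ∈ H := by
    intro y hy hξy
    refine ⟨(hH y hy hξy).1, ?_⟩
    have h4 := (hH (c⁻¹ * y * c) (by
      have h5 := conj_pow (i := 3) (a := c⁻¹) (b := y)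
      rw [inv_inv] at h5
      rw [h5, hy, mul_one, inv_mul_cancel]) (by
      rw [map_mul, map_mul, map_inv, hξc, hξy])).2
    rw [hpc] at h4
    have h5 : A.x 0 2 F4.w * c * (c⁻¹ * y * c) * (A.x 0 2 F4.w * c)⁻¹ =
        A.x 0 2 F4.w * y * (A.x 0 2 F4.w)⁻¹ := by group
    rwa [h5] at h4
  have h4 : H.comap (e' : PSL3 →* L) = ⊤ := by
    apply gen0
    intro y hy hxy
    have h5 : (e' y) ^ 3 = 1 := by rw [← map_pow, hy, map_one]
    have h6 : ξ (e' y) = e' y := by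
      rw [eq_tr e' isTau_x0 h0, tr_e, hxy]
    obtain ⟨h7, h8⟩ := h3 _ h5 h6
    refine ⟨h7, ?_⟩
    rw [mem_comap]
    change e' (pp * y * pp⁻¹) ∈ H
    rw [map_mul, map_mul, map_inv]
    exact h8
  rw [eq_top_iff]
  intro l _
  have h5 : e'.symm l ∈ H.comap (e' : PSL3 →* L) := by rw [h4]; exact mem_top _
  rw [mem_comap] at h5
  change e' (e'.symm l) ∈ H at h5
  rwa [MulEquiv.apply_symm_apply] at h5

/-- **`KF34`** -/
theorem kf34 : LTF.Defs.KF34 := by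
  rintro X _ ⟨F, _, _, hF, ⟨e⟩⟩ ξ hξ E hE h1
  obtain ⟨e'⟩ := nonempty_psl_equiv (n := Fin 3) F hF
  let e0 : PSL3 ≃* X := e'.trans e.symm
  have hb := bits_of_oddC e0 hξ hE h1
  exact
    { toFacts := facts e0 hξ hb
      core := core e0 hξ hb
      inv := inv e0 hξ hb
      ycomm := ycomm e0 hξ hb
      nine := nine e0 hξ hb
      wone := wone' e0 hξ hb
      c2 := KF.c2 e0
      cls := cls e0
      cent := cent e0
      four := four e0
      q8 := q8 e0 hξ hb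
      wsmall := wsmall e0 hξ hb
      pol := pol e0 hξ hb
      gen := gen e0 hξ hb }

end Cfsg.Agent.UGT.FL34.KF
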