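import Cfsg.Agent.UGT.FL34.Main
import Cfsg.Agent.UGT.ThEL34.Facts2

/-!
# Further facts on `L₃(4)`
-/

set_option autoImplicit false
set_option linter.constructorNameAsVariable false
set_option linter.unusedVariables false

namespace Cfsg.Agent.UGT.FL34

open Subgroup Matrix
open Cfsg.Agent.SporadicA.FieldFour
open Cfsg.Agent.LThreeFour Cfsg.Agent.LThreeFour.Dat
open Cfsg.Agent.ONType.Psl (PSL3 SL3 T tm t kap)
open Cfsg.Agent.ClassicalGeometry.AutPSL.Root
open Cfsg.Agent.ClassicalGeometry.AutPSL.Auto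
open Cfsg.Agent.UGT.ThEL34 (fx mem_fx Wild Facts Facts2)
open scoped commutatorElement

/-! ### Computations in `SU(3,2)` -/

/-- the matrix of `x₀₂(1) x₂₀(1)` -/
def R1 : M3 := ⟨.z, .z, .o, .z, .o, .z, .o, .z, .o⟩

/-- another element of order 3 -/
def R2 : M3 := ⟨.o, .o, .w, .o, .z, .v, .v, .w, .o⟩

theorem R1_unit : R1.unit = true := by decide +kernel

theorem R2_unit : R2.unit = true := by decide +kernel

theorem indep_chk : (M3.cube R1).isSc = true ∧ (M3.cube R2).isSc = true ∧ R1.isSc = false ∧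
    R2.isSc = false ∧ (M3.mul (M3.mul R1 R2) R2).isSc = false ∧ (M3.mul R1 R2).isSc = false := by
  decide +kernel

/-- entrywise Frobenius -/
def frM (m : M3) : M3 :=
  ⟨sqr m.a, sqr m.b, sqr m.c, sqr m.d, sqr m.e, sqr m.f, sqr m.g, sqr m.h, sqr m.i⟩

theorem frM_toM (m : M3) (i j : Fin 3) : (frM m).toM i j = frob (m.toM i j) := by
  fin_cases i <;> fin_cases j <;> exact sqr_eq _

/-- the elements of `Y27` fixed by the Frobenius up to scalars -/
def wone_chk : Bool := allL (fun m => !(sim m (frM m)) ||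
  (m.isSc || (sim m R1 || sim m (M3.mul R1 R1)))) Y27

set_option maxRecDepth 100000 in
theorem wone_chk_eq : wone_chk = true := by decide +kernel

theorem mem_sim {m n : M3} (h : sim m n = true) : ∃ c : F4, m = M3.smul c n := by
  unfold sim at h
  have h7 := mem_of_memb h
  simp only [List.mem_cons, List.not_mem_nil, or_false] at h7
  rcases h7 with h7 | h7 | h7
  · refine ⟨1, ?_⟩
    rw [h7]
    have k : ∀ u : F4, F4.mul 1 u = u := by decide
    unfold M3.smul
    simp only [k]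
  · exact ⟨_, h7⟩
  · exact ⟨_, h7⟩

theorem memb_of_eq {m : M3} {l : List M3} (h : m ∈ l) : memb m l = true := by
  induction l with
  | nil => exact absurd h List.not_mem_nil
  | cons y l ih =>
    unfold memb
    rw [Bool.or_eq_true]
    rcases List.mem_cons.1 h with rfl | h
    · left
      simp only [Bool.and_eq_true, eqb_iff, and_self]
    · exact Or.inr (ih h)

theorem sim_of_smul {m n : M3} {c : F4} (hc : c ≠ 0) (h : m = M3.smul c n) : sim m n = true := by
  apply memb_of_eq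
  cases c
  · exact absurd rfl hc
  · have k : ∀ u : F4, F4.mul F4.o u = u := by decide
    rw [h]
    unfold M3.smul
    simp only [k]
    exact List.mem_cons_self
  · rw [h]; exact List.mem_cons_of_mem _ List.mem_cons_self
  · rw [h]; exact List.mem_cons_of_mem _ (List.mem_cons_of_mem _ List.mem_cons_self)

theorem toM_inj {m n : M3} (h : m.toM = n.toM) : m = n := by
  have h1 := congrArg M3.ofM h
  rwa [M3.ofM_toM, M3.ofM_toM] at h1

/-- `r = x₀₂(1) x₂₀(1)` -/
noncomputable def r0 : PSL3 := pr (sl R1 (unit_det R1_unit))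

theorem r0_eq : r0 = t 0 2 1 * t 2 0 1 := by
  show pr _ = pr (T 0 2 1) * pr (T 2 0 1)
  rw [← map_mul]
  unfold sl
  congr 1
  apply Subtype.ext
  show R1.toM = tm 0 2 1 * tm 2 0 1
  ext i j
  rw [Matrix.mul_apply, Fin.sum_univ_three]
  fin_cases i <;> fin_cases j <;> rfl

theorem fix_both {y : PSL3} (hy : y ^ 3 = 1) (hx : x0 y = y) (hf : f0 y = y) :
    y = 1 ∨ y = r0 ∨ y = r0 * r0 := by
  obtain ⟨m, hm, rfl⟩ := fix_x0_le hx
  have h1 := cube_memb hm ((pow_three_iff rfl).1 hy)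
  have h2 : pr (fld frob (sl m (unit_det hm))) = pr (sl m (unit_det hm)) := hf
  obtain ⟨c, hc⟩ := exists_smul_of_pr_eq h2
  have h3 : m = M3.smul c (frM m) := by
    apply toM_inj
    rw [M3.toM_smul]
    ext i j
    have h4 := congrFun (congrFun hc i) j
    rw [Matrix.smul_apply, frM_toM]
    exact h4
  have hc0 : c ≠ 0 := by
    rintro rfl
    have h5 : (sl m (unit_det hm)).1.det = 1 := (sl m (unit_det hm)).2
    rw [hc, zero_smul, Matrix.det_zero] at h5
    exact zero_ne_one h5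
  have h6 := wone_chk_eq
  unfold wone_chk at h6
  have h7 := allL_iff h6 m (mem_of_memb h1)
  rw [sim_of_smul hc0 h3, Bool.not_true, Bool.false_or, Bool.or_eq_true, Bool.or_eq_true] at h7
  rcases h7 with h7 | h7 | h7
  · exact Or.inl ((pr_one_iff (M := sl m (unit_det hm)) rfl).2 h7)
  · right; left
    obtain ⟨d, hd⟩ := mem_sim h7
    symm
    apply pr_eq_of_smul (c := d)
    show m.toM = d • R1.toM
    rw [← M3.toM_smul, ← hd]
  · right; right
    obtain ⟨d, hd⟩ := mem_sim h7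
    unfold r0
    rw [← map_mul]
    symm
    apply pr_eq_of_smul (c := d)
    show m.toM = d • (R1.toM * R1.toM)
    rw [← M3.toM_mul, ← M3.toM_smul, ← hd]

theorem indep0 : ∃ y z : PSL3, y ^ 3 = 1 ∧ x0 y = y ∧ z ^ 3 = 1 ∧ x0 z = z ∧ y ≠ 1 ∧ z ≠ 1 ∧ y ≠ z ∧
    y ≠ z⁻¹ := by
  obtain ⟨h1, h2, h3, h4, h5, h6⟩ := indep_chk
  set Y := sl R1 (unit_det R1_unit) with hY
  set Z := sl R2 (unit_det R2_unit) with hZ
  have e3 : pr Z ^ 3 = 1 := (pow_three_iff rfl).2 h2
  refine ⟨pr Y, pr Z, (pow_three_iff rfl).2 h1, fix_x0_mem R1_unit, e3, fix_x0_mem R2_unit, ?_, ?_,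
    ?_, ?_⟩
  · intro h
    have := (pr_one_iff (M := Y) rfl).1 h
    rw [h3] at this
    exact absurd this (by decide)
  · intro h
    have := (pr_one_iff (M := Z) rfl).1 h
    rw [h4] at this
    exact absurd this (by decide)
  · intro h
    have h7 : pr (Y * Z * Z) = 1 := by
      rw [map_mul, map_mul, h, ← pow_three', e3]
    have h8 := (pr_one_iff (M := Y * Z * Z) (m := M3.mul (M3.mul R1 R2) R2) (by
      rw [M3.toM_mul, M3.toM_mul]; rfl)).1 h7
    rw [h5] at h8
    exact absurd h8 (by decide)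
  · intro h
    have h7 : pr (Y * Z) = 1 := by rw [map_mul, h, inv_mul_cancel]
    have h8 := (pr_one_iff (M := Y * Z) (m := M3.mul R1 R2) (by
      rw [M3.toM_mul]; rfl)).1 h7
    rw [h6] at h8
    exact absurd h8 (by decide)

/-! ### Transport -/

variable {L : Type*} [Group L]

theorem ty_three : ∀ g h : TyG, g * g * g = 1 → h * h * h = 1 → h = 1 ∨ g = 1 ∨ g = h ∨
    g = h⁻¹ := by decide +kernel

theorem out3 (e : PSL3 ≃* L) (b c : MulAut L) (hb : b ^ 3 = 1) (hc : c ^ 3 = 1) :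
    (∃ l, c = MulAut.conj l) ∨ (∃ l, b = MulAut.conj l) ∨
    (∃ l, b = c * MulAut.conj l) ∨ ∃ l, b = c⁻¹ * MulAut.conj l := by
  have h1 : ∀ β : MulAut L, β ^ 3 = 1 → (D e).tyHom β * (D e).tyHom β * (D e).tyHom β = 1 := by
    intro β hβ
    rw [← map_mul, ← map_mul, ← pow_three', hβ, map_one]
  rcases ty_three _ _ (h1 b hb) (h1 c hc) with h | h | h | h
  · exact Or.inl ((D e).inner_iff.1 h)
  · exact Or.inr (Or.inl ((D e).inner_iff.1 h))
  · right; right; left
    obtain ⟨l, hl⟩ := (D e).inner_iff.1 (show (D e).tyHom (c⁻¹ * b) = 1 by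
      rw [map_mul, map_inv, h, inv_mul_cancel])
    exact ⟨l, by rw [← hl]; group⟩
  · right; right; right
    obtain ⟨l, hl⟩ := (D e).inner_iff.1 (show (D e).tyHom (c * b) = 1 by
      rw [map_mul, h, mul_inv_cancel])
    exact ⟨l, by rw [← hl]; group⟩

theorem out4 (e : PSL3 ≃* L) (b : MulAut L) (hb : b ^ 4 = 1) : ∃ l, b * b = MulAut.conj l := by
  rw [← (D e).inner_iff, map_mul]
  exact tyHom_sq (A := D e) (n := 2) hb

section

variable (e : PSL3 ≃* L) {x : MulAut L} (hx : x * x = 1)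
  (hb : bits ((D e).tyHom x) = (true, true))

include hx hb in
theorem indep : ∃ y z : L, y ^ 3 = 1 ∧ x y = y ∧ z ^ 3 = 1 ∧ x z = z ∧ y ≠ 1 ∧ z ≠ 1 ∧ y ≠ z ∧
    y ≠ z⁻¹ := by
  obtain ⟨e', he⟩ := pure1 e hx hb (by decide)
  have h1 := eq_tr e' isTau_x0 he
  obtain ⟨y, z, h2, h3, h4, h5, h6, h7, h8, h9⟩ := indep0
  refine ⟨e' y, e' z, ?_, ?_, ?_, ?_, ?_, ?_, ?_, ?_⟩
  · rw [← map_pow, h2, map_one]
  · rw [h1, tr_e, h3]
  · rw [← map_pow, h4, map_one]
  · rw [h1, tr_e, h5]
  · intro h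
    exact h6 (e'.injective (by rw [h, map_one]))
  · intro h
    exact h7 (e'.injective (by rw [h, map_one]))
  · intro h
    exact h8 (e'.injective h)
  · intro h
    exact h9 (e'.injective (by rw [h, map_inv]))

include hx hb in
theorem wcl (a : MulAut L) (ha : Wild x a) (l : L) (h : ∀ j, a j = j → l * j = j * l) : l = 1 := by
  obtain ⟨e', h'⟩ := wpure e hx hb ha
  have h02 : (D e').x 0 2 1 ∈ fx a := h'.elim fx_x02 fx_x02
  have h20 : (D e').x 2 0 1 ∈ fx a := h'.elim fx_x20 fx_x20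
  have hf : ∀ j, a j = j → MulAut.conj l j = j := by
    intro j hj
    rw [MulAut.conj_apply, h j hj, mul_inv_cancel_right]
  obtain ⟨τ, hτ⟩ := pure_of_fix (A := D e') (hf _ h02) (hf _ h20)
  have h1 : τ = ty1 := hτ.hasTy.unique ((D e').hasTy_conj l)
  rw [h1] at hτ
  exact (D e').conj_eq_one (hτ.ext isTau_one)

include hx hb in
theorem sq4 (s : L) (hs : s * s = 1) (hs1 : s ≠ 1) (hxs : x s = s) : ∃ r, x r = r ∧ r * r = s := by
  obtain ⟨e', h1, rfl⟩ := plx' e hx hb hs hs1 hxs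
  have k : ∃ q : Code, ctau (true, true, 0) q = q ∧ cmul q q = ⟨0, 0, 1⟩ := by decide +kernel
  obtain ⟨q, hq1, hq2⟩ := k
  refine ⟨(D e').el q, ?_, ?_⟩
  · rw [h1.el, hq1]
  · rw [(D e').el_mul, hq2, (D e').el_x02]

include hx hb in
theorem yp (s : L) (hs : s * s = 1) (hs1 : s ≠ 1) (hxs : x s = s) :
    closure {y | y ^ 3 = 1 ∧ x y = y} ⊔ centralizer ({s} : Set L) = ⊤ := by
  obtain ⟨e', h1, rfl⟩ := plx' e hx hb hs hs1 hxs
  set H := closure {y | y ^ 3 = 1 ∧ x y = y} ⊔ centralizer ({(D e').x 0 2 1} : Set L) with hH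
  have hT : (D e').T ≤ H := by
    intro l hl
    apply (le_sup_right : _ ≤ closure {y | y ^ 3 = 1 ∧ x y = y} ⊔
      centralizer ({(D e').x 0 2 1} : Set L))
    rw [mem_centralizer_singleton_iff]
    exact cent_x02.2 hl
  have hr : (D e').x 0 2 1 * (D e').x 2 0 1 ∈ H := by
    apply (le_sup_left : closure {y | y ^ 3 = 1 ∧ x y = y} ≤ H)
    apply Subgroup.subset_closure
    refine ⟨(D e').r_pow, ?_⟩
    rw [map_mul, x02_one _ h1, x20_one _ h1]
  have hs' : (D e').x 0 2 1 ∈ H := hT (by rw [← (D e').el_x02]; exact (D e').el_mem _)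
  apply gen_T (D e') hT
  have h2 : (D e').x 2 0 1 = ((D e').x 0 2 1)⁻¹ * ((D e').x 0 2 1 * (D e').x 2 0 1) := by group
  rw [h2]
  exact mul_mem (inv_mem hs') hr

include hx hb in
theorem wone (a : MulAut L) (ha : Wild x a) (hax : a * x = x * a) (y z : L) (hy : y ^ 3 = 1)
    (hxy : x y = y) (hay : a y = y) (hz : z ^ 3 = 1) (hxz : x z = z) (haz : a z = z) :
    y = 1 ∨ z = 1 ∨ y = z ∨ y = z⁻¹ := by
  obtain ⟨e', h3, h4⟩ := pl2' e hx hb ha.sq (wild_bits e hx hb ha) hax
  -- a field automorphism fixing everything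
  have key : ∃ b : MulAut L, (D e').IsTau (true, false, 0) b ∧ ∀ l, a l = l → x l = l → b l = l := by
    rcases h4 with h4 | h4
    · exact ⟨a, h4, fun l h _ => h⟩
    · refine ⟨a * x, h4.mul h3, ?_⟩
      intro l h h'
      rw [MulAut.mul_apply, h', h]
  obtain ⟨b, hbt, hbf⟩ := key
  have e1 := eq_tr e' isTau_x0 h3
  have e2 := eq_tr e' isTau_f0 hbt
  have k : ∀ y : L, y ^ 3 = 1 → x y = y → a y = y →
      e'.symm y = 1 ∨ e'.symm y = r0 ∨ e'.symm y = r0 * r0 := by
    intro y hy hxy hay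
    have hby := hbf y hay hxy
    rw [e1, fix_symm] at hxy
    rw [e2, fix_symm] at hby
    exact fix_both (by rw [← map_pow, hy, map_one]) hxy hby
  have hr : r0 * r0 * r0 = 1 := by
    rw [← pow_three', r0_eq]; exact datPSL.r_pow
  have hinj : ∀ {u v : L}, e'.symm u = e'.symm v → u = v := fun h => e'.symm.injective h
  rcases k y hy hxy hay with h5 | h5 | h5
  · exact Or.inl (hinj (by rw [h5, map_one]))
  all_goals rcases k z hz hxz haz with h6 | h6 | h6
  · exact Or.inr (Or.inl (hinj (by rw [h6, map_one])))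
  · exact Or.inr (Or.inr (Or.inl (hinj (by rw [h5, h6]))))
  · refine Or.inr (Or.inr (Or.inr (hinj ?_)))
    rw [map_inv, h5, h6, eq_inv_iff_mul_eq_one, ← mul_assoc, hr]
  · exact Or.inr (Or.inl (hinj (by rw [h6, map_one])))
  · refine Or.inr (Or.inr (Or.inr (hinj ?_)))
    rw [map_inv, h5, h6, eq_inv_iff_mul_eq_one, hr]
  · exact Or.inr (Or.inr (Or.inl (hinj (by rw [h5, h6]))))

/-- **The facts on `L₃(4)`** -/
theorem facts (e : PSL3 ≃* L) {x : MulAut L} (hx : x * x = 1)
    (hb : bits ((datPSL.map e).tyHom x) = (true, true)) : Facts x where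
  xx := hx
  cl := cl e
  simp := simp e
  inn := inn e
  chi0 := chi0 e hb
  chi1 := chi1 e hx hb
  xconj := xconj e hx hb
  cmt := cmt e
  solx := solx e hx hb
  sols := sols e
  comm := comm e hx hb
  irr := irr e hx hb
  three := three e hx hb
  indep := indep e hx hb
  out3 := out3 e
  wsimp := wsimp e hx hb
  wperf := wperf e hx hb
  weven := weven e hx hb
  wgen := wgen e hx hb
  wcl := wcl e hx hb
  wpair := wpair e hx hb
  wthree := wthree e hx hb
  p3 := p3 e
  p4 := p4 e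
  p4' := p4' e
  p5 := p5 e hx hb

theorem facts2 (e : PSL3 ≃* L) {x : MulAut L} (hx : x * x = 1)
    (hb : bits ((datPSL.map e).tyHom x) = (true, true)) : Facts2 x where
  toFacts := facts e hx hb
  out4 := out4 e
  sq4 := sq4 e hx hb
  yp := yp e hx hb
  wone := wone e hx hb

end

end Cfsg.Agent.UGT.FL34
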