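import Cfsg.Agent.UGT.FL34.Fix

/-!
# Fixed points of the unitary polarity: `3² : Q₈`
-/

set_option autoImplicit false
set_option linter.constructorNameAsVariable false
set_option linter.unusedVariables false

namespace Cfsg.Agent.UGT.FL34

open Matrix
open Cfsg.Agent.SporadicA.FieldFour
open Cfsg.Agent.LThreeFour Cfsg.Agent.LThreeFour.Dat
open Cfsg.Agent.ONType.Psl (PSL3 SL3 T t tm)
open Cfsg.Agent.ONType.OuterL (rv rv_ne rv_rv J Jm coe_J cj_J_T itr_T fld_T cj_eq_of charP_two
  neg_eq det_Jm)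
open Cfsg.Agent.ClassicalGeometry.AutPSL.Root
open Cfsg.Agent.ClassicalGeometry.AutPSL.Auto
open Cfsg.Agent.UGT.ThEL34 (fx mem_fx)

theorem fld_itr (M : SL3) : fld frob (itr M) = itr (fld frob M) := by
  apply Subtype.ext
  have h : (itr (fld frob M)).1 = (((fld frob M)⁻¹ : SL3).1)ᵀ := coe_itr _
  rw [h, ← map_inv]
  ext i j
  rfl

theorem x0_pr (M : SL3) : x0 (pr M) = pr (cj J (itr (fld frob M))) := by
  show pr (cj J (fld frob (itr M))) = _
  rw [fld_itr]

/-- matrices of codes -/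
def sl (m : M3) (h : m.det = 1) : SL3 := ⟨m.toM, by rw [M3.det_toM]; exact h⟩

theorem unit_det {m : M3} (h : m.unit = true) : m.det = 1 := by
  unfold M3.unit at h
  simp only [Bool.and_eq_true, eqb_iff] at h
  exact h.2.2.2.2.2.2

/-- the elements fixed by the polarity are images of unitary matrices -/
theorem fix_x0_le {l : PSL3} (h : x0 l = l) :
    ∃ (m : M3) (hm : m.unit = true), pr (sl m (unit_det hm)) = l := by
  obtain ⟨M, rfl⟩ := pr_surjective l
  rw [x0_pr] at h
  obtain ⟨c, hc⟩ := exists_smul_of_pr_eq h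
  have hMJ : M.1 * Jm * (fld frob M).1ᵀ = c • Jm := by
    nth_rw 1 [hc]
    rw [Matrix.smul_mul, Matrix.smul_mul, cj_itr_mul]
  have he : ∀ i k, M.1 i 0 * frob (M.1 k 2) + M.1 i 1 * frob (M.1 k 1) + M.1 i 2 * frob (M.1 k 0) =
      c * Jm i k := by
    intro i k
    have h1 := mul_Jm_mul M.1 (fld frob M).1 i k
    rw [hMJ] at h1
    exact h1.symm
  have hdet : M.1.det = 1 := M.2
  have hc0 : c ≠ 0 := by
    rintro rfl
    have h2 : M.1 = 0 := by rw [hc, zero_smul]
    rw [h2, Matrix.det_zero] at hdet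
    exact zero_ne_one hdet
  have hc1 : c = 1 := by
    have h1 := he 1 1
    have j11 : Jm 1 1 = 1 := by decide
    rw [j11, mul_one, frob_apply, frob_apply, frob_apply] at h1
    have k : ∀ a b d c : F4, c ≠ 0 → a * (d * d) + b * (b * b) + d * (a * a) = c → c = 1 := by
      decide
    exact k _ _ _ _ hc0 h1
  subst hc1
  simp only [one_mul, frob_apply] at he
  have hu : (M3.ofM M.1).unit = true := by
    unfold M3.unit
    simp only [Bool.and_eq_true, eqb_iff, hm3_eq]
    refine ⟨he 0 0, he 2 2, he 0 2, he 0 1, he 2 1, he 1 1, ?_⟩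
    have h1 := M3.det_toM (M3.ofM M.1)
    rw [M3.toM_ofM, hdet] at h1
    exact h1.symm
  refine ⟨M3.ofM M.1, hu, ?_⟩
  congr 1
  apply Subtype.ext
  exact M3.toM_ofM M.1

theorem frob_frob (a : F4) : frob (frob a) = a := by
  rw [frob_apply, frob_apply]; revert a; decide

theorem herm_symm (a b c d e f : F4) :
    d * frob c + e * frob b + f * frob a = frob (a * frob f + b * frob e + c * frob d) := by
  rw [map_add, map_add, map_mul, map_mul, map_mul, frob_frob, frob_frob, frob_frob]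
  ring

theorem fix_x0_mem {m : M3} (hm : m.unit = true) :
    x0 (pr (sl m (unit_det hm))) = pr (sl m (unit_det hm)) := by
  rw [x0_pr]
  congr 1
  apply cj_itr_eq
  have h := hm
  unfold M3.unit at h
  simp only [Bool.and_eq_true, eqb_iff, hm3_eq, ← frob_apply] at h
  obtain ⟨h1, h2, h3, h4, h5, h6, h7⟩ := h
  ext i k
  rw [mul_Jm_mul]
  show m.toM i 0 * frob (m.toM k 2) + m.toM i 1 * frob (m.toM k 1) + m.toM i 2 * frob (m.toM k 0) =
    Jm i k
  have z0 : frob (0 : F4) = 0 := map_zero frob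
  have z1 : frob (1 : F4) = 1 := map_one frob
  fin_cases i <;> fin_cases k
  · exact h1
  · exact h4
  · exact h3
  · show m.d * frob m.c + m.e * frob m.b + m.f * frob m.a = 0
    rw [herm_symm, h4]; exact z0
  · exact h6
  · show m.d * frob m.i + m.e * frob m.h + m.f * frob m.g = 0
    rw [herm_symm, h5]; exact z0
  · show m.g * frob m.c + m.h * frob m.b + m.i * frob m.a = 1
    rw [herm_symm, h3]; exact z1
  · exact h5
  · exact h2

theorem isSc_iff (x : M3) : x.isSc = true ↔ ∃ c : F4, x.toM = c • (1 : Matrix (Fin 3) (Fin 3) F4) := by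
  unfold M3.isSc
  simp only [Bool.and_eq_true, eqb_iff]
  constructor
  · rintro ⟨h1, h2, h3, h4, h5, h6, h7, h8⟩
    refine ⟨x.a, ?_⟩
    ext i j
    fin_cases i <;> fin_cases j
    · show x.a = x.a * 1
      rw [mul_one]
    · show x.b = x.a * 0
      rw [mul_zero, h1]; rfl
    · show x.c = x.a * 0
      rw [mul_zero, h2]; rfl
    · show x.d = x.a * 0
      rw [mul_zero, h3]; rfl
    · show x.e = x.a * 1
      rw [mul_one, h7]
    · show x.f = x.a * 0
      rw [mul_zero, h4]; rfl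
    · show x.g = x.a * 0
      rw [mul_zero, h5]; rfl
    · show x.h = x.a * 0
      rw [mul_zero, h6]; rfl
    · show x.i = x.a * 1
      rw [mul_one, h7, h8]
  · rintro ⟨c, hc⟩
    have h : ∀ i j, x.toM i j = c * (1 : Matrix (Fin 3) (Fin 3) F4) i j := by
      intro i j; rw [hc]; rfl
    have h0 : c * (0 : F4) = F4.z := mul_zero c
    have h1 : ∀ i j, i ≠ j → x.toM i j = F4.z := by
      intro i j hij
      rw [h i j, Matrix.one_apply_ne hij, h0]
    have h2 : ∀ i, x.toM i i = c := by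
      intro i
      rw [h i i, Matrix.one_apply_eq, mul_one]
    exact ⟨h1 0 1 (by decide), h1 0 2 (by decide), h1 1 0 (by decide), h1 1 2 (by decide),
      h1 2 0 (by decide), h1 2 1 (by decide), (h2 0).trans (h2 1).symm, (h2 1).trans (h2 2).symm⟩

theorem pr_one_iff {M : SL3} {m : M3} (h : M.1 = m.toM) : pr M = 1 ↔ m.isSc = true := by
  rw [isSc_iff]
  constructor
  · intro h1
    rw [← map_one pr] at h1
    obtain ⟨c, hc⟩ := exists_smul_of_pr_eq h1.symm
    refine ⟨c, ?_⟩
    rw [← h, hc]; rfl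
  · rintro ⟨c, hc⟩
    rw [← map_one pr]
    symm
    apply pr_eq_of_smul (c := c)
    rw [h, hc]; rfl

theorem cube_coe {M : SL3} {m : M3} (h : M.1 = m.toM) : (M * M * M).1 = (M3.cube m).toM := by
  show M.1 * M.1 * M.1 = _
  unfold M3.cube
  rw [M3.toM_mul, M3.toM_mul, h]

theorem pow_three_iff {M : SL3} {m : M3} (h : M.1 = m.toM) :
    pr M ^ 3 = 1 ↔ (M3.cube m).isSc = true := by
  rw [← pr_one_iff (cube_coe h), map_mul, map_mul, pow_three']

theorem cube_memb {m : M3} (hm : m.unit = true) (h : (M3.cube m).isSc = true) :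
    memb m Y27 = true := by
  have h1 := chk_of_unit m hm
  unfold chk at h1
  simp only [Bool.and_eq_true] at h1
  have h2 := h1.2
  rw [h, Bool.not_true, Bool.false_or] at h2
  exact h2

theorem twelve {l : PSL3} (h : x0 l = l) : (l ^ 4) ^ 3 = 1 := by
  obtain ⟨m, hm, rfl⟩ := fix_x0_le h
  have h1 := chk_of_unit m hm
  unfold chk at h1
  simp only [Bool.and_eq_true] at h1
  have h2 := h1.1
  set M := sl m (unit_det hm) with hM
  have e : (M * M * (M * M)).1 = (M3.mul (M3.mul m m) (M3.mul m m)).toM := by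
    rw [M3.toM_mul, M3.toM_mul]; rfl
  have h3 := (pow_three_iff e).2 h2
  have e4 : pr (M * M * (M * M)) = pr M ^ 4 := by
    rw [map_mul, map_mul, pow_succ (pr M) 3, pow_three', ← mul_assoc]
  rwa [e4] at h3

theorem three0 {y z : PSL3} (hy : y ^ 3 = 1) (hxy : x0 y = y) (hz : z ^ 3 = 1) (hxz : x0 z = z) :
    (y * z) ^ 3 = 1 := by
  obtain ⟨m, hm, rfl⟩ := fix_x0_le hxy
  obtain ⟨n, hn, rfl⟩ := fix_x0_le hxz
  have h1 := cube_memb hm ((pow_three_iff rfl).1 hy)
  have h2 := cube_memb hn ((pow_three_iff rfl).1 hz)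
  have h3 := three_chk_eq
  unfold three_chk at h3
  have h4 := allL_iff (allL_iff h3 m (mem_of_memb h1)) n (mem_of_memb h2)
  rw [← map_mul]
  refine (pow_three_iff ?_).2 h4
  rw [M3.toM_mul]; rfl

theorem irr0 {y z : PSL3} (hy : y ^ 3 = 1) (hy1 : y ≠ 1) (hxy : x0 y = y) (hz : z ^ 3 = 1)
    (hxz : x0 z = z) : z = 1 ∨ ∃ r, x0 r = r ∧ z = r * y * r⁻¹ := by
  obtain ⟨m, hm, rfl⟩ := fix_x0_le hxy
  obtain ⟨n, hn, rfl⟩ := fix_x0_le hxz
  have h1 := cube_memb hm ((pow_three_iff rfl).1 hy)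
  have h2 := cube_memb hn ((pow_three_iff rfl).1 hz)
  have h3 := irr_chk_eq
  unfold irr_chk at h3
  have h4 := allL_iff h3 m (mem_of_memb h1)
  simp only [Bool.or_eq_true] at h4
  rcases h4 with h4 | h4
  · exact absurd ((pr_one_iff (M := sl m (unit_det hm)) rfl).2 h4) hy1
  have h5 := allL_iff h4 n (mem_of_memb h2)
  simp only [Bool.or_eq_true] at h5
  rcases h5 with h5 | h5
  · exact Or.inl ((pr_one_iff (M := sl n (unit_det hn)) rfl).2 h5)
  obtain ⟨r, hr, hs⟩ := exL_iff h5
  have hru := allL_iff R8_unit r hr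
  right
  refine ⟨pr (sl r (unit_det hru)), fix_x0_mem hru, ?_⟩
  have h6 : ∃ c : F4, M3.mul r m = M3.smul c (M3.mul n r) := by
    unfold sim at hs
    have h7 := mem_of_memb hs
    simp only [List.mem_cons, List.not_mem_nil, or_false] at h7
    rcases h7 with h7 | h7 | h7
    · refine ⟨1, ?_⟩
      rw [h7]
      have k : ∀ u : F4, F4.mul 1 u = u := by decide
      unfold M3.smul
      simp only [k]
    · exact ⟨_, h7⟩
    · exact ⟨_, h7⟩
  obtain ⟨c, hc⟩ := h6
  have h8 : pr (sl n (unit_det hn) * sl r (unit_det hru)) =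
      pr (sl r (unit_det hru) * sl m (unit_det hm)) := by
    apply pr_eq_of_smul (c := c)
    show r.toM * m.toM = c • (n.toM * r.toM)
    rw [← M3.toM_mul, ← M3.toM_mul, ← M3.toM_smul, hc]
  rw [map_mul, map_mul] at h8
  rw [← h8, mul_inv_cancel_right]

/-- the elements of order 3 -/
def Yg : Subgroup (fx x0) where
  carrier := {y | y ^ 3 = 1}
  mul_mem' := by
    intro y z hy hz
    apply Subtype.ext
    exact three0 (congrArg Subtype.val hy) y.2 (congrArg Subtype.val hz) z.2
  one_mem' := one_pow 3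
  inv_mem' := by
    intro y hy
    show y⁻¹ ^ 3 = 1
    rw [inv_pow, show y ^ 3 = 1 from hy, inv_one]

instance : Yg.Normal := by
  constructor
  intro y hy g
  show (g * y * g⁻¹) ^ 3 = 1
  rw [conj_pow, show y ^ 3 = 1 from hy, mul_one, mul_inv_cancel]

theorem solv0 : Group.IsSolvable (fx x0) := by
  have hfin : Finite PSL3 := datPSL.finite
  have h3 : Fact (Nat.Prime 3) := ⟨Nat.prime_three⟩
  have h2 : Fact (Nat.Prime 2) := ⟨Nat.prime_two⟩
  have hY : IsPGroup 3 Yg := by
    rintro ⟨y, hy⟩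
    exact ⟨1, Subtype.ext hy⟩
  have hQ : IsPGroup 2 (fx x0 ⧸ Yg) := by
    intro q
    obtain ⟨g, rfl⟩ := QuotientGroup.mk_surjective q
    refine ⟨2, ?_⟩
    rw [← QuotientGroup.mk_pow, QuotientGroup.eq_one_iff]
    show (g ^ (2 ^ 2)) ^ 3 = 1
    apply Subtype.ext
    exact twelve g.2
  have s1 : Group.IsNilpotent Yg := hY.isNilpotent
  have s2 : Group.IsNilpotent (fx x0 ⧸ Yg) := hQ.isNilpotent
  have t1 : Group.IsSolvable Yg := inferInstance
  have t2 : Group.IsSolvable (fx x0 ⧸ Yg) := inferInstance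
  exact Group.isSolvable_of_ker_le_range Yg.subtype (QuotientGroup.mk' Yg) (by
    rw [Subgroup.range_subtype, QuotientGroup.ker_mk'])

end Cfsg.Agent.UGT.FL34
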