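import Cfsg.Agent.UGT.FL34.FixX
import Cfsg.Agent.LThreeFour.Norm

/-!
# Coordinates adapted to involutory outer automorphisms of `L₃(4)`
-/

set_option autoImplicit false
set_option linter.constructorNameAsVariable false
set_option linter.unusedVariables false

namespace Cfsg.Agent.UGT.FL34

open Subgroup
open Cfsg.Agent.SporadicA.FieldFour
open Cfsg.Agent.LThreeFour Cfsg.Agent.LThreeFour.Dat
open Cfsg.Agent.ONType.Psl (PSL3)
open Cfsg.Agent.UGT.ThEL34

variable {L : Type*} [Group L]

/-- coordinates given by an isomorphism with `PSL(3,4)` -/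
noncomputable abbrev D (e : PSL3 ≃* L) : Dat L := datPSL.map e

theorem bits_of_hom : ∀ g h : TyG, bitsHom g = bitsHom h → bits g = bits h := by decide +kernel

theorem hom_of_bits : ∀ g h : TyG, bits g = bits h → bitsHom g = bitsHom h := by decide +kernel

theorem hasTy_map {A : Dat L} (γ : MulAut L) {β : MulAut L} {τ : Ty}
    (h : A.HasTy (γ⁻¹ * β * γ) τ) : (A.map γ).HasTy β τ := by
  obtain ⟨l, hl⟩ := h
  have h1 := isTau_map (A := A) (γ : L ≃* L) hl
  refine ⟨γ l, ?_⟩
  rw [tr_conj] at h1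
  have e : γ * (MulAut.conj l * (γ⁻¹ * β * γ)) * γ⁻¹ = MulAut.conj (γ l) * β := by
    rw [conj_map]; group
  rwa [e] at h1

theorem bits_conj (A : Dat L) (γ β : MulAut L) :
    bits (A.tyHom (γ⁻¹ * β * γ)) = bits (A.tyHom β) := by
  apply bits_of_hom
  rw [map_mul, map_mul, map_mul, map_mul, map_inv, map_inv, mul_comm, mul_inv_cancel_left]

theorem bits_map (A : Dat L) (γ β : MulAut L) :
    bits ((A.map γ).tyHom β) = bits (A.tyHom β) := by
  have h := hasTy_map (A := A) γ (β := β) (A.hasTy_tyHom _)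
  rw [h.tyHom, ← bits_conj A γ β]

theorem D_map (e : PSL3 ≃* L) (γ : MulAut L) : (D e).map γ = D (e.trans γ) := rfl

theorem bits_indep (e e' : PSL3 ≃* L) (β : MulAut L) :
    bits ((D e').tyHom β) = bits ((D e).tyHom β) := by
  have h : e' = e.trans ((e.symm.trans e' : MulAut L) : L ≃* L) := by
    apply MulEquiv.ext
    intro l
    show e' l = e' (e.symm (e l))
    rw [MulEquiv.symm_apply_apply]
  rw [h, ← D_map]
  exact bits_map _ _ _

theorem mem_MT_map {A : Dat L} {γ β : MulAut L} (h : γ * β * γ⁻¹ ∈ A.MT) :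
    β ∈ (A.map (γ⁻¹ : MulAut L)).MT := by
  rw [mem_MT_iff] at h ⊢
  show β (γ⁻¹ (A.x 0 2 1)) = γ⁻¹ (A.x 0 2 1)
  nth_rw 2 [← h]
  rw [MulAut.mul_apply, MulAut.mul_apply, MulAut.inv_apply_self]

/-! ### 2-groups generated by commuting involutions -/

theorem two_closure {G : Type*} [Group G] {S : Set G} (h2 : ∀ a ∈ S, a * a = 1)
    (hc : ∀ a ∈ S, ∀ b ∈ S, a * b = b * a) : IsPGroup 2 (closure S) := by
  have h1 : closure S ≤ centralizer S := by
    rw [closure_le]
    intro a ha
    rw [SetLike.mem_coe, mem_centralizer_iff]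
    intro b hb
    exact hc b hb a ha
  have h3 : closure S ≤ centralizer (closure S : Set G) := by
    rw [closure_le]
    intro a ha
    rw [SetLike.mem_coe, mem_centralizer_iff]
    intro b hb
    exact ((mem_centralizer_iff.1 (h1 hb)) a ha).symm
  have h4 : ∀ a ∈ closure S, a * a = 1 := by
    intro a ha
    induction ha using closure_induction with
    | mem a ha => exact h2 a ha
    | one => exact one_mul 1
    | mul a b ha hb iha ihb =>
      have h5 := mem_centralizer_iff.1 (h3 ha) b hb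
      calc a * b * (a * b) = a * (b * a) * b := by group
        _ = (a * a) * (b * b) := by rw [h5]; group
        _ = 1 := by rw [iha, ihb, one_mul]
    | inv a ha ih =>
      rw [← mul_inv_rev, ih, inv_one]
  rintro ⟨a, ha⟩
  refine ⟨1, Subtype.ext ?_⟩
  show a ^ (2 ^ 1) = 1
  rw [pow_one, pow_two, h4 a ha]

/-! ### Adapted coordinates -/

theorem adj : ∀ τ : Ty, τ.mul τ = ty1 → τ ≠ ty1 →
    ∃ k : Fin 3, Ty.mul (Ty.mul (false, false, k) τ) (Ty.inv (false, false, k)) =
      (τ.1, τ.2.1, 0) := by decide +kernel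

theorem x02_one (A : Dat L) {τ : Ty} {β : MulAut L} (h : A.IsTau τ β) :
    β (A.x 0 2 1) = A.x 0 2 1 := by
  have e : ∀ b, fr b (1 : F4) = 1 := by decide
  rw [h.x02, e]

theorem x20_one (A : Dat L) {τ : Ty} {β : MulAut L} (h : A.IsTau τ β) :
    β (A.x 2 0 1) = A.x 2 0 1 := by
  have e : ∀ b, fr b (1 : F4) = 1 := by decide
  rw [h.x20, e]

/-- a 2-group of automorphisms containing an outer involutory automorphism -/
theorem pl (e : PSL3 ≃* L) (Q : Subgroup (MulAut L)) (hQ : IsPGroup 2 Q) {α : MulAut L}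
    (hα : α ∈ Q) (h2 : α * α = 1) {b1 b2 : Bool} (hb : bits ((D e).tyHom α) = (b1, b2))
    (hne : (b1, b2) ≠ (false, false)) :
    ∃ e' : PSL3 ≃* L, (D e').IsTau (b1, b2, 0) α ∧ ∀ β ∈ Q, β ∈ (D e').MT := by
  set τ := ((D e).tyHom α).ty with hτ
  have hty : (D e).HasTy α τ := (D e).hasTy_tyHom α
  have e1 : τ.1 = b1 := congrArg Prod.fst hb
  have e2 : τ.2.1 = b2 := congrArg Prod.snd hb
  have hτ1 : τ ≠ ty1 := by
    intro h
    apply hne
    rw [← e1, ← e2, h]
  have hττ : τ.mul τ = ty1 := by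
    have h1 := hty.mul hty
    rw [h2] at h1
    exact h1.unique (D e).hasTy_one
  obtain ⟨l, hl, hl'⟩ := exists_conj_pure Q hQ hα h2 hτ1 hty
  have h3 := isTau_map_conj (MulAut.conj l) hl
  have h4 : ∀ β ∈ Q, β ∈ ((D e).map ((MulAut.conj l)⁻¹ : MulAut L)).MT :=
    fun β hβ => mem_MT_map (hl' β hβ)
  rw [D_map] at h3 h4
  set e' : PSL3 ≃* L := e.trans ((MulAut.conj l)⁻¹ : MulAut L) with he'
  obtain ⟨k, hk⟩ := adj τ hττ hτ1
  set δ : MulAut L := tr e' (dl k) with hδ
  have h5 : (D e').IsTau (false, false, k) δ := isTau_map e' (isTau_dl k)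
  have h6 := (h5.mul h3).mul h5.inv
  rw [hk, e1, e2] at h6
  refine ⟨e'.trans (δ⁻¹ : MulAut L), by rw [← D_map]; exact isTau_map_conj δ h6, ?_⟩
  intro β hβ
  rw [← D_map]
  apply mem_MT_map
  exact mul_mem (mul_mem h5.mem_MT (h4 β hβ)) (inv_mem h5.mem_MT)

/-- an inner automorphism in `MT` -/
theorem conj_mem {A : Dat L} {s : L} (h : MulAut.conj s ∈ A.MT) : ∃ p, s = A.el p := by
  obtain ⟨p, hp⟩ := mem_MT_inner h (A.tyHom_conj s)
  exact ⟨p, A.conj_injective hp⟩

theorem conj_comm {β : MulAut L} {s : L} (h : β s = s) : β * MulAut.conj s = MulAut.conj s * β := by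
  have h1 := conj_map β s
  rw [h] at h1
  calc β * MulAut.conj s = β * MulAut.conj s * β⁻¹ * β := by group
    _ = MulAut.conj s * β := by rw [← h1]

theorem fx_tt : ∀ p : Code, ctau (true, true, 0) p = p → cmul p p = cone → p = cone ∨
    p = ⟨0, 0, 1⟩ := by decide +kernel

theorem el_sq {A : Dat L} {p : Code} (h : A.el p * A.el p = 1) : cmul p p = cone := by
  rwa [A.el_mul, A.el_eq_one] at h

/-- a unitary polarity and a fixed involution, with another automorphism -/
theorem plx' (e : PSL3 ≃* L) {x : MulAut L} (hx : x * x = 1)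
    (hb : bits ((D e).tyHom x) = (true, true)) {s : L} (hs : s * s = 1) (hs1 : s ≠ 1) (hxs : x s = s) :
    ∃ e' : PSL3 ≃* L, (D e').IsTau (true, true, 0) x ∧ s = (D e').x 0 2 1 := by
  have hQ : IsPGroup 2 (closure ({x, MulAut.conj s} : Set (MulAut L))) := by
    apply two_closure
    · rintro a (rfl | rfl)
      · exact hx
      · rw [← map_mul, hs, map_one]
    · rintro a (rfl | rfl) b (rfl | rfl)
      · rfl
      · exact conj_comm hxs
      · exact (conj_comm hxs).symm
      · rfl
  obtain ⟨e', h1, h2⟩ := pl e _ hQ (subset_closure (Set.mem_insert _ _)) hx hb (by decide)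
  obtain ⟨p, hp⟩ := conj_mem (h2 (MulAut.conj s) (subset_closure (Set.mem_insert_of_mem _ rfl)))
  refine ⟨e', h1, ?_⟩
  have k1 : ctau (true, true, 0) p = p := (D e').inj (by rw [← h1.el, ← hp, hxs])
  have k2 : cmul p p = cone := el_sq (A := D e') (by rw [← hp, hs])
  rcases fx_tt p k1 k2 with h3 | h3
  · exfalso
    apply hs1
    rw [hp, h3]; exact (D e').el_one
  · rw [hp, h3, (D e').el_x02]

theorem wild_bits (e : PSL3 ≃* L) {x a : MulAut L} (hx : x * x = 1)
    (hb : bits ((D e).tyHom x) = (true, true)) (ha : Wild x a) :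
    bits ((D e).tyHom a) = (true, false) ∨ bits ((D e).tyHom a) = (false, true) := by
  have hx1 : (D e).tyHom x = ⟨(true, true, 0)⟩ := by
    apply tt_unique _ _ hb
    rw [← map_mul, hx, map_one]
  have h1 := ty_sq ((D e).tyHom a) (by rw [← map_mul, ha.sq, map_one])
  rcases h1 with h1 | h1 | h1 | h1
  · obtain ⟨l, hl⟩ := (D e).inner_iff.1 h1
    exact absurd hl (ha.inn l)
  · exact Or.inl h1
  · exact Or.inr h1
  · rw [← hx1] at h1
    have h2 : (D e).tyHom (x⁻¹ * a) = 1 := by
      rw [map_mul, map_inv, h1, inv_mul_cancel]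
    obtain ⟨l, hl⟩ := (D e).inner_iff.1 h2
    exact absurd (by rw [← hl]; group) (ha.xinn l)

theorem fx_tf : ∀ p : Code, ctau (true, false, 0) p = p → cmul p p = cone → p ≠ cone →
    ∃ q, ctau (true, false, 0) q = q ∧ (cmul (cmul q p) (cinv q) = ⟨0, 0, 1⟩ ∨
      cmul (cmul q p) (cinv q) = ⟨1, 0, 0⟩ ∨ cmul (cmul q p) (cinv q) = ⟨0, 1, 0⟩) := by
  decide +kernel

theorem fx_ft : ∀ p : Code, ctau (false, true, 0) p = p → p.a = 0 ∧ p.b = 0 := by
  decide +kernel

/-- conjugating coordinates by a fixed element -/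
theorem isTau_conj_fix {e : PSL3 ≃* L} {τ : Ty} {a : MulAut L} (h : (D e).IsTau τ a) {g : L}
    (hg : a g = g) : (D (e.trans ((MulAut.conj g)⁻¹ : MulAut L))).IsTau τ a := by
  rw [← D_map]
  apply isTau_map_conj
  have h1 : MulAut.conj g * a * (MulAut.conj g)⁻¹ = a := by
    rw [← conj_comm hg]; group
  rwa [h1]

/-- a wild automorphism and a fixed involution -/
theorem pla (e : PSL3 ≃* L) {a : MulAut L} (ha : a * a = 1)
    (hb : bits ((D e).tyHom a) = (true, false) ∨ bits ((D e).tyHom a) = (false, true))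
    {i : L} (hi : i * i = 1) (hi1 : i ≠ 1) (hai : a i = i) :
    ∃ e' : PSL3 ≃* L, ((D e').IsTau (true, false, 0) a ∨ (D e').IsTau (false, true, 0) a) ∧
      ∃ c, c ≠ 0 ∧ i = (D e').x 0 2 c := by
  have hQ : IsPGroup 2 (closure ({a, MulAut.conj i} : Set (MulAut L))) := by
    apply two_closure
    · rintro b (rfl | rfl)
      · exact ha
      · rw [← map_mul, hi, map_one]
    · rintro b (rfl | rfl) c (rfl | rfl)
      · rfl
      · exact conj_comm hai
      · exact (conj_comm hai).symm
      · rfl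
  have hmem : a ∈ closure ({a, MulAut.conj i} : Set (MulAut L)) :=
    subset_closure (Set.mem_insert _ _)
  have hmem' : MulAut.conj i ∈ closure ({a, MulAut.conj i} : Set (MulAut L)) :=
    subset_closure (Set.mem_insert_of_mem _ rfl)
  rcases hb with hb | hb
  · obtain ⟨e', h1, h2⟩ := pl e _ hQ hmem ha hb (by decide)
    obtain ⟨p, hp⟩ := conj_mem (h2 _ hmem')
    have hp1 : ctau (true, false, 0) p = p := (D e').inj (by rw [← h1.el, ← hp, hai])
    have hp2 : cmul p p = cone := el_sq (A := D e') (by rw [← hp, hi])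
    have hp3 : p ≠ cone := by
      rintro rfl
      exact hi1 (hp.trans (D e').el_one)
    obtain ⟨q, hq, hq'⟩ := fx_tf p hp1 hp2 hp3
    have hcj : (D e').el q * i * ((D e').el q)⁻¹ = (D e').el (cmul (cmul q p) (cinv q)) := by
      rw [hp, (D e').el_inv, (D e').el_mul, (D e').el_mul]
    have hfq : a ((D e').el q) = (D e').el q := by rw [h1.el, hq]
    have hf : ∀ k l : Fin 3, k ≠ l → a ((D e').x k l 1) = (D e').x k l 1 := by
      intro k l hkl
      rw [h1 k l hkl]
      have : ∀ k l, pu (true, false, 0) k l 1 = 1 := by decide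
      show (D e').x k l (pu (true, false, 0) k l 1) = _
      rw [this]
    have hfn : ∀ k l : Fin 3, k ≠ l → a ((D e').x k l 1 * (D e').x l k 1 * (D e').x k l 1) =
        (D e').x k l 1 * (D e').x l k 1 * (D e').x k l 1 := by
      intro k l hkl
      rw [map_mul, map_mul, hf k l hkl, hf l k hkl.symm]
    have key : ∃ g, a g = g ∧ g * i * g⁻¹ = (D e').x 0 2 1 := by
      rcases hq' with h3 | h3 | h3
      · refine ⟨(D e').el q, hfq, ?_⟩
        rw [hcj, h3, (D e').el_x02]
      · set n := (D e').x 1 2 1 * (D e').x 2 1 1 * (D e').x 1 2 1 with hn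
        refine ⟨n⁻¹ * (D e').el q, by rw [map_mul, map_inv, hfn 1 2 (by decide), hfq], ?_⟩
        have h4 := (D e').x_wey 1 2 0 1 (by decide) (by decide) 1
        calc n⁻¹ * (D e').el q * i * (n⁻¹ * (D e').el q)⁻¹
            = n⁻¹ * ((D e').el q * i * ((D e').el q)⁻¹) * n := by group
          _ = n⁻¹ * (D e').x 0 1 1 * n := by rw [hcj, h3, (D e').el_x01]
          _ = _ := h4
      · set n := (D e').x 0 1 1 * (D e').x 1 0 1 * (D e').x 0 1 1 with hn
        refine ⟨n⁻¹ * (D e').el q, by rw [map_mul, map_inv, hfn 0 1 (by decide), hfq], ?_⟩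
        have h4 := (D e').x_wey 0 1 1 2 (by decide) (by decide) 1
        calc n⁻¹ * (D e').el q * i * (n⁻¹ * (D e').el q)⁻¹
            = n⁻¹ * ((D e').el q * i * ((D e').el q)⁻¹) * n := by group
          _ = n⁻¹ * (D e').x 1 2 1 * n := by rw [hcj, h3, (D e').el_x12]
          _ = _ := h4
    obtain ⟨g, hg, hgi⟩ := key
    refine ⟨e'.trans ((MulAut.conj g)⁻¹ : MulAut L), Or.inl (isTau_conj_fix h1 hg), 1, by decide, ?_⟩
    show i = (MulAut.conj g)⁻¹ ((D e').x 0 2 1)
    rw [← hgi, MulAut.conj_inv_apply]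
    group
  · obtain ⟨e', h1, h2⟩ := pl e _ hQ hmem ha hb (by decide)
    obtain ⟨p, hp⟩ := conj_mem (h2 _ hmem')
    have hp1 : ctau (false, true, 0) p = p := (D e').inj (by rw [← h1.el, ← hp, hai])
    obtain ⟨h3, h4⟩ := fx_ft p hp1
    obtain ⟨pa, pb, pc⟩ := p
    simp only at h3 h4
    subst h3 h4
    rw [(D e').el_x02] at hp
    refine ⟨e', Or.inr h1, pc, ?_, hp⟩
    rintro rfl
    exact hi1 (hp.trans ((D e').x_zero 0 2 (by decide)))

theorem adj2 : ∀ d : Fin 3, ∃ k : Fin 3,
    Ty.mul (Ty.mul (false, false, k) (true, false, d)) (Ty.inv (false, false, k)) =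
      (true, false, 0) ∧
    Ty.mul (Ty.mul (false, false, k) (true, true, 0)) (Ty.inv (false, false, k)) =
      (true, true, 0) := by decide +kernel

theorem code2 : ∀ p : Code, ctau (true, true, 0) p = p → cmul (ctau (true, false, 0) p) p = cone →
    ∃ q, ctau (true, true, 0) q = q ∧ cmul (ctau (true, false, 0) q) (cmul p (cinv q)) = cone := by
  decide +kernel

theorem cmul_cone' (p : Code) : cmul p cone = p := cmul_cone p

theorem ctau_cone : ∀ τ : Ty, ctau τ cone = cone := by decide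

/-- commuting polarity and field automorphism -/
theorem pl2 (e : PSL3 ≃* L) {x a : MulAut L} (hx : x * x = 1)
    (hb : bits ((D e).tyHom x) = (true, true)) (ha : a * a = 1)
    (hba : bits ((D e).tyHom a) = (true, false)) (hc : a * x = x * a) :
    ∃ e' : PSL3 ≃* L, (D e').IsTau (true, true, 0) x ∧ (D e').IsTau (true, false, 0) a := by
  have hQ : IsPGroup 2 (closure ({x, a} : Set (MulAut L))) := by
    apply two_closure
    · rintro b (rfl | rfl)
      · exact hx
      · exact ha
    · rintro b (rfl | rfl) c (rfl | rfl)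
      · rfl
      · exact hc.symm
      · exact hc
      · rfl
  obtain ⟨e1, h1, h2⟩ := pl e _ hQ (subset_closure (Set.mem_insert _ _)) hx hb (by decide)
  have h3 := h2 a (subset_closure (Set.mem_insert_of_mem _ rfl))
  rw [← bits_indep e e1] at hba
  -- the diagonal part
  set τ := ((D e1).tyHom a).ty with hτ
  have hty : (D e1).HasTy a τ := (D e1).hasTy_tyHom a
  obtain ⟨k, hk1, hk2⟩ := adj2 τ.2.2
  have hτe : τ = (true, false, τ.2.2) := by
    have e1 : τ.1 = true := congrArg Prod.fst hba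
    have e2 : τ.2.1 = false := congrArg Prod.snd hba
    rw [← e1, ← e2]
  rw [← hτe] at hk1
  set δ : MulAut L := tr e1 (dl k) with hδ
  have h5 : (D e1).IsTau (false, false, k) δ := isTau_map e1 (isTau_dl k)
  have h6 := (h5.mul h1).mul h5.inv
  rw [hk2] at h6
  have h7 := isTau_map_conj δ h6
  have h8 := (h5.hasTy.mul hty).mul h5.hasTy.inv
  rw [hk1] at h8
  have h9 : ((D e1).map (δ⁻¹ : MulAut L)).HasTy a (true, false, 0) := by
    apply hasTy_map
    rw [inv_inv]
    exact h8
  have h10 : a ∈ ((D e1).map (δ⁻¹ : MulAut L)).MT := by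
    apply mem_MT_map
    exact mul_mem (mul_mem h5.mem_MT h3) (inv_mem h5.mem_MT)
  rw [D_map] at h7 h9 h10
  set e2 := e1.trans (δ⁻¹ : MulAut L) with he2
  -- the code
  obtain ⟨p, ρ, hp⟩ := h10
  have hρ : ρ = (true, false, 0) := hp.hasTy.unique h9
  subst hρ
  have c1 : ctau (true, true, 0) p = p := by
    have u1 := h7.cd.mul hp
    have u2 := hp.mul h7.cd
    rw [hc] at u2
    have u3 := (u1.unique u2).2
    rw [ctau_cone, cone_cmul, cmul_cone] at u3
    exact u3.symm
  have c2 : cmul (ctau (true, false, 0) p) p = cone := by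
    have u1 := hp.mul hp
    rw [ha] at u1
    exact u1.one.2
  obtain ⟨q, hq1, hq2⟩ := code2 p c1 c2
  have h11 : x ((D e2).el q) = (D e2).el q := by rw [h7.el, hq1]
  refine ⟨e2.trans ((MulAut.conj ((D e2).el q))⁻¹ : MulAut L), isTau_conj_fix h7 h11, ?_⟩
  rw [← D_map]
  apply isTau_map_conj
  have h12 := hp.conj q
  rw [hq2] at h12
  exact h12.cone

/-- commuting polarity and wild automorphism -/
theorem pl2' (e : PSL3 ≃* L) {x a : MulAut L} (hx : x * x = 1)
    (hb : bits ((D e).tyHom x) = (true, true)) (ha : a * a = 1)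
    (hba : bits ((D e).tyHom a) = (true, false) ∨ bits ((D e).tyHom a) = (false, true))
    (hc : a * x = x * a) :
    ∃ e' : PSL3 ≃* L, (D e').IsTau (true, true, 0) x ∧
      ((D e').IsTau (true, false, 0) a ∨ (D e').IsTau (false, true, 0) a) := by
  rcases hba with hba | hba
  · obtain ⟨e', h1, h2⟩ := pl2 e hx hb ha hba hc
    exact ⟨e', h1, Or.inl h2⟩
  · have h1 : (a * x) * (a * x) = 1 := by
      calc (a * x) * (a * x) = a * (x * a) * x := by group
        _ = (a * a) * (x * x) := by rw [← hc]; group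
        _ = 1 := by rw [ha, hx, one_mul]
    have h2 : bits ((D e).tyHom (a * x)) = (true, false) := by
      have k : ∀ g h : TyG, bits g = (false, true) → bits h = (true, true) →
        bits (g * h) = (true, false) := by decide +kernel
      rw [map_mul]
      exact k _ _ hba hb
    obtain ⟨e', h3, h4⟩ := pl2 e hx hb h1 h2 (by
      rw [← mul_assoc x a x, ← hc])
    refine ⟨e', h3, Or.inr ?_⟩
    have h5 := h4.mul h3
    have h6 : a * x * x = a := by rw [mul_assoc, hx, mul_one]
    rw [h6] at h5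
    exact h5

end Cfsg.Agent.UGT.FL34
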