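import Cfsg.Agent.UGT.FL34.KFNew
import Cfsg.Agent.UGT.LTF.KF2

/-!
# Facts on `L₃(4)` for `KF34` (2)

* `bits_of_oddC` : an involution with a non-trivial odd group `OddC` is a unitary polarity;
* `core`, `inv`, `ycomm`, `nine`, `wone`, `pol`.
-/

set_option autoImplicit false
set_option linter.constructorNameAsVariable false
set_option linter.unusedVariables false

namespace Cfsg.Agent.UGT.FL34.KF

open Subgroup Cfsg.Agent.UGT.FL34
open Cfsg.Agent.SporadicA.FieldFour
open Cfsg.Agent.LThreeFour Cfsg.Agent.LThreeFour.Dat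
open Cfsg.Agent.ONType.Psl (PSL3)
open Cfsg.Agent.UGT.ThEL34 (fx mem_fx Wild)
open Cfsg.Agent.UGT.LTF.Defs (OddC)
open Cfsg.Agent.UGT.LTF.KF2 (mem_of_sq odd_orderOf)
open scoped commutatorElement

variable {L : Type*} [Group L]

theorem six : ∀ g : TyG, (g * g * g) * (g * g * g) = 1 := by decide +kernel

theorem bits_of_three : ∀ g : TyG, g * g * g = 1 → bits g = (false, false) := by decide +kernel

/-- automorphisms of odd order have trivial bits -/
theorem bits_odd (A : Dat L) {e : MulAut L} (he : Odd (orderOf e)) :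
    bits (A.tyHom e) = (false, false) := by
  apply bits_of_three
  set g := A.tyHom e with hg
  have h1 : Odd (orderOf g) := Odd.of_dvd_nat he (orderOf_map_dvd _ _)
  have h2 : g * g * g ∈ (⊥ : Subgroup TyG) := by
    apply mem_of_sq
    · have h3 : g * g * g = g ^ 3 := by rw [← pow_three']
      rw [h3]
      exact Odd.of_dvd_nat h1 (orderOf_pow_dvd 3)
    · rw [six g]; exact one_mem _
  exact mem_bot.1 h2

/-- 2-elements of odd order -/
theorem eq_one_of {G : Type*} [Group G] {g : G} {n : ℕ} (h : g ^ 2 ^ n = 1) (ho : Odd (orderOf g)) :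
    g = 1 := by
  have h1 : orderOf g ∣ 2 ^ n := orderOf_dvd_of_pow_eq_one h
  have h2 : (orderOf g).Coprime (2 ^ n) := Nat.Coprime.pow_right n (Nat.coprime_two_right.mpr ho)
  exact orderOf_eq_one_iff.mp (Nat.Coprime.eq_one_of_dvd h2 h1)

section odd

variable {ξ : MulAut L} {E : Subgroup (MulAut L)} (hE : OddC ξ E)

/-- `[l, e]` -/
theorem comm_eq (e : MulAut L) (l : L) :
    MulAut.conj (l * (e l)⁻¹) = MulAut.conj l * e * (MulAut.conj l)⁻¹ * e⁻¹ := by
  rw [map_mul, map_inv, conj_map]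
  group

include hE in
theorem comm_mem {e : MulAut L} (he : e ∈ E) {l : L} (hl : ξ l = l) :
    MulAut.conj (l * (e l)⁻¹) ∈ E := by
  rw [comm_eq]
  exact mul_mem (hE.nor l hl e he) (inv_mem he)

include hE in
theorem fix_e {e : MulAut L} (he : e ∈ E) {l : L} (hl : ξ l = l) : ξ (e l) = e l := by
  have h1 := DFunLike.congr_fun (hE.com e he) l
  rw [MulAut.mul_apply, MulAut.mul_apply, hl] at h1
  exact h1.symm

include hE in
theorem fix_of_conj (A : Dat L) {y : L} (hy : MulAut.conj y ∈ E) : ξ y = y := by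
  have h1 := conj_map ξ y
  rw [← hE.com _ hy, mul_inv_cancel_right] at h1
  exact A.conj_injective h1

include hE in
theorem odd_of_conj (A : Dat L) {y : L} (hy : MulAut.conj y ∈ E) : Odd (orderOf y) := by
  have h1 := odd_orderOf hE.odd hy
  rwa [orderOf_injective _ A.conj_injective] at h1

end odd

/-- conjugation by `x₀₂(1)` is not in an odd group -/
theorem x02_not (A : Dat L) {E : Subgroup (MulAut L)} (hE : Odd (Nat.card E))
    (h : MulAut.conj (A.x 0 2 1) ∈ E) : False := by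
  have h1 := odd_orderOf hE h
  have h2 : MulAut.conj (A.x 0 2 1) = 1 := by
    apply eq_one_of (n := 1) _ h1
    rw [pow_one, sq, ← map_mul, A.x_sq 0 2 (by decide), map_one]
  exact x02_ne A (A.conj_eq_one h2)

theorem ty_odd : ∀ g : TyG, bits g = (false, false) →
    g * ⟨(true, false, 0)⟩ = ⟨(true, false, 0)⟩ * g ∨ g * ⟨(false, true, 0)⟩ = ⟨(false, true, 0)⟩ * g →
    g = 1 := by decide +kernel

/-- **recognition** -/
theorem bits_of_oddC (e0 : PSL3 ≃* L) {ξ : MulAut L} (hξ : ξ * ξ = 1) {E : Subgroup (MulAut L)}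
    (hE : OddC ξ E) (h1 : E ≠ ⊥) : bits ((D e0).tyHom ξ) = (true, true) := by
  by_contra hcon
  apply h1
  rw [eq_bot_iff]
  intro e he
  rw [mem_bot]
  have hoe := odd_orderOf hE.odd he
  have hs : IsSimpleGroup L := simp e0
  rcases ty_sq ((D e0).tyHom ξ) (by rw [← map_mul, hξ, map_one]) with h | h | h | h
  · obtain ⟨s, rfl⟩ := (D e0).inner_iff.1 h
    have hss : s * s = 1 := (D e0).conj_injective (by rw [map_mul, hξ, map_one])
    by_cases hs1 : s = 1
    · -- `ξ = 1`
      have hfix : ∀ l, MulAut.conj s l = l := by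
        intro l
        rw [hs1, map_one, MulAut.one_apply]
      have hN : (E.comap (MulAut.conj : L →* MulAut L)).Normal := by
        refine ⟨fun n hn g => ?_⟩
        rw [mem_comap] at hn ⊢
        rw [map_mul, map_mul, map_inv]
        exact hE.nor g (hfix g) _ hn
      rcases hs.eq_bot_or_eq_top_of_normal _ hN with h2 | h2
      · ext l
        rw [MulAut.one_apply]
        have h3 : l * (e l)⁻¹ ∈ E.comap (MulAut.conj : L →* MulAut L) :=
          comm_mem hE he (hfix l)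
        rw [h2, mem_bot, mul_inv_eq_one] at h3
        exact h3.symm
      · exfalso
        apply x02_not (D e0) hE.odd
        have h3 : (D e0).x 0 2 1 ∈ E.comap (MulAut.conj : L →* MulAut L) := by
          rw [h2]; exact mem_top _
        exact h3
    · -- inner involution
      obtain ⟨e', rfl⟩ := exists_coord e0 hss hs1
      set A := D e' with hA
      have hes : e (A.x 0 2 1) = A.x 0 2 1 := by
        have h2 := conj_map e (A.x 0 2 1)
        rw [hE.com e he, mul_inv_cancel_right] at h2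
        exact A.conj_injective h2
      obtain ⟨p, τ, hp⟩ := A.exists_cd hes
      have hT : ∀ y : Code, e (A.el y) = A.el y := by
        intro y
        have h2 : MulAut.conj (A.x 0 2 1) (A.el y) = A.el y := by
          rw [MulAut.conj_apply, ← (comm_iff A).2 ⟨y, rfl⟩, mul_inv_cancel_right]
        have h3 := comm_mem hE he h2
        have h4 := odd_of_conj hE A h3
        have h5 : A.el y * (e (A.el y))⁻¹ = 1 := by
          rw [hp.apply, A.el_inv, A.el_mul] at h4 ⊢
          exact eq_one_of (n := 2) (el_pow_four A _) h4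
        exact (mul_inv_eq_one.1 h5).symm
      obtain ⟨h2, h3, h4⟩ := hp.fix (fun y _ => hT y)
      subst h2
      have h5 := hp.eq_conj
      apply eq_one_of (n := 1) _ hoe
      rw [pow_one, sq, h5, ← map_mul, A.el_mul]
      have k : ∀ q : Code, q.a = 0 → q.b = 0 → cmul (cinv q) (cinv q) = cone := by decide +kernel
      rw [k p h3 h4, A.el_one, map_one]
  · obtain ⟨e', h2⟩ := pure1 e0 hξ h (by decide)
    set A := D e' with hA
    have hsf : IsSimpleGroup (fx ξ) := by
      rw [eq_tr e' isTau_f0 h2]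
      have := simple_f0
      exact MulEquiv.isSimpleGroup (fxEquiv e' f0)
    have hfix : ∀ l, ξ l = l → e l = l := by
      have hN : ((E.comap (MulAut.conj : L →* MulAut L)).subgroupOf (fx ξ)).Normal := by
        refine ⟨fun n hn g => ?_⟩
        rw [mem_subgroupOf, mem_comap] at hn ⊢
        change MulAut.conj ((g : L) * n * (g : L)⁻¹) ∈ E
        rw [map_mul, map_mul, map_inv]
        exact hE.nor g g.2 _ hn
      rcases hsf.eq_bot_or_eq_top_of_normal _ hN with h3 | h3
      · intro l hl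
        have h4 : (⟨l * (e l)⁻¹, mul_mem (s := fx ξ) hl (inv_mem (fix_e hE he hl))⟩ : fx ξ) ∈
            (E.comap (MulAut.conj : L →* MulAut L)).subgroupOf (fx ξ) := comm_mem hE he hl
        rw [h3, mem_bot] at h4
        exact (mul_inv_eq_one.1 (congrArg Subtype.val h4)).symm
      · exfalso
        apply x02_not A hE.odd
        have h4 : (⟨A.x 0 2 1, fx_x02 h2⟩ : fx ξ) ∈
            (E.comap (MulAut.conj : L →* MulAut L)).subgroupOf (fx ξ) := by
          rw [h3]; exact mem_top _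
        exact h4
    obtain ⟨τ, hτ⟩ := pure_of_fix (A := A) (hfix _ (fx_x02 h2)) (hfix _ (fx_x20 h2))
    have h3 : (⟨τ⟩ : TyG) = 1 := by
      apply ty_odd
      · rw [← hτ.hasTy.tyHom]; exact bits_odd A hoe
      · left
        rw [← hτ.hasTy.tyHom, ← h2.hasTy.tyHom, ← map_mul, ← map_mul, hE.com e he]
    have h4 : τ = ty1 := congrArg TyG.ty h3
    rw [h4] at hτ
    exact hτ.ext isTau_one
  · obtain ⟨e', h2⟩ := pure1 e0 hξ h (by decide)
    set A := D e' with hA
    have hsf : IsSimpleGroup (fx ξ) := by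
      rw [eq_tr e' isTau_g0 h2]
      have := simple_g0
      exact MulEquiv.isSimpleGroup (fxEquiv e' g0)
    have hfix : ∀ l, ξ l = l → e l = l := by
      have hN : ((E.comap (MulAut.conj : L →* MulAut L)).subgroupOf (fx ξ)).Normal := by
        refine ⟨fun n hn g => ?_⟩
        rw [mem_subgroupOf, mem_comap] at hn ⊢
        change MulAut.conj ((g : L) * n * (g : L)⁻¹) ∈ E
        rw [map_mul, map_mul, map_inv]
        exact hE.nor g g.2 _ hn
      rcases hsf.eq_bot_or_eq_top_of_normal _ hN with h3 | h3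
      · intro l hl
        have h4 : (⟨l * (e l)⁻¹, mul_mem (s := fx ξ) hl (inv_mem (fix_e hE he hl))⟩ : fx ξ) ∈
            (E.comap (MulAut.conj : L →* MulAut L)).subgroupOf (fx ξ) := comm_mem hE he hl
        rw [h3, mem_bot] at h4
        exact (mul_inv_eq_one.1 (congrArg Subtype.val h4)).symm
      · exfalso
        apply x02_not A hE.odd
        have h4 : (⟨A.x 0 2 1, fx_x02 h2⟩ : fx ξ) ∈
            (E.comap (MulAut.conj : L →* MulAut L)).subgroupOf (fx ξ) := by
          rw [h3]; exact mem_top _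
        exact h4
    obtain ⟨τ, hτ⟩ := pure_of_fix (A := A) (hfix _ (fx_x02 h2)) (hfix _ (fx_x20 h2))
    have h3 : (⟨τ⟩ : TyG) = 1 := by
      apply ty_odd
      · rw [← hτ.hasTy.tyHom]; exact bits_odd A hoe
      · right
        rw [← hτ.hasTy.tyHom, ← h2.hasTy.tyHom, ← map_mul, ← map_mul, hE.com e he]
    have h4 : τ = ty1 := congrArg TyG.ty h3
    rw [h4] at hτ
    exact hτ.ext isTau_one
  · exact absurd (by rw [h]; rfl) hcon

section

variable (e0 : PSL3 ≃* L) {ξ : MulAut L} (hξ : ξ * ξ = 1)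
  (hb : bits ((D e0).tyHom ξ) = (true, true))

include hξ hb in
theorem twelve' {l : L} (h : ξ l = l) : (l ^ 4) ^ 3 = 1 := by
  obtain ⟨e', he⟩ := pure1 e0 hξ hb (by decide)
  rw [eq_tr e' isTau_x0 he, fix_symm] at h
  have h1 := twelve h
  rw [← map_pow, ← map_pow] at h1
  apply e'.symm.injective
  rw [h1, map_one]

/-- elements of odd order fixed by the polarity have order 3 -/
theorem cube_of_odd {G : Type*} [Group G] {y : G} (h : (y ^ 4) ^ 3 = 1) (ho : Odd (orderOf y)) :
    y ^ 3 = 1 := by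
  apply eq_one_of (n := 2) _ (Odd.of_dvd_nat ho (orderOf_pow_dvd 3))
  rw [← pow_mul, mul_comm, pow_mul]
  exact h

include hξ hb in
theorem core_inner {E : Subgroup (MulAut L)} (hE : OddC ξ E) {y : L} (hy : MulAut.conj y ∈ E) :
    y ^ 3 = 1 ∧ ξ y = y := by
  have h1 := fix_of_conj hE (D e0) hy
  exact ⟨cube_of_odd (twelve' e0 hξ hb h1) (odd_of_conj hE (D e0) hy), h1⟩

theorem diag_code : ∃ q : Code, ctau (true, true, 0) q = q ∧ ∀ τ : Ty, τ.1 = false → τ.2.1 = false →
    (ctau τ q).a = q.a → τ = ty1 := by decide +kernel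

include hξ hb in
/-- **core** -/
theorem core (E : Subgroup (MulAut L)) (hE : OddC ξ E) (e : MulAut L) (he : e ∈ E) :
    ∃ y, e = MulAut.conj y ∧ y ^ 3 = 1 ∧ ξ y = y := by
  obtain ⟨e', h0⟩ := pure1 e0 hξ hb (by decide)
  have hb' : bits ((D e').tyHom ξ) = (true, true) := by rw [bits_indep e0 e', hb]
  set A := D e' with hA
  set z := A.x 0 2 1 with hz
  have hzz : z * z = 1 := A.x_sq 0 2 (by decide) 1
  have hzi : z⁻¹ = z := inv_eq_of_mul_eq_one_left hzz
  have hξz : ξ z = z := x02_one A h0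
  have h3' := fun (y w : L) (hy : y ^ 3 = 1) (hxy : ξ y = y) (hw : w ^ 3 = 1) (hxw : ξ w = w) =>
    three e' hξ hb' y w hy hxy hw hxw
  -- `y₁ = z e(z)⁻¹`
  obtain ⟨hy3, hyx⟩ := core_inner e' hξ hb' hE (comm_mem hE he hξz)
  set y1 := z * (e z)⁻¹ with hy1
  have hez : e z = y1⁻¹ * z := by rw [hy1]; group
  have hezz : e z * e z = 1 := by rw [← map_mul, hzz, map_one]
  have hinv : z * y1 * z = y1⁻¹ := by
    have h1 : y1⁻¹ * z * (y1⁻¹ * z) = 1 := by rw [← hez]; exact hezz
    have h2 : z * y1⁻¹ * z = y1 := by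
      calc z * y1⁻¹ * z = y1 * (y1⁻¹ * z * (y1⁻¹ * z)) := by group
        _ = y1 := by rw [h1, mul_one]
    calc z * y1 * z = (z⁻¹ * y1⁻¹ * z⁻¹)⁻¹ := by group
      _ = (z * y1⁻¹ * z)⁻¹ := by rw [hzi]
      _ = y1⁻¹ := by rw [h2]
  have hzy : z * y1 * z⁻¹ = y1⁻¹ := by rw [hzi]; exact hinv
  have hy3' : y1⁻¹ * y1⁻¹ * y1⁻¹ = 1 := by
    rw [← pow_three', inv_pow, hy3, inv_one]
  set e1 := MulAut.conj y1⁻¹ * e with he1
  have he1q : ∀ q, e1 q = y1⁻¹ * e q * y1 := by
    intro q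
    rw [he1, MulAut.mul_apply, MulAut.conj_apply, inv_inv]
  have he1z : e1 z = z := by
    rw [he1q, hez]
    calc y1⁻¹ * (y1⁻¹ * z) * y1 = y1⁻¹ * y1⁻¹ * (z * y1 * z⁻¹) * z := by group
      _ = z := by rw [hzy, hy3', one_mul]
  obtain ⟨p, τ, hp⟩ := A.exists_cd he1z
  obtain ⟨q, hq1, hq2⟩ := diag_code
  have hξq : ξ (A.el q) = A.el q := by rw [h0.el, hq1]
  obtain ⟨h5, h6⟩ := core_inner e' hξ hb' hE (comm_mem hE he hξq)
  set y2 := A.el q * (e (A.el q))⁻¹ with hy2
  have h7 : A.el q * (e1 (A.el q))⁻¹ = A.el q * y1⁻¹ * (A.el q)⁻¹ * y2 * y1 := by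
    rw [he1q, hy2]; group
  have h8 : (A.el q * (e1 (A.el q))⁻¹) ^ 3 = 1 := by
    rw [h7]
    have k1 : (A.el q * y1⁻¹ * (A.el q)⁻¹) ^ 3 = 1 := by
      rw [conj_pow, inv_pow, hy3, inv_one, mul_one, mul_inv_cancel]
    have k2 : ξ (A.el q * y1⁻¹ * (A.el q)⁻¹) = A.el q * y1⁻¹ * (A.el q)⁻¹ := by
      rw [map_mul, map_mul, map_inv, map_inv, hξq, hyx]
    exact h3' _ _ (h3' _ _ k1 k2 h5 h6) (by rw [map_mul, k2, h6]) hy3 hyx
  have h9 : A.el q * (e1 (A.el q))⁻¹ = 1 := by
    rw [hp.apply, A.el_inv, A.el_mul] at h8 ⊢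
    have h10 := el_pow_four A (cmul q (cinv (cact p τ q)))
    rw [pow_succ, h8, one_mul] at h10
    exact h10
  have h10 : cact p τ q = q := by
    have h11 := mul_inv_eq_one.1 h9
    rw [hp.apply] at h11
    exact (A.inj h11).symm
  have hoe := bits_odd A (odd_orderOf hE.odd he)
  have hty : A.tyHom e1 = A.tyHom e := by
    rw [he1, map_mul, A.tyHom_conj, one_mul]
  have hty' : A.tyHom e1 = ⟨τ⟩ := hp.hasTy.tyHom
  have h11 : τ = ty1 := by
    rw [← hty, hty'] at hoe
    apply hq2 τ (congrArg Prod.fst hoe) (congrArg Prod.snd hoe)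
    rw [← (cact_ab p τ q).1, h10]
  have h12 : A.tyHom e = 1 := by
    rw [← hty, hty', h11]; rfl
  obtain ⟨y, rfl⟩ := A.inner_iff.1 h12
  exact ⟨y, rfl, core_inner e' hξ hb' hE he⟩

/-! ### `O(C(ξ))` -/

include hξ hb in
theorem exists_inv : ∃ b : L, b * b = 1 ∧ b ≠ 1 ∧ ξ b = b := by
  obtain ⟨e', h0⟩ := pure1 e0 hξ hb (by decide)
  exact ⟨(D e').x 0 2 1, (D e').x_sq 0 2 (by decide) 1, x02_ne _, x02_one _ h0⟩

/-- `O(C(ξ))` -/
def YY : Subgroup L where
  carrier := {y | y ^ 3 = 1 ∧ ξ y = y}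
  mul_mem' := by
    rintro y z ⟨h1, h2⟩ ⟨h3, h4⟩
    exact ⟨three e0 hξ hb y z h1 h2 h3 h4, by rw [map_mul, h2, h4]⟩
  one_mem' := ⟨one_pow 3, map_one ξ⟩
  inv_mem' := by
    rintro y ⟨h1, h2⟩
    exact ⟨by rw [inv_pow, h1, inv_one], by rw [map_inv, h2]⟩

theorem mem_YY {y : L} : y ∈ YY e0 hξ hb ↔ y ^ 3 = 1 ∧ ξ y = y := Iff.rfl

theorem three_YY : IsPGroup 3 (YY e0 hξ hb) := by
  rintro ⟨y, hy⟩
  exact ⟨1, Subtype.ext hy.1⟩

theorem odd_YY : Odd (Nat.card (YY e0 hξ hb)) := by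
  have hfin : Finite L := (D e0).finite
  have h3 : Fact (Nat.Prime 3) := ⟨Nat.prime_three⟩
  obtain ⟨n, hn⟩ := IsPGroup.iff_card.1 (three_YY e0 hξ hb)
  rw [hn]
  exact Odd.pow (by decide)

include hξ hb in
theorem inv (b y : L) (hbb : b * b = 1) (hb1 : b ≠ 1) (hξb : ξ b = b) (hy : y ^ 3 = 1)
    (hξy : ξ y = y) : b * y * b⁻¹ = y⁻¹ := by
  have hfin : Finite L := (D e0).finite
  refine HFAbs.inverts (odd_YY e0 hξ hb) hbb ?_ ?_ y ⟨hy, hξy⟩
  · rintro d ⟨h1, h2⟩
    exact ⟨by rw [conj_pow, h1, mul_one, mul_inv_cancel], by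
      rw [map_mul, map_mul, map_inv, hξb, h2]⟩
  · rintro d ⟨h1, h2⟩ h3
    obtain ⟨n, hn⟩ := c2 e0 b hbb hb1 d h3
    have h4 : orderOf d ∣ 3 := orderOf_dvd_of_pow_eq_one h1
    exact eq_one_of hn (Odd.of_dvd_nat (by decide) h4)

include hξ hb in
theorem ycomm (y z : L) (hy : y ^ 3 = 1) (hξy : ξ y = y) (hz : z ^ 3 = 1) (hξz : ξ z = z) :
    y * z = z * y := by
  obtain ⟨b, hb1, hb2, hb3⟩ := exists_inv e0 hξ hb
  have h1 := inv e0 hξ hb b y hb1 hb2 hb3 hy hξy
  have h2 := inv e0 hξ hb b z hb1 hb2 hb3 hz hξz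
  have h3 := inv e0 hξ hb b (y * z) hb1 hb2 hb3 (three e0 hξ hb y z hy hξy hz hξz) (by
    rw [map_mul, hξy, hξz])
  have h4 : y⁻¹ * z⁻¹ = (y * z)⁻¹ := by
    rw [← h3, ← h1, ← h2]; group
  have h5 := congrArg (fun w => w⁻¹) h4
  simp only [mul_inv_rev, inv_inv] at h5
  exact h5.symm

include hξ hb in
theorem nine : ∃ Y : Subgroup L, Nat.card Y = 9 ∧ ∀ y, y ∈ Y ↔ y ^ 3 = 1 ∧ ξ y = y := by
  have hfin : Finite L := (D e0).finite
  have h3 : Fact (Nat.Prime 3) := ⟨Nat.prime_three⟩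
  refine ⟨YY e0 hξ hb, ?_, fun y => mem_YY e0 hξ hb⟩
  obtain ⟨n, hn⟩ := IsPGroup.iff_card.1 (three_YY e0 hξ hb)
  have h1 : 3 ^ n ∣ 20160 := by
    rw [← hn, ← (D e0).card]; exact Subgroup.card_subgroup_dvd_card _
  have h2 : n ≤ 2 := by
    by_contra hcon
    push Not at hcon
    have h4 : 3 ^ 3 ∣ 20160 := (pow_dvd_pow 3 hcon).trans h1
    omega
  have h4 : 3 < Nat.card (YY e0 hξ hb) := by
    obtain ⟨y, z, k1, k2, k3, k4, k5, k6, k7, k8⟩ := indep e0 hξ hb
    by_contra hcon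
    push Not at hcon
    classical
    have : Fintype (YY e0 hξ hb) := Fintype.ofFinite _
    have hyy : y ≠ y⁻¹ := by
      intro h
      apply k5
      have h5 : y * y = 1 := by nth_rw 2 [h]; exact mul_inv_cancel y
      rw [pow_three', h5, one_mul] at k1
      exact k1
    have h5 : ({1, ⟨y, k1, k2⟩, ⟨y, k1, k2⟩⁻¹, ⟨z, k3, k4⟩} : Finset (YY e0 hξ hb)).card = 4 := by
      rw [Finset.card_insert_of_notMem, Finset.card_insert_of_notMem, Finset.card_insert_of_notMem,
        Finset.card_singleton]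
      · rw [Finset.mem_singleton]
        intro h
        apply k8
        have h7 : y⁻¹ = z := congrArg Subtype.val h
        rw [← h7, inv_inv]
      · rw [Finset.mem_insert, Finset.mem_singleton]
        rintro (h | h)
        · exact hyy (congrArg Subtype.val h)
        · exact k7 (congrArg Subtype.val h)
      · rw [Finset.mem_insert, Finset.mem_insert, Finset.mem_singleton]
        rintro (h | h | h)
        · exact k5 (congrArg Subtype.val h).symm
        · exact k5 (inv_eq_one.1 (congrArg Subtype.val h).symm)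
        · exact k6 (congrArg Subtype.val h).symm
    have h6 := Finset.card_le_univ
      ({1, ⟨y, k1, k2⟩, ⟨y, k1, k2⟩⁻¹, ⟨z, k3, k4⟩} : Finset (YY e0 hξ hb))
    rw [h5, ← Nat.card_eq_fintype_card] at h6
    omega
  rw [hn] at h4 ⊢
  interval_cases n
  · omega
  · omega
  · norm_num

/-! ### Classes -/

include hξ hb in
theorem wone' (a : MulAut L) (ha : Wild ξ a) (t : L) (hat : a t = t) (htt : t * t = 1)
    (ht1 : t ≠ 1) : ∃ m, MulAut.conj m * a * (MulAut.conj m)⁻¹ = a * MulAut.conj t := by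
  have haa := ha.sq
  have h2 : (a * MulAut.conj t) * (a * MulAut.conj t) = 1 := by
    have h3 := conj_comm hat
    calc (a * MulAut.conj t) * (a * MulAut.conj t)
        = a * (MulAut.conj t * a) * MulAut.conj t := by group
      _ = (a * a) * (MulAut.conj t * MulAut.conj t) := by rw [← h3]; group
      _ = 1 := by rw [haa, ← map_mul, htt, map_one, one_mul]
  have key : ∀ b1 b2 : Bool, (b1, b2) ≠ (false, false) → bits ((D e0).tyHom a) = (b1, b2) →
      ∃ m, MulAut.conj m * a * (MulAut.conj m)⁻¹ = a * MulAut.conj t := by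
    intro b1 b2 hne hbits
    obtain ⟨e', he⟩ := pure1 e0 haa hbits hne
    have h1 : (D e').HasTy (a * MulAut.conj t) (b1, b2, 0) := by
      have h2 := he.hasTy.mul ((D e').hasTy_conj t)
      rwa [Ty.mul_one] at h2
    have hQ : IsPGroup 2 (closure ({a * MulAut.conj t} : Set (MulAut L))) := by
      apply two_closure
      · rintro a rfl; exact h2
      · rintro a rfl b rfl; rfl
    obtain ⟨m, hm, _⟩ := exists_conj_pure (A := D e') _ hQ (subset_closure rfl) h2 (by
      intro h; apply hne; exact congrArg (fun τ : Ty => (τ.1, τ.2.1)) h) h1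
    refine ⟨m⁻¹, ?_⟩
    have h3 := hm.ext he
    calc MulAut.conj m⁻¹ * a * (MulAut.conj m⁻¹)⁻¹
        = (MulAut.conj m)⁻¹ * a * MulAut.conj m := by rw [map_inv, inv_inv]
      _ = (MulAut.conj m)⁻¹ * (MulAut.conj m * (a * MulAut.conj t) * (MulAut.conj m)⁻¹) *
          MulAut.conj m := by rw [h3]
      _ = a * MulAut.conj t := by group
  rcases wild_bits e0 hξ hb ha with h | h
  · exact key _ _ (by decide) h
  · exact key _ _ (by decide) h

theorem tt_comm : ∀ τ : Ty, Ty.mul (true, true, 0) τ = τ.mul (true, true, 0) := by decide +kernel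

include hξ hb in
theorem pol (β : MulAut L) (hβ : β * β = 1) :
    ∃ l, (MulAut.conj l * ξ * (MulAut.conj l)⁻¹) * β = β * (MulAut.conj l * ξ * (MulAut.conj l)⁻¹) := by
  obtain ⟨e', h0⟩ := pure1 e0 hξ hb (by decide)
  set A := D e' with hA
  by_cases hty : A.tyHom β = 1
  · obtain ⟨s, rfl⟩ := A.inner_iff.1 hty
    have hss : s * s = 1 := A.conj_injective (by rw [map_mul, hβ, map_one])
    by_cases hs1 : s = 1
    · exact ⟨1, by rw [hs1, map_one, mul_one, one_mul, inv_one, mul_one, one_mul]⟩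
    · obtain ⟨g, hg⟩ := cls e0 (A.x 0 2 1) s (A.x_sq 0 2 (by decide) 1) (x02_ne A) hss hs1
      refine ⟨g, conj_comm ?_⟩
      rw [← hg, MulAut.mul_apply, MulAut.mul_apply, MulAut.conj_inv_apply, MulAut.conj_apply]
      have h1 : g⁻¹ * (g * A.x 0 2 1 * g⁻¹) * g = A.x 0 2 1 := by group
      rw [h1, x02_one A h0]
  · obtain ⟨l, h1 | h1⟩ := A.inv_class β (by rintro rfl; exact hty (map_one _)) hβ
    · obtain ⟨τ, hτ, h2⟩ := h1
      refine ⟨l⁻¹, ?_⟩
      have h3 := h0.mul h2
      rw [tt_comm] at h3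
      have h4 := h3.ext (h2.mul h0)
      rw [map_inv]
      calc (MulAut.conj l)⁻¹ * ξ * (MulAut.conj l)⁻¹⁻¹ * β
          = (MulAut.conj l)⁻¹ * (ξ * (MulAut.conj l * β * (MulAut.conj l)⁻¹)) * MulAut.conj l := by
            group
        _ = (MulAut.conj l)⁻¹ * ((MulAut.conj l * β * (MulAut.conj l)⁻¹) * ξ) * MulAut.conj l := by
            rw [h4]
        _ = _ := by group
    · exfalso
      apply hty
      have h2 := congrArg A.tyHom h1
      rw [map_mul, map_mul, map_inv, A.tyHom_conj, A.tyHom_conj, one_mul, inv_one, mul_one] at h2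
      exact h2

end

end Cfsg.Agent.UGT.FL34.KF
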