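import Cfsg.Agent.UGT.FL34.Extra

/-!
# Classes of involutory automorphisms of `L₃(4)`, generation by two tori
-/

set_option autoImplicit false
set_option linter.constructorNameAsVariable false
set_option linter.unusedVariables false

namespace Cfsg.Agent.UGT.FL34

open Subgroup Matrix
open Cfsg.Agent.SporadicA.FieldFour
open Cfsg.Agent.LThreeFour Cfsg.Agent.LThreeFour.Dat
open Cfsg.Agent.ONType.Psl (PSL3 SL3 T tm t kap)
open Cfsg.Agent.ClassicalGeometry.AutPSL.Root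
open Cfsg.Agent.ClassicalGeometry.AutPSL.Auto
open Cfsg.Agent.UGT.ThEL34
open scoped commutatorElement

/-! ### Generation by `Y` and `Y^p` -/

/-- the matrix of `x₀₂(ω)` -/
def PM : M3 := ⟨.o, .z, .w, .z, .o, .z, .z, .z, .o⟩

/-- the four generators -/
def gm : Fin 4 → M3
  | 0 => R1
  | 1 => R2
  | 2 => M3.mul (M3.mul PM R1) PM
  | 3 => M3.mul (M3.mul PM R2) PM

/-- value of a word -/
def ev (w : List (Fin 4)) : M3 := w.foldl (fun a i => M3.mul a (gm i)) ⟨.o, .z, .z, .z, .o, .z, .z, .z, .o⟩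

/-- the root matrices -/
def tmM (i j : Fin 3) (u : F4) : M3 := M3.ofM (tm i j u)

/-- words for root elements: `y = 0`, `u = 1`, `z = 2`, `v = 3` -/
def wds : List (List (Fin 4) × Fin 3 × Fin 3 × F4) :=
  [([0, 2, 0, 0, 2, 2, 0, 2], 0, 2, .o),
   ([0, 2, 0, 2, 0], 0, 2, .w),
   ([1, 2, 1, 3, 3, 0, 0, 3, 3], 0, 1, .o),
   ([1, 2, 1, 3, 0, 3], 0, 1, .w),
   ([1, 2, 2, 1, 3, 0, 0, 3], 1, 2, .o),
   ([1, 2, 2, 1, 1, 2, 2, 1], 1, 2, .w),
   ([2, 0, 0, 2, 2, 0, 2], 2, 0, .o)]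

theorem wds_chk : ∀ w ∈ wds, sim (ev w.1) (tmM w.2.1 w.2.2.1 w.2.2.2) = true := by decide +kernel

theorem gm_det : ∀ i, (gm i).det = 1 := by decide +kernel

/-- the generators in `PSL(3,4)` -/
noncomputable def gp (i : Fin 4) : PSL3 := pr (sl (gm i) (gm_det i))

theorem ev_mem {H : Subgroup PSL3} (hH : ∀ i, gp i ∈ H) (w : List (Fin 4)) :
    ∀ (A : SL3) (a : M3), A.1 = a.toM → pr A ∈ H →
      ∃ B : SL3, B.1 = (w.foldl (fun a i => M3.mul a (gm i)) a).toM ∧ pr B ∈ H := by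
  induction w with
  | nil => intro A a h h'; exact ⟨A, h, h'⟩
  | cons i w ih =>
    intro A a h h'
    apply ih (A * sl (gm i) (gm_det i)) (M3.mul a (gm i))
    · rw [M3.toM_mul, ← h]; rfl
    · rw [map_mul]; exact mul_mem h' (hH i)

theorem root_mem {H : Subgroup PSL3} (hH : ∀ i, gp i ∈ H) {w : List (Fin 4)} {i j : Fin 3} {u : F4}
    (h : sim (ev w) (tmM i j u) = true) : t i j u ∈ H := by
  obtain ⟨B, hB, hBH⟩ := ev_mem hH w 1 ⟨.o, .z, .z, .z, .o, .z, .z, .z, .o⟩ (by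
    show (1 : Matrix (Fin 3) (Fin 3) F4) = _
    ext i j
    fin_cases i <;> fin_cases j <;> rfl) (by rw [map_one]; exact one_mem H)
  obtain ⟨c, hc⟩ := mem_sim h
  have h1 : pr (T i j u) = pr B := by
    apply pr_eq_of_smul (c := c)
    rw [hB]
    show (ev w).toM = c • tm i j u
    rw [hc, M3.toM_smul]
    unfold tmM
    rw [M3.toM_ofM]
  have h2 : t i j u = pr B := h1
  rw [h2]; exact hBH

theorem gen_four {H : Subgroup PSL3} (hH : ∀ i, gp i ∈ H) : H = ⊤ := by
  have key : ∀ w ∈ wds, t w.2.1 w.2.2.1 w.2.2.2 ∈ H := fun w hw => root_mem hH (wds_chk w hw)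
  unfold wds at key
  simp only [List.mem_cons, List.not_mem_nil, or_false, forall_eq_or_imp, forall_eq] at key
  obtain ⟨k1, k2, k3, k4, k5, k6, k7⟩ := key
  have hadd : ∀ i j, i ≠ j → t i j 1 ∈ H → t i j F4.w ∈ H → ∀ u, t i j u ∈ H := by
    intro i j hij h1 h2 u
    have h3 : t i j F4.v ∈ H := by
      have h4 := datPSL.x_add i j hij 1 F4.w
      have h5 : (1 : F4) + F4.w = F4.v := rfl
      rw [h5] at h4
      have h6 : t i j 1 * t i j F4.w = t i j F4.v := h4
      rw [← h6]; exact mul_mem h1 h2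
    cases u
    · have h4 : t i j F4.z = 1 := datPSL.x_zero i j hij
      rw [h4]; exact one_mem H
    · exact h1
    · exact h2
    · exact h3
  apply gen_T datPSL _ k7
  rintro _ ⟨p, rfl⟩
  rw [datPSL.el_eq]
  exact mul_mem (mul_mem (hadd 0 1 (by decide) k3 k4 _) (hadd 1 2 (by decide) k5 k6 _))
    (hadd 0 2 (by decide) k1 k2 _)

/-- the second element of order 3 of the torus -/
noncomputable def r2 : PSL3 := pr (sl R2 (unit_det R2_unit))

theorem gp_two : gp 2 = t 0 2 F4.w * r0 * (t 0 2 F4.w)⁻¹ := by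
  rw [show (t 0 2 F4.w)⁻¹ = t 0 2 F4.w from datPSL.x_inv 0 2 (by decide) F4.w]
  show pr _ = pr (T 0 2 F4.w) * pr _ * pr (T 0 2 F4.w)
  rw [← map_mul, ← map_mul]
  congr 1
  apply Subtype.ext
  show (M3.mul (M3.mul PM R1) PM).toM = tm 0 2 F4.w * R1.toM * tm 0 2 F4.w
  have h : PM.toM = tm 0 2 F4.w := by
    ext i j
    fin_cases i <;> fin_cases j <;> rfl
  rw [M3.toM_mul, M3.toM_mul, h]

theorem gp_three : gp 3 = t 0 2 F4.w * r2 * (t 0 2 F4.w)⁻¹ := by
  rw [show (t 0 2 F4.w)⁻¹ = t 0 2 F4.w from datPSL.x_inv 0 2 (by decide) F4.w]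
  show pr _ = pr (T 0 2 F4.w) * pr _ * pr (T 0 2 F4.w)
  rw [← map_mul, ← map_mul]
  congr 1
  apply Subtype.ext
  show (M3.mul (M3.mul PM R2) PM).toM = tm 0 2 F4.w * R2.toM * tm 0 2 F4.w
  have h : PM.toM = tm 0 2 F4.w := by
    ext i j
    fin_cases i <;> fin_cases j <;> rfl
  rw [M3.toM_mul, M3.toM_mul, h]

theorem r0_three : r0 ^ 3 = 1 := (pow_three_iff rfl).2 indep_chk.1

theorem r2_three : r2 ^ 3 = 1 := (pow_three_iff rfl).2 indep_chk.2.1

theorem x0_r0 : x0 r0 = r0 := fix_x0_mem R1_unit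

theorem x0_r2 : x0 r2 = r2 := fix_x0_mem R2_unit

/-! ### Facts for `L ≅ L₃(4)` -/

variable {L : Type*} [Group L]

/-- `⟨O(C_L(x)), O(C_L(xs))⟩ = L` for a polarity `x` and an involution `s` of `C_L(x)` -/
theorem gen_two (e : PSL3 ≃* L) {x : MulAut L} (hx : x * x = 1)
    (hb : bits ((D e).tyHom x) = (true, true)) {s : L} (hs : s * s = 1) (hs1 : s ≠ 1)
    (hxs : x s = s) :
    closure ({y | y ^ 3 = 1 ∧ x y = y} ∪ {y | y ^ 3 = 1 ∧ (x * MulAut.conj s) y = y}) = ⊤ := by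
  obtain ⟨e', h1, rfl⟩ := plx' e hx hb hs hs1 hxs
  have e1 := eq_tr e' isTau_x0 h1
  set S : Set L := {y | y ^ 3 = 1 ∧ x y = y} ∪
    {y | y ^ 3 = 1 ∧ (x * MulAut.conj ((D e').x 0 2 1)) y = y} with hS
  have k1 : ∀ r : PSL3, r ^ 3 = 1 → x0 r = r → e' r ∈ closure S := by
    intro r hr hxr
    apply Subgroup.subset_closure
    left
    refine ⟨by rw [← map_pow, hr, map_one], ?_⟩
    rw [e1, tr_e, hxr]
  have k2 : ∀ r : PSL3, r ^ 3 = 1 → x0 r = r → e' (t 0 2 F4.w * r * (t 0 2 F4.w)⁻¹) ∈ closure S := by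
    intro r hr hxr
    apply Subgroup.subset_closure
    right
    refine ⟨by rw [← map_pow, conj_pow, hr, mul_one, mul_inv_cancel, map_one], ?_⟩
    rw [MulAut.mul_apply, MulAut.conj_apply, e1]
    have h2 : (D e').x 0 2 1 = e' (t 0 2 1) := rfl
    rw [h2, ← map_inv, ← map_mul, ← map_mul, tr_e]
    congr 1
    have h3 : x0 (t 0 2 1 * t 0 2 F4.w) = t 0 2 F4.w := by
      have h4 : t 0 2 1 * t 0 2 F4.w = t 0 2 F4.v := datPSL.x_add 0 2 (by decide) 1 F4.w
      rw [h4]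
      have h5 := isTau_x0.x02 F4.v
      exact h5
    calc x0 (t 0 2 1 * (t 0 2 F4.w * r * (t 0 2 F4.w)⁻¹) * (t 0 2 1)⁻¹)
        = x0 ((t 0 2 1 * t 0 2 F4.w) * r * (t 0 2 1 * t 0 2 F4.w)⁻¹) := by
          congr 1; group
      _ = t 0 2 F4.w * r * (t 0 2 F4.w)⁻¹ := by
          rw [map_mul, map_mul, map_inv, h3, hxr]
  have h4 : (closure S).comap e'.toMonoidHom = ⊤ := by
    apply gen_four
    intro i
    rw [mem_comap]
    fin_cases i
    · exact k1 r0 r0_three x0_r0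
    · exact k1 r2 r2_three x0_r2
    · show e' (gp 2) ∈ _
      rw [gp_two]
      exact k2 r0 r0_three x0_r0
    · show e' (gp 3) ∈ _
      rw [gp_three]
      exact k2 r2 r2_three x0_r2
  rw [eq_top_iff]
  intro l _
  have h5 : e'.symm l ∈ (closure S).comap e'.toMonoidHom := by rw [h4]; exact mem_top _
  rw [mem_comap] at h5
  have h6 : e'.toMonoidHom (e'.symm l) = l := e'.apply_symm_apply l
  rwa [h6] at h5

/-- involutory outer automorphisms in the same coset of `Inn L` are conjugate under `L` -/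
theorem conj_coset (e : PSL3 ≃* L) {α β : MulAut L} (hα : α * α = 1) (hβ : β * β = 1)
    (ho : ∀ l, α ≠ MulAut.conj l) (h : ∃ l, β = α * MulAut.conj l) :
    ∃ m, MulAut.conj m * β * (MulAut.conj m)⁻¹ = α := by
  obtain ⟨l, hl⟩ := h
  have hoα : (D e).tyHom α ≠ 1 := by
    intro h1
    obtain ⟨l', hl'⟩ := (D e).inner_iff.1 h1
    exact ho l' hl'
  have hty : (D e).tyHom β = (D e).tyHom α := by
    rw [hl, map_mul, (D e).tyHom_conj, mul_one]
  have key : ∀ γ : MulAut L, γ * γ = 1 → (D e).tyHom γ = (D e).tyHom α →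
      ∃ m, (D e).IsTau ((D e).tyHom α).ty (MulAut.conj m * γ * (MulAut.conj m)⁻¹) := by
    intro γ hγ hγα
    have hQ : IsPGroup 2 (closure ({γ} : Set (MulAut L))) := by
      apply two_closure
      · rintro a rfl; exact hγ
      · rintro a rfl b rfl; rfl
    have hne : ((D e).tyHom α).ty ≠ ty1 := by
      intro h1
      exact hoα (TyG.ext h1)
    have hht : (D e).HasTy γ ((D e).tyHom α).ty := by
      rw [← hγα]; exact (D e).hasTy_tyHom γ
    obtain ⟨m, hm, _⟩ := exists_conj_pure (A := D e) _ hQ (Subgroup.subset_closure rfl) hγ hne hht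
    exact ⟨m, hm⟩
  obtain ⟨m, hm⟩ := key α hα rfl
  obtain ⟨n, hn⟩ := key β hβ hty
  have h1 := hm.ext hn
  refine ⟨m⁻¹ * n, ?_⟩
  rw [map_mul, map_inv]
  calc (MulAut.conj m)⁻¹ * MulAut.conj n * β * ((MulAut.conj m)⁻¹ * MulAut.conj n)⁻¹
      = (MulAut.conj m)⁻¹ * (MulAut.conj n * β * (MulAut.conj n)⁻¹) * MulAut.conj m := by group
    _ = α := by rw [← h1]; group

/-- every involutory automorphism commutes with an `L`-conjugate of a given polarity -/
theorem comm_polarity (e : PSL3 ≃* L) {x : MulAut L} (hx : x * x = 1)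
    (hb : bits ((D e).tyHom x) = (true, true)) {v : MulAut L} (hv : v * v = 1) :
    ∃ m, (MulAut.conj m * x * (MulAut.conj m)⁻¹) * v =
      v * (MulAut.conj m * x * (MulAut.conj m)⁻¹) := by
  -- it suffices to find a commuting polarity of the same type
  have hx1 : (D e).tyHom x = ⟨(true, true, 0)⟩ := by
    apply tt_unique _ _ hb
    rw [← map_mul, hx, map_one]
  have hox : ∀ l, x ≠ MulAut.conj l := by
    intro l h
    have h2 : (D e).tyHom x = 1 := (D e).inner_iff.2 ⟨l, h⟩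
    rw [hx1] at h2
    exact absurd h2 (by decide)
  have key : ∀ y : MulAut L, y * y = 1 → bits ((D e).tyHom y) = (true, true) → y * v = v * y →
      ∃ m, (MulAut.conj m * x * (MulAut.conj m)⁻¹) * v =
        v * (MulAut.conj m * x * (MulAut.conj m)⁻¹) := by
    intro y hy hby hc
    have hy1 : (D e).tyHom y = ⟨(true, true, 0)⟩ := by
      apply tt_unique _ _ hby
      rw [← map_mul, hy, map_one]
    have h2 : (D e).tyHom (x⁻¹ * y) = 1 := by
      rw [map_mul, map_inv, hx1, hy1, inv_mul_cancel]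
    obtain ⟨l, hl⟩ := (D e).inner_iff.1 h2
    obtain ⟨m, hm⟩ := conj_coset e hx hy hox ⟨l, by rw [← hl]; group⟩
    refine ⟨m⁻¹, ?_⟩
    have h3 : MulAut.conj m⁻¹ * x * (MulAut.conj m⁻¹)⁻¹ = y := by
      rw [← hm, map_inv]; group
    rw [h3, hc]
  have hbt : ∀ (e' : PSL3 ≃* L) (y : MulAut L), (D e').IsTau (true, true, 0) y →
      y * y = 1 ∧ bits ((D e).tyHom y) = (true, true) := by
    intro e' y hy
    constructor
    · have h1 := hy.mul hy
      exact IsTau.ext (A := D e') (τ := ty1) h1 isTau_one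
    · rw [← bits_indep e e', hy.hasTy.tyHom]; rfl
  by_cases hv1 : v = 1
  · subst hv1
    exact ⟨1, by rw [one_mul, mul_one]⟩
  have htv := ty_sq ((D e).tyHom v) (by rw [← map_mul, hv, map_one])
  have hpure : ∀ (e' : PSL3 ≃* L) (τ : Ty), (D e').IsTau τ v → τ.mul (true, true, 0) =
      Ty.mul (true, true, 0) τ → ∃ m, (MulAut.conj m * x * (MulAut.conj m)⁻¹) * v =
        v * (MulAut.conj m * x * (MulAut.conj m)⁻¹) := by
    intro e' τ hτ hc
    have hy : (D e').IsTau (true, true, 0) (tr e' x0) := isTau_map e' isTau_x0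
    obtain ⟨h1, h2⟩ := hbt e' _ hy
    apply key _ h1 h2
    have h3 := hy.mul hτ
    rw [← hc] at h3
    exact h3.ext (hτ.mul hy)
  rcases htv with h | h | h | h
  · obtain ⟨s, hs⟩ := (D e).inner_iff.1 h
    have hs1 : s ≠ 1 := by
      rintro rfl
      exact hv1 (by rw [hs, map_one])
    have hs2 : s * s = 1 := by
      apply (D e).conj_injective
      rw [map_mul, ← hs, hv, map_one]
    obtain ⟨e', he'⟩ := exists_x02 e hs2 hs1
    have hy : (D e').IsTau (true, true, 0) (tr e' x0) := isTau_map e' isTau_x0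
    obtain ⟨h1, h2⟩ := hbt e' _ hy
    apply key _ h1 h2
    rw [hs]
    apply conj_comm
    rw [← he', x02_one _ hy]
  · obtain ⟨e', h1⟩ := pure1 e hv h (by decide)
    exact hpure e' _ h1 (by decide)
  · obtain ⟨e', h1⟩ := pure1 e hv h (by decide)
    exact hpure e' _ h1 (by decide)
  · obtain ⟨e', h1⟩ := pure1 e hv (b1 := true) (b2 := true) (by rw [h]; rfl) (by decide)
    exact hpure e' _ h1 (by decide)

/-! ### Fixed codes of the pure types -/

/-- `C_P(x) = Q₈` has a unique involution, and its elements outside `⟨b⟩` have square `b` -/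
theorem code_x : ∀ p : Code, ctau (true, true, 0) p = p →
    p = cone ∨ p = ⟨0, 0, 1⟩ ∨ cmul p p = ⟨0, 0, 1⟩ := by decide +kernel

/-- `C_P(f) = D₈`: the codes over the prime field -/
theorem code_f : ∀ p : Code, ctau (true, false, 0) p = p ↔ (p.a = 0 ∨ p.a = 1) ∧
    (p.b = 0 ∨ p.b = 1) ∧ (p.c = 0 ∨ p.c = 1) := by decide +kernel

/-- `C_P(g) = Z(P)` -/
theorem code_g : ∀ p : Code, ctau (false, true, 0) p = p ↔ p.a = 0 ∧ p.b = 0 := by decide +kernel

end Cfsg.Agent.UGT.FL34
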