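import Cfsg.Agent.UGT.FL34.Mat
import Cfsg.Agent.S0249
import Cfsg.Agent.UGT.ThEL34.Facts

/-!
# Fixed points of the standard automorphisms of `PSL(3,4)`
-/

set_option autoImplicit false
set_option linter.constructorNameAsVariable false
set_option linter.unusedVariables false

namespace Cfsg.Agent.UGT.FL34

open Matrix
open Cfsg.Agent.SporadicA.FieldFour
open Cfsg.Agent.LThreeFour Cfsg.Agent.LThreeFour.Dat
open Cfsg.Agent.ONType.Psl (PSL3 SL3 T t tm)
open Cfsg.Agent.ONType.OuterL (rv rv_ne rv_rv J Jm coe_J cj_J_T itr_T fld_T cj_eq_of charP_two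
  neg_eq det_Jm)
open Cfsg.Agent.ClassicalGeometry.AutPSL.Root
open Cfsg.Agent.ClassicalGeometry.AutPSL.Auto
open Cfsg.Agent.UGT.ThEL34 (fx mem_fx)

/-! ### Field type -/

/-- the embedding of the prime field -/
def c2 : ZMod 2 →+* F4 := ZMod.castHom (dvd_refl 2) F4

theorem c2_inj : Function.Injective c2 := RingHom.injective c2

theorem c2_zero : c2 0 = 0 := map_zero c2

theorem c2_one : c2 1 = 1 := map_one c2

/-- `SL(3,2) → PSL(3,4)` -/
def phi2 : SpecialLinearGroup (Fin 3) (ZMod 2) →* PSL3 :=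
  pr.comp (Matrix.SpecialLinearGroup.map c2)

theorem fix_f0_le {l : PSL3} (h : f0 l = l) : ∃ m, phi2 m = l := by
  obtain ⟨M, rfl⟩ := pr_surjective l
  have h1 : pr (fld frob M) = pr M := h
  obtain ⟨c, hc⟩ := exists_smul_of_pr_eq h1
  have he : ∀ i j, M.1 i j = c * (M.1 i j * M.1 i j) := by
    intro i j
    have := congrFun (congrFun hc i) j
    exact this
  have hdet : M.1.det = 1 := M.2
  have hc0 : c ≠ 0 := by
    rintro rfl
    have h2 : M.1 = 0 := by
      ext i j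
      rw [he i j, zero_mul]; rfl
    rw [h2, Matrix.det_zero] at hdet
    exact zero_ne_one hdet
  have h3 : ∀ c u : F4, u = c * (u * u) → u = 0 ∨ c * u = 1 := by decide
  let N : Matrix (Fin 3) (Fin 3) (ZMod 2) := fun i j => if M.1 i j = 0 then 0 else 1
  have hN : ∀ i j, c2 (N i j) = c * M.1 i j := by
    intro i j
    show c2 (if M.1 i j = 0 then 0 else 1) = _
    rcases h3 c _ (he i j) with h4 | h4
    · rw [if_pos h4, h4, c2_zero, mul_zero]
    · rw [if_neg, c2_one, h4]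
      intro h5
      rw [h5, mul_zero] at h4
      exact zero_ne_one h4
  have hNM : N.map c2 = c • M.1 := by
    ext i j
    exact hN i j
  have hc3 : ∀ c : F4, c ≠ 0 → c ^ 3 = 1 := by decide
  have hNdet : N.det = 1 := by
    apply c2_inj
    rw [RingHom.map_det, RingHom.mapMatrix_apply, hNM, Matrix.det_smul, hdet, mul_one,
      Fintype.card_fin, hc3 c hc0, c2_one]
  refine ⟨⟨N, hNdet⟩, ?_⟩
  show pr (Matrix.SpecialLinearGroup.map c2 ⟨N, hNdet⟩) = pr M
  symm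
  apply pr_eq_of_smul (c := c)
  rw [← hNM]
  rfl

theorem fix_f0_mem (m : SpecialLinearGroup (Fin 3) (ZMod 2)) : f0 (phi2 m) = phi2 m := by
  show lift (fld frob) (pr _) = pr _
  rw [lift_pr]
  congr 1
  apply Subtype.ext
  ext i j
  show frob (c2 (m.1 i j)) = c2 (m.1 i j)
  have : ∀ a : ZMod 2, a * a = a := by decide
  rw [frob_apply, ← map_mul, this]

theorem x02_fix_f0 : t 0 2 1 ∈ fx f0 := by
  have h := isTau_f0 0 2 (by decide) 1
  exact h

theorem simple_f0 : IsSimpleGroup (fx f0) := by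
  have hs : IsSimpleGroup (ProjectiveSpecialLinearGroup (Fin 3) (ZMod 2)) := S0249.result 3 le_rfl
  let φ : SpecialLinearGroup (Fin 3) (ZMod 2) →* fx f0 := phi2.codRestrict (fx f0) fix_f0_mem
  have hk : ∀ m ∈ Subgroup.center (SpecialLinearGroup (Fin 3) (ZMod 2)), φ m = 1 := by
    intro m hm
    obtain ⟨r, hr, hrm⟩ := Matrix.SpecialLinearGroup.mem_center_iff.1 hm
    have h1 : ∀ r : ZMod 2, r ^ 3 = 1 → r = 1 := by decide
    rw [Fintype.card_fin] at hr
    have h2 := h1 r hr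
    subst h2
    have h3 : m = 1 := by
      apply Subtype.ext
      rw [← hrm, map_one]; rfl
    rw [h3, map_one]
  let ψ : ProjectiveSpecialLinearGroup (Fin 3) (ZMod 2) →* fx f0 := QuotientGroup.lift _ φ hk
  have hψ : Function.Surjective ψ := by
    rintro ⟨l, hl⟩
    obtain ⟨m, hm⟩ := fix_f0_le hl
    exact ⟨QuotientGroup.mk m, Subtype.ext hm⟩
  have hnt : Nontrivial (fx f0) := by
    refine ⟨⟨t 0 2 1, x02_fix_f0⟩, 1, ?_⟩
    intro h
    have h1 : t 0 2 1 = 1 := congrArg Subtype.val h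
    have h2 : datPSL.x 0 2 1 = 1 := h1
    rw [← datPSL.el_x02, datPSL.el_eq_one] at h2
    exact absurd h2 (by decide)
  exact IsSimpleGroup.isSimpleGroup_of_surjective ψ hψ

/-! ### Graph type -/

/-- the Levi embedding on matrices -/
def lev (m : Matrix (Fin 2) (Fin 2) F4) : Matrix (Fin 3) (Fin 3) F4 :=
  !![m 0 0, 0, m 0 1; 0, 1, 0; m 1 0, 0, m 1 1]

theorem lev_mul (m n : Matrix (Fin 2) (Fin 2) F4) : lev (m * n) = lev m * lev n := by
  ext i j
  rw [Matrix.mul_apply, Fin.sum_univ_three]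
  fin_cases i <;> fin_cases j <;> simp [lev, Matrix.mul_apply, Fin.sum_univ_two]

theorem lev_one : lev 1 = 1 := by
  ext i j
  fin_cases i <;> fin_cases j <;> simp [lev]

theorem lev_det (m : Matrix (Fin 2) (Fin 2) F4) : (lev m).det = m.det := by
  rw [Matrix.det_fin_three, Matrix.det_fin_two]
  simp [lev]

/-- the Levi embedding -/
def levi : SpecialLinearGroup (Fin 2) F4 →* SL3 where
  toFun m := ⟨lev m.1, by rw [lev_det]; exact m.2⟩
  map_one' := Subtype.ext lev_one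
  map_mul' m n := Subtype.ext (lev_mul m.1 n.1)

/-- `SL(2,4) → PSL(3,4)` -/
def phi4 : SpecialLinearGroup (Fin 2) F4 →* PSL3 := pr.comp levi

theorem cj_itr_mul (M : SL3) : (cj J (itr M)).1 * Jm * M.1ᵀ = Jm := by
  have h1 : (cj J (itr M)).1 = Jm * (itr M).1 * ((J⁻¹ : GL (Fin 3) F4) : Matrix (Fin 3) (Fin 3) F4) :=
    coe_cj J (itr M)
  have h2 : ((J⁻¹ : GL (Fin 3) F4) : Matrix (Fin 3) (Fin 3) F4) * Jm = 1 := by
    rw [← coe_J, ← Units.val_mul, inv_mul_cancel, Units.val_one]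
  have h3 : (itr M).1 * M.1ᵀ = 1 := by
    rw [coe_itr, ← Matrix.transpose_mul, ← Matrix.SpecialLinearGroup.coe_mul, mul_inv_cancel,
      Matrix.SpecialLinearGroup.coe_one, Matrix.transpose_one]
  calc (cj J (itr M)).1 * Jm * M.1ᵀ
      = Jm * (itr M).1 * (((J⁻¹ : GL (Fin 3) F4) : Matrix (Fin 3) (Fin 3) F4) * Jm) * M.1ᵀ := by
        rw [h1]; simp only [Matrix.mul_assoc]
    _ = Jm * ((itr M).1 * M.1ᵀ) := by rw [h2, Matrix.mul_one, Matrix.mul_assoc]
    _ = Jm := by rw [h3, Matrix.mul_one]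

theorem mul_Jm_mul (A B : Matrix (Fin 3) (Fin 3) F4) (i k : Fin 3) :
    (A * Jm * Bᵀ) i k = A i 0 * B k 2 + A i 1 * B k 1 + A i 2 * B k 0 := by
  have hJ : ∀ i j, (A * Jm) i j = A i (rv j) := by
    intro i j
    rw [Matrix.mul_apply, Fin.sum_univ_three]
    fin_cases j <;> simp [Jm, rv]
  rw [Matrix.mul_apply, Fin.sum_univ_three, hJ, hJ, hJ]
  show A i 2 * B k 0 + A i 1 * B k 1 + A i 0 * B k 2 = _
  ring

theorem fix_g0_le {l : PSL3} (h : g0 l = l) : ∃ m, phi4 m = l := by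
  obtain ⟨M, rfl⟩ := pr_surjective l
  have h1 : pr (cj J (itr M)) = pr M := h
  obtain ⟨c, hc⟩ := exists_smul_of_pr_eq h1
  have hMJ : M.1 * Jm * M.1ᵀ = c • Jm := by
    nth_rw 1 [hc]
    rw [Matrix.smul_mul, Matrix.smul_mul, cj_itr_mul]
  have he : ∀ i k, M.1 i 0 * M.1 k 2 + M.1 i 1 * M.1 k 1 + M.1 i 2 * M.1 k 0 = c * Jm i k := by
    intro i k
    rw [← mul_Jm_mul, hMJ]; rfl
  have hdet : M.1.det = 1 := M.2
  have hc0 : c ≠ 0 := by
    rintro rfl
    have h2 : M.1 = 0 := by rw [hc, zero_smul]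
    rw [h2, Matrix.det_zero] at hdet
    exact zero_ne_one hdet
  have e00 := he 0 0
  have e22 := he 2 2
  have e11 := he 1 1
  have e02 := he 0 2
  have e01 := he 0 1
  have e21 := he 2 1
  have j00 : Jm 0 0 = 0 := by decide
  have j22 : Jm 2 2 = 0 := by decide
  have j11 : Jm 1 1 = 1 := by decide
  have j02 : Jm 0 2 = 1 := by decide
  have j01 : Jm 0 1 = 0 := by decide
  have j21 : Jm 2 1 = 0 := by decide
  rw [j00, mul_zero] at e00
  rw [j22, mul_zero] at e22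
  rw [j11, mul_one] at e11
  rw [j02, mul_one] at e02
  rw [j01, mul_zero] at e01
  rw [j21, mul_zero] at e21
  have k1 : ∀ a b c : F4, a * c + b * b + c * a = 0 → b = 0 := by decide
  have k2 : ∀ a b c d : F4, a * c + b * b + c * a = d → b * b = d := by decide
  have m01 := k1 _ _ _ e00
  have m21 := k1 _ _ _ e22
  have m11 := k2 _ _ _ _ e11
  rw [m01, m21] at e02
  rw [m01] at e01
  rw [m21] at e21
  have k3 : ∀ a b d f x y c : F4, a * f + 0 * 0 + b * d = c → c ≠ 0 →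
      a * x + 0 * y + b * (0 : F4) = a * x := by
    intro a b d f x y c _ _; ring
  -- solve for `M 1 0` and `M 1 2`
  have k4 : ∀ a b d f x z : F4, a * f + b * d ≠ 0 → a * x + b * z = 0 → d * x + f * z = 0 →
      x = 0 ∧ z = 0 := by decide +kernel
  have h5 : M.1 1 2 = 0 ∧ M.1 1 0 = 0 := by
    apply k4 (M.1 0 0) (M.1 0 2) (M.1 2 0) (M.1 2 2) (M.1 1 2) (M.1 1 0)
    · intro h6
      apply hc0
      rw [← e02, zero_mul, add_zero]
      exact h6
    · rw [← e01]; ring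
    · rw [← e21]; ring
  have hc3 : ∀ c : F4, c ≠ 0 → c * c * c = 1 := by decide
  let N : Matrix (Fin 2) (Fin 2) F4 := !![c * M.1 0 0, c * M.1 0 2; c * M.1 2 0, c * M.1 2 2]
  have hN : N.det = 1 := by
    rw [Matrix.det_fin_two]
    show c * M.1 0 0 * (c * M.1 2 2) - c * M.1 0 2 * (c * M.1 2 0) = 1
    rw [sub_eq_add_neg, neg_eq]
    calc c * M.1 0 0 * (c * M.1 2 2) + c * M.1 0 2 * (c * M.1 2 0)
        = c * c * (M.1 0 0 * M.1 2 2 + 0 * 0 + M.1 0 2 * M.1 2 0) := by ring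
      _ = c * c * c := by rw [e02]
      _ = 1 := hc3 c hc0
  refine ⟨⟨N, hN⟩, ?_⟩
  show pr (levi ⟨N, hN⟩) = pr M
  symm
  apply pr_eq_of_smul (c := c)
  show lev N = c • M.1
  have k6 : ∀ b c : F4, b * b = c → c ≠ 0 → c * b = 1 := by decide
  ext i j
  show lev N i j = c * M.1 i j
  fin_cases i <;> fin_cases j
  · rfl
  · show (0 : F4) = c * M.1 0 1
    rw [m01, mul_zero]
  · rfl
  · show (0 : F4) = c * M.1 1 0
    rw [h5.2, mul_zero]
  · show (1 : F4) = c * M.1 1 1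
    exact (k6 _ _ m11 hc0).symm
  · show (0 : F4) = c * M.1 1 2
    rw [h5.1, mul_zero]
  · rfl
  · show (0 : F4) = c * M.1 2 1
    rw [m21, mul_zero]
  · rfl

/-- a matrix preserving the form is fixed -/
theorem cj_itr_eq {M M' : SL3} (h : M.1 * Jm * M'.1ᵀ = Jm) : cj J (itr M') = M := by
  apply cj_eq_of
  show Jm * (itr M').1 = M.1 * Jm
  have h3 : M'.1ᵀ * (itr M').1 = 1 := by
    rw [coe_itr, ← Matrix.transpose_mul, ← Matrix.SpecialLinearGroup.coe_mul, inv_mul_cancel,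
      Matrix.SpecialLinearGroup.coe_one, Matrix.transpose_one]
  calc Jm * (itr M').1 = M.1 * Jm * M'.1ᵀ * (itr M').1 := by rw [h]
    _ = M.1 * Jm * (M'.1ᵀ * (itr M').1) := by rw [Matrix.mul_assoc]
    _ = M.1 * Jm := by rw [h3, Matrix.mul_one]

theorem fix_g0_mem (m : SpecialLinearGroup (Fin 2) F4) : g0 (phi4 m) = phi4 m := by
  show lift (cj J * itr) (pr (levi m)) = pr (levi m)
  rw [lift_pr, MulAut.mul_apply]
  congr 1
  apply cj_itr_eq
  have hd : m.1 0 0 * m.1 1 1 + m.1 0 1 * m.1 1 0 = 1 := by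
    have := m.2
    rw [Matrix.det_fin_two, sub_eq_add_neg, neg_eq] at this
    exact this
  have k : ∀ a b : F4, a * b + 0 * 0 + b * a = 0 := by decide
  ext i j
  rw [mul_Jm_mul]
  show lev m.1 i 0 * lev m.1 j 2 + lev m.1 i 1 * lev m.1 j 1 + lev m.1 i 2 * lev m.1 j 0 = Jm i j
  fin_cases i <;> fin_cases j
  · exact k _ _
  · show m.1 0 0 * 0 + 0 * 1 + m.1 0 1 * 0 = 0
    ring
  · show m.1 0 0 * m.1 1 1 + 0 * 0 + m.1 0 1 * m.1 1 0 = 1
    calc _ = m.1 0 0 * m.1 1 1 + m.1 0 1 * m.1 1 0 := by ring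
      _ = 1 := hd
  · show 0 * m.1 0 1 + 1 * 0 + 0 * m.1 0 0 = 0
    ring
  · show (0 : F4) * 0 + 1 * 1 + 0 * 0 = 1
    decide
  · show 0 * m.1 1 1 + 1 * 0 + 0 * m.1 1 0 = 0
    ring
  · show m.1 1 0 * m.1 0 1 + 0 * 0 + m.1 1 1 * m.1 0 0 = 1
    calc _ = m.1 0 0 * m.1 1 1 + m.1 0 1 * m.1 1 0 := by ring
      _ = 1 := hd
  · show m.1 1 0 * 0 + 0 * 1 + m.1 1 1 * 0 = 0
    ring
  · exact k _ _

theorem x02_fix_g0 : t 0 2 1 ∈ fx g0 := isTau_g0 0 2 (by decide) 1

theorem simple_g0 : IsSimpleGroup (fx g0) := by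
  have hs : IsSimpleGroup (ProjectiveSpecialLinearGroup (Fin 2) F4) :=
    Matrix.ProjectiveSpecialLinearGroup.rank_two_simple (by
      rw [Nat.card_eq_fintype_card, F4.card_eq])
  let φ : SpecialLinearGroup (Fin 2) F4 →* fx g0 := phi4.codRestrict (fx g0) fix_g0_mem
  have hk : ∀ m ∈ Subgroup.center (SpecialLinearGroup (Fin 2) F4), φ m = 1 := by
    intro m hm
    obtain ⟨r, hr, hrm⟩ := Matrix.SpecialLinearGroup.mem_center_iff.1 hm
    have h1 : ∀ r : F4, r ^ 2 = 1 → r = 1 := by decide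
    rw [Fintype.card_fin] at hr
    have h2 := h1 r hr
    subst h2
    have h3 : m = 1 := by
      apply Subtype.ext
      rw [← hrm, map_one]; rfl
    rw [h3, map_one]
  let ψ : ProjectiveSpecialLinearGroup (Fin 2) F4 →* fx g0 := QuotientGroup.lift _ φ hk
  have hψ : Function.Surjective ψ := by
    rintro ⟨l, hl⟩
    obtain ⟨m, hm⟩ := fix_g0_le hl
    exact ⟨QuotientGroup.mk m, Subtype.ext hm⟩
  have hnt : Nontrivial (fx g0) := by
    refine ⟨⟨t 0 2 1, x02_fix_g0⟩, 1, ?_⟩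
    intro h
    have h1 : t 0 2 1 = 1 := congrArg Subtype.val h
    have h2 : datPSL.x 0 2 1 = 1 := h1
    rw [← datPSL.el_x02, datPSL.el_eq_one] at h2
    exact absurd h2 (by decide)
  exact IsSimpleGroup.isSimpleGroup_of_surjective ψ hψ

end Cfsg.Agent.UGT.FL34
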