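import Cfsg.Agent.UGT.FL34.Extra

/-!
# Facts on `L₃(4)` for `KF34` (1)

* `c2`, `cls`, `cent`, `four`, `q8`.
-/

set_option autoImplicit false
set_option linter.constructorNameAsVariable false
set_option linter.unusedVariables false

namespace Cfsg.Agent.UGT.FL34.KF

open Subgroup Cfsg.Agent.UGT.FL34
open Cfsg.Agent.SporadicA.FieldFour
open Cfsg.Agent.LThreeFour Cfsg.Agent.LThreeFour.Dat
open Cfsg.Agent.ONType.Psl (PSL3)
open scoped commutatorElement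

variable {L : Type*} [Group L]

/-- an involution is `x₀₂(1)` in suitable coordinates -/
theorem exists_coord (e : PSL3 ≃* L) {s : L} (hs : s * s = 1) (hs1 : s ≠ 1) :
    ∃ e' : PSL3 ≃* L, s = (D e').x 0 2 1 := by
  obtain ⟨g, hg⟩ := (D e).invol_conj s hs1 hs
  refine ⟨e.trans ((MulAut.conj g)⁻¹ : MulAut L), ?_⟩
  show s = (MulAut.conj g)⁻¹ ((D e).x 0 2 1)
  rw [← hg, MulAut.conj_inv_apply]
  group

/-- the centralizer of an involution -/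
theorem comm_iff (A : Dat L) {l : L} : l * A.x 0 2 1 = A.x 0 2 1 * l ↔ ∃ p, l = A.el p := by
  rw [cent_x02, mem_T]
  exact ⟨fun ⟨p, hp⟩ => ⟨p, hp.symm⟩, fun ⟨p, hp⟩ => ⟨p, hp.symm⟩⟩

theorem four_code : ∀ p : Code, cmul (cmul p p) (cmul p p) = cone := by decide +kernel

theorem el_pow_four (A : Dat L) (p : Code) : A.el p ^ 4 = 1 := by
  have h1 : A.el p ^ 4 = A.el p * A.el p * (A.el p * A.el p) := by
    rw [← sq, ← sq, ← pow_mul]
  rw [h1, A.el_mul, A.el_mul, four_code, A.el_one]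

theorem c2 (e : PSL3 ≃* L) (s : L) (hs : s * s = 1) (hs1 : s ≠ 1) (l : L) (hl : l * s = s * l) :
    ∃ n : ℕ, l ^ 2 ^ n = 1 := by
  obtain ⟨e', rfl⟩ := exists_coord e hs hs1
  obtain ⟨p, rfl⟩ := (comm_iff (D e')).1 hl
  exact ⟨2, el_pow_four (D e') p⟩

theorem cls (e : PSL3 ≃* L) (s t : L) (hs : s * s = 1) (hs1 : s ≠ 1) (ht : t * t = 1) (ht1 : t ≠ 1) :
    ∃ g, g * s * g⁻¹ = t := by
  obtain ⟨g, hg⟩ := (D e).invol_conj s hs1 hs
  obtain ⟨h, hh⟩ := (D e).invol_conj t ht1 ht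
  refine ⟨h⁻¹ * g, ?_⟩
  calc h⁻¹ * g * s * (h⁻¹ * g)⁻¹ = h⁻¹ * (g * s * g⁻¹) * h := by group
    _ = h⁻¹ * (h * t * h⁻¹) * h := by rw [hg, hh]
    _ = t := by group

theorem cent_code1 : ∀ τ : Ty, (∀ y ∈ ([⟨1, 0, 0⟩, ⟨F4.w, 0, 0⟩, ⟨0, 1, 0⟩, ⟨0, F4.w, 0⟩] : List Code),
    (ctau τ y).a = y.a ∧ (ctau τ y).b = y.b) → τ = ty1 := by decide +kernel

theorem cent_code2 : ∀ p : Code, (∀ y ∈ ([⟨1, 0, 0⟩, ⟨F4.w, 0, 0⟩, ⟨0, 1, 0⟩, ⟨0, F4.w, 0⟩] : List Code),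
    p.a * y.b + p.b * y.a = 0 ∨ p.a * y.b + p.b * y.a = 1) → p.a = 0 ∧ p.b = 0 := by decide +kernel

theorem cent (e : PSL3 ≃* L) (s : L) (hs : s * s = 1) (hs1 : s ≠ 1) (α : MulAut L)
    (hα : ∀ p, p * s = s * p → α p * p⁻¹ = 1 ∨ α p * p⁻¹ = s) :
    ∃ z, α = MulAut.conj z ∧ ∀ p, p * s = s * p → z * p = p * z := by
  obtain ⟨e', rfl⟩ := exists_coord e hs hs1
  set A := D e' with hA
  have hfix : α (A.x 0 2 1) = A.x 0 2 1 := by
    rcases hα _ rfl with h | h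
    · exact mul_inv_eq_one.1 h
    · exfalso
      rw [mul_inv_eq_iff_eq_mul, hs] at h
      exact hs1 (by rw [← α.map_eq_one_iff]; exact h)
  obtain ⟨q, τ, hq⟩ := A.exists_cd hfix
  have key : ∀ y : Code, cmul (cact q τ y) (cinv y) = cone ∨
      cmul (cact q τ y) (cinv y) = ⟨0, 0, 1⟩ := by
    intro y
    have h1 := hα (A.el y) ((comm_iff A).2 ⟨y, rfl⟩)
    rw [hq.apply, A.el_inv, A.el_mul, A.el_eq_one, ← A.el_x02] at h1
    rcases h1 with h1 | h1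
    · exact Or.inl h1
    · exact Or.inr (A.inj h1)
  have hadd : ∀ u v : F4, u + v = 0 → u = v := by decide
  have h0 : ∀ y : Code, (cact q τ y).a = y.a ∧ (cact q τ y).b = y.b := by
    intro y
    rcases key y with h | h
    · exact ⟨hadd _ _ (congrArg Code.a h), hadd _ _ (congrArg Code.b h)⟩
    · exact ⟨hadd _ _ (congrArg Code.a h), hadd _ _ (congrArg Code.b h)⟩
  have hτ : τ = ty1 := by
    apply cent_code1
    intro y _
    rw [← (cact_ab q τ y).1, ← (cact_ab q τ y).2]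
    exact h0 y
  subst hτ
  have hab : q.a = 0 ∧ q.b = 0 := by
    apply cent_code2
    intro y _
    have h1 : cmul (cact q ty1 y) (cinv y) = ⟨0, 0, q.a * y.b + q.b * y.a⟩ := by
      have k : ∀ q y : Code, cmul (cmul (cmul (cinv q) y) q) (cinv y) =
          ⟨0, 0, q.a * y.b + q.b * y.a⟩ := by decide +kernel
      unfold cact
      rw [ctau_ty1]
      exact k q y
    rcases key y with h | h
    · left
      rw [h1] at h
      exact congrArg Code.c h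
    · right
      rw [h1] at h
      exact congrArg Code.c h
  refine ⟨A.el (cinv q), hq.eq_conj, ?_⟩
  intro p hp
  obtain ⟨y, rfl⟩ := (comm_iff A).1 hp
  apply Z_comm _ (A.el_mem y)
  rw [el_mem_Z]
  exact hab

theorem four_code' : ∀ a b : F4, (a ≠ 0 ∨ b ≠ 0) → ∃ u v : F4, a * v + b * u = F4.w := by decide +kernel

theorem four (e : PSL3 ≃* L) (s : L) (hs : s * s = 1) (hs1 : s ≠ 1) (w : L) (hw : w * s = s * w)
    (hp : ∃ p, p * s = s * p ∧ w * p ≠ p * w) :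
    ∃ p, p * s = s * p ∧ w * p * w⁻¹ * p⁻¹ ≠ 1 ∧ w * p * w⁻¹ * p⁻¹ ≠ s := by
  obtain ⟨e', rfl⟩ := exists_coord e hs hs1
  obtain ⟨q, rfl⟩ := (comm_iff (D e')).1 hw
  obtain ⟨p, hp1, hp2⟩ := hp
  obtain ⟨y, rfl⟩ := (comm_iff (D e')).1 hp1
  have h1 : q.a ≠ 0 ∨ q.b ≠ 0 := by
    by_contra h
    push Not at h
    apply hp2
    apply Z_comm _ ((D e').el_mem y)
    rw [el_mem_Z]
    exact h
  obtain ⟨u, v, huv⟩ := four_code' q.a q.b h1
  have h2 := (D e').el_comm q ⟨u, v, 0⟩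
  rw [huv, commutatorElement_def] at h2
  refine ⟨(D e').el ⟨u, v, 0⟩, (comm_iff (D e')).2 ⟨_, rfl⟩, ?_, ?_⟩
  · rw [h2, ← (D e').el_x02]
    intro h
    rw [(D e').el_eq_one] at h
    exact absurd h (by decide)
  · rw [h2, ← (D e').el_x02, ← (D e').el_x02]
    intro h
    exact absurd ((D e').inj h) (by decide)

theorem q8_code : ∃ p q : Code, ctau (true, true, 0) p = p ∧ ctau (true, true, 0) q = q ∧
    cmul p p = ⟨0, 0, 1⟩ ∧ cmul q q = ⟨0, 0, 1⟩ ∧ cmul (cmul q p) (cinv q) = cinv p := by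
  decide +kernel

theorem q8 (e : PSL3 ≃* L) {x : MulAut L} (hx : x * x = 1)
    (hb : bits ((D e).tyHom x) = (true, true)) (s : L) (hs : s * s = 1) (hs1 : s ≠ 1)
    (hxs : x s = s) : ∃ w₁ w₂, x w₁ = w₁ ∧ x w₂ = w₂ ∧ w₁ * w₁ = s ∧ w₂ * w₂ = s ∧
      w₂ * w₁ * w₂⁻¹ = w₁⁻¹ := by
  obtain ⟨e', h1, rfl⟩ := plx' e hx hb hs hs1 hxs
  obtain ⟨p, q, h2, h3, h4, h5, h6⟩ := q8_code
  refine ⟨(D e').el p, (D e').el q, ?_, ?_, ?_, ?_, ?_⟩
  · rw [h1.el, h2]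
  · rw [h1.el, h3]
  · rw [(D e').el_mul, h4, (D e').el_x02]
  · rw [(D e').el_mul, h5, (D e').el_x02]
  · rw [(D e').el_inv, (D e').el_inv, (D e').el_mul, (D e').el_mul, h6]

end Cfsg.Agent.UGT.FL34.KF
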