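import Cfsg.Agent.UGT.FL34.Gen
import Cfsg.Agent.LThreeFour.Outer

/-!
# The facts on `L₃(4)`
-/

set_option autoImplicit false
set_option linter.constructorNameAsVariable false
set_option linter.unusedVariables false

namespace Cfsg.Agent.UGT.FL34

open Subgroup
open Cfsg.Agent.SporadicA.FieldFour
open Cfsg.Agent.LThreeFour Cfsg.Agent.LThreeFour.Dat
open Cfsg.Agent.ONType.Psl (PSL3 kap)
open Cfsg.Agent.UGT.ThEL34
open scoped commutatorElement

variable {L : Type*} [Group L]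

/-! ### Generation -/

theorem gen_T (A : Dat L) {H : Subgroup L} (h1 : A.T ≤ H) (h2 : A.x 2 0 1 ∈ H) : H = ⊤ := by
  have h02 : ∀ u, A.x 0 2 u ∈ H := fun u => h1 (by rw [← A.el_x02]; exact A.el_mem _)
  have h01 : ∀ u, A.x 0 1 u ∈ H := fun u => h1 (by rw [← A.el_x01]; exact A.el_mem _)
  have h12 : ∀ u, A.x 1 2 u ∈ H := fun u => h1 (by rw [← A.el_x12]; exact A.el_mem _)
  have hn : A.x 0 2 1 * A.x 2 0 1 * A.x 0 2 1 ∈ H := mul_mem (mul_mem (h02 1) h2) (h02 1)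
  have hw : ∀ k l, k ≠ l → ∀ u, A.x k l u ∈ H → A.x (Equiv.swap 0 2 k) (Equiv.swap 0 2 l) u ∈ H := by
    intro k l hkl u h
    rw [← A.x_wey 0 2 k l (by decide) hkl u]
    exact mul_mem (mul_mem (inv_mem hn) h) hn
  rw [eq_top_iff, ← A.gen, closure_le]
  rintro _ ⟨i, j, u, hij, rfl⟩
  fin_cases i <;> fin_cases j
  · exact absurd rfl hij
  · exact h01 u
  · exact h02 u
  · exact hw 1 2 (by decide) u (h12 u)
  · exact absurd rfl hij
  · exact h12 u
  · exact hw 0 2 (by decide) u (h02 u)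
  · exact hw 0 1 (by decide) u (h01 u)
  · exact absurd rfl hij

theorem gen_pair (A : Dat L) {H : Subgroup L} (h1 : ∀ i j, i ≠ j → A.x i j 1 ∈ H)
    (h2 : ∀ u, A.x 0 2 u ∈ H) : H = ⊤ := by
  have hn : ∀ i j, i ≠ j → A.x i j 1 * A.x j i 1 * A.x i j 1 ∈ H := fun i j hij =>
    mul_mem (mul_mem (h1 i j hij) (h1 j i hij.symm)) (h1 i j hij)
  have h01 : ∀ u, A.x 0 1 u ∈ H := by
    intro u
    have h := A.x_wey 1 2 0 2 (by decide) (by decide) u
    have e : A.x (Equiv.swap 1 2 0) (Equiv.swap 1 2 2) u = A.x 0 1 u := rfl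
    rw [← e, ← h]
    exact mul_mem (mul_mem (inv_mem (hn 1 2 (by decide))) (h2 u)) (hn 1 2 (by decide))
  have h12 : ∀ u, A.x 1 2 u ∈ H := by
    intro u
    have h := A.x_wey 0 1 0 2 (by decide) (by decide) u
    have e : A.x (Equiv.swap 0 1 0) (Equiv.swap 0 1 2) u = A.x 1 2 u := rfl
    rw [← e, ← h]
    exact mul_mem (mul_mem (inv_mem (hn 0 1 (by decide))) (h2 u)) (hn 0 1 (by decide))
  apply gen_T A _ (h1 2 0 (by decide))
  rintro _ ⟨p, rfl⟩
  rw [A.el_eq]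
  exact mul_mem (mul_mem (h01 _) (h12 _)) (h2 _)

/-! ### The opposite root group -/

theorem code_four : ∀ p : Code, cmul (cmul p p) (cmul p p) = cone := by decide +kernel

theorem code_three : ∀ p : Code, cmul (cmul p p) p = cone → p = cone := by decide +kernel

theorem cent_r (A : Dat L) {t : L} (ht1 : t ≠ 1) (ht : t * t = 1) (h02 : t * A.x 0 2 1 = A.x 0 2 1 * t)
    (h20 : t * A.x 2 0 1 = A.x 2 0 1 * t) : False := by
  obtain ⟨k, hk⟩ := A.invol_conj t ht1 ht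
  set r := A.x 0 2 1 * A.x 2 0 1 with hr
  have hr1 : t * r = r * t := by
    rw [hr, ← mul_assoc, h02, mul_assoc, h20, mul_assoc]
  have h1 : (k * r * k⁻¹) * A.x 0 2 1 = A.x 0 2 1 * (k * r * k⁻¹) := by
    rw [← hk]
    calc k * r * k⁻¹ * (k * t * k⁻¹) = k * (r * t) * k⁻¹ := by group
      _ = k * t * k⁻¹ * (k * r * k⁻¹) := by rw [← hr1]; group
  obtain ⟨q, hq⟩ := cent_x02.1 h1
  have h2 : cmul (cmul q q) q = cone := by
    rw [← A.el_eq_one, ← A.el_mul, ← A.el_mul, hq]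
    calc k * r * k⁻¹ * (k * r * k⁻¹) * (k * r * k⁻¹) = k * (r * r * r) * k⁻¹ := by group
      _ = 1 := by rw [← pow_three', A.r_pow]; group
  rw [code_three q h2, A.el_one] at hq
  apply A.r_ne
  show r = 1
  calc r = k⁻¹ * (k * r * k⁻¹) * k := by group
    _ = 1 := by rw [← hq]; group

theorem comm_x20 (A : Dat L) {p : Code} (h : A.el p * A.x 2 0 1 = A.x 2 0 1 * A.el p) :
    p = cone := by
  by_contra hp
  have hT : ∀ q, A.el q * A.x 0 2 1 = A.x 0 2 1 * A.el q := fun q => cent_x02.2 (A.el_mem q)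
  by_cases h2 : cmul p p = cone
  · exact cent_r A (t := A.el p) (fun h => hp (A.el_eq_one.1 h)) (by rw [A.el_mul, h2, A.el_one])
      (hT p) h
  · apply cent_r A (t := A.el (cmul p p)) (fun h => h2 (A.el_eq_one.1 h))
      (by rw [A.el_mul, code_four, A.el_one]) (hT _)
    rw [← A.el_mul, mul_assoc, h, ← mul_assoc, h, mul_assoc]

/-! ### Involutions of `L` -/

theorem exists_x02 (e : PSL3 ≃* L) {s : L} (hs : s * s = 1) (hs1 : s ≠ 1) :
    ∃ e' : PSL3 ≃* L, (D e').x 0 2 1 = s := by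
  obtain ⟨g, hg⟩ := (D e).invol_conj s hs1 hs
  refine ⟨e.trans ((MulAut.conj g)⁻¹ : MulAut L), ?_⟩
  show (MulAut.conj g)⁻¹ ((D e).x 0 2 1) = s
  rw [← hg, MulAut.conj_inv_apply]
  group

theorem cl (e : PSL3 ≃* L) (l : L) (h : MulAut.conj l = 1) : l = 1 := (D e).conj_eq_one h

theorem simp (e : PSL3 ≃* L) : IsSimpleGroup L := by
  have h : IsSimpleGroup PSL3 := S0249.result 3 le_rfl
  exact MulEquiv.isSimpleGroup e.symm

theorem inn (e : PSL3 ≃* L) (ψ : L →* MulAut L) (l : L) : ∃ l', ψ l = MulAut.conj l' := by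
  have hs := simp e
  set φ : L →* TyG := (D e).tyHom.comp ψ with hφ
  rcases hs.eq_bot_or_eq_top_of_normal φ.ker inferInstance with h | h
  · exfalso
    have h1 : Function.Injective φ := (MonoidHom.ker_eq_bot_iff φ).1 h
    have h2 := Nat.card_le_card_of_injective φ h1
    rw [(D e).card, TyG.card_tyG] at h2
    omega
  · rw [← (D e).inner_iff]
    have h1 : l ∈ φ.ker := by rw [h]; exact mem_top _
    exact MonoidHom.mem_ker.1 h1

theorem cmt (e : PSL3 ≃* L) (s : L) (hs : s * s = 1) (hs1 : s ≠ 1) :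
    ∃ a b : L, a * s = s * a ∧ b * s = s * b ∧ s = a * b * a⁻¹ * b⁻¹ := by
  obtain ⟨e', rfl⟩ := exists_x02 e hs hs1
  refine ⟨(D e').el ⟨1, 0, 0⟩, (D e').el ⟨0, 1, 0⟩, cent_x02.2 ((D e').el_mem _),
    cent_x02.2 ((D e').el_mem _), ?_⟩
  have h := (D e').el_comm ⟨1, 0, 0⟩ ⟨0, 1, 0⟩
  rw [commutatorElement_def] at h
  rw [h]
  rfl

theorem sols (e : PSL3 ≃* L) (s : L) (hs : s * s = 1) (hs1 : s ≠ 1) :
    Group.IsSolvable (centralizer ({MulAut.conj s} : Set (MulAut L))) := by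
  obtain ⟨e', rfl⟩ := exists_x02 e hs hs1
  have h1 : centralizer ({MulAut.conj ((D e').x 0 2 1)} : Set (MulAut L)) ≤ (D e').MT := by
    intro β hβ
    rw [mem_centralizer_singleton_iff] at hβ
    rw [mem_MT_iff]
    apply (D e').conj_injective
    rw [conj_map, hβ]
    group
  have h2 := isSolvable_MT (A := D e')
  exact Group.isSolvable_of_isSolvable_injective (Subgroup.inclusion_injective h1)

theorem eq_of_comm {G : Type*} [Group G] {a b c : G} (h : a * b = b * a * c) (h' : a * c = c * a)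
    (h'' : b * c = c * b) : b * a * b⁻¹ * a⁻¹ = c⁻¹ := by
  calc b * a * b⁻¹ * a⁻¹ = (a * b * c⁻¹) * b⁻¹ * a⁻¹ := by rw [h]; group
    _ = a * (b * c⁻¹) * b⁻¹ * a⁻¹ := by group
    _ = a * (c⁻¹ * b) * b⁻¹ * a⁻¹ := by
        rw [show b * c⁻¹ = c⁻¹ * b from (Commute.inv_right (show Commute b c from h'')).eq]
    _ = (a * c⁻¹) * a⁻¹ := by group
    _ = c⁻¹ := by
        rw [show a * c⁻¹ = c⁻¹ * a from (Commute.inv_right (show Commute a c from h')).eq]
        group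

theorem code_a {r : Code} (h : r.b = 0) (h' : r.c = 0) : r = ⟨r.a, 0, 0⟩ := by
  obtain ⟨a, b, c⟩ := r
  simp only at h h'
  rw [h, h']

theorem code_b {r : Code} (h : r.a = 0) (h' : r.c = 0) : r = ⟨0, r.b, 0⟩ := by
  obtain ⟨a, b, c⟩ := r
  simp only at h h'
  rw [h, h']

/-- the core of `p3` -/
theorem p3_core (A : Dat L) {c : F4} (hc0 : c ≠ 0) {j : L} (hjT : j ∈ A.T) (hj : j * j = 1)
    (hjZ : j ∉ A.Z) : ∃ n p : L, n * j = j * n ∧ p * A.x 0 2 c = A.x 0 2 c * p ∧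
      A.x 0 2 1 = p * (n * A.x 0 2 c * n⁻¹ * (A.x 0 2 c)⁻¹) * p⁻¹ *
        (n * A.x 0 2 c * n⁻¹ * (A.x 0 2 c)⁻¹)⁻¹ := by
  obtain ⟨⟨a, b, c'⟩, rfl⟩ := hjT
  have hsq := el_sq hj
  have hne : ¬ (⟨a, b, c'⟩ : Code) = cone := by
    intro h
    apply hjZ
    rw [h, A.el_one]; exact one_mem _
  obtain ⟨a', b', hr⟩ := inv_inner' a b c' (inv_inner a b c' hsq) hne
  set t := A.el ⟨a', b', 0⟩ with ht
  set r := cmul (cmul ⟨a', b', 0⟩ ⟨a, b, c'⟩) (cinv ⟨a', b', 0⟩) with hrd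
  have hjr : A.el ⟨a, b, c'⟩ = t⁻¹ * A.el r * t := by
    rw [hrd, ← A.el_mul, ← A.el_mul, ← A.el_inv, ← ht]; group
  have htc : t * A.x 0 2 c = A.x 0 2 c * t := (cent_x02_any hc0).2 (A.el_mem _)
  -- a root element `y` commuting with `el r`, with commutator in `T`
  have key : ∃ (y : L) (w : Code), y * A.el r = A.el r * y ∧
      y * A.x 0 2 c * y⁻¹ * (A.x 0 2 c)⁻¹ = A.el w ∧ (w.a ≠ 0 ∨ w.b ≠ 0) := by
    rcases hr with hr | hr | hr
    · exfalso
      apply hjZ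
      have h1 : A.el r ∈ A.Z := A.el_mem_Z.2 hr
      rw [hjr]
      have h2 : t⁻¹ * A.el r * t = A.el r := by
        have h3 : A.el r * t = t * A.el r := Z_comm h1 (A.el_mem ⟨a', b', 0⟩)
        rw [mul_assoc, h3]; group
      rw [h2]; exact h1
    · refine ⟨A.x 2 1 1, ⟨c, 0, 0⟩, ?_, ?_, Or.inl hc0⟩
      · have h1 : r = ⟨r.a, 0, 0⟩ := code_a hr.1 hr.2
        rw [h1, A.el_x01]
        exact A.x_col 2 1 0 (by decide) (by decide) 1 _
      · have h1 := A.x_sum 0 1 2 (by decide) (by decide) (by decide) c 1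
        rw [mul_one] at h1
        rw [eq_of_comm h1 (A.x_row 0 2 1 (by decide) (by decide) _ _)
          (A.x_col 2 1 0 (by decide) (by decide) _ _), A.x_inv 0 1 (by decide), A.el_x01]
    · refine ⟨A.x 1 0 1, ⟨0, c, 0⟩, ?_, ?_, Or.inr hc0⟩
      · have h1 : r = ⟨0, r.b, 0⟩ := code_b hr.1 hr.2
        rw [h1, A.el_x12]
        exact A.x_row 1 0 2 (by decide) (by decide) 1 _
      · have h1 := A.x_sum 1 2 0 (by decide) (by decide) (by decide) 1 c
        rw [one_mul] at h1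
        have h2 := A.x_row 1 0 2 (by decide) (by decide) 1 c
        have h3 := A.x_col 0 2 1 (by decide) (by decide) c c
        -- `y x y⁻¹ x⁻¹` from `y x = x y w`
        rw [h1]
        calc A.x 0 2 c * A.x 1 0 1 * A.x 1 2 c * (A.x 1 0 1)⁻¹ * (A.x 0 2 c)⁻¹
            = A.x 0 2 c * (A.x 1 0 1 * A.x 1 2 c) * (A.x 1 0 1)⁻¹ * (A.x 0 2 c)⁻¹ := by group
          _ = (A.x 0 2 c * A.x 1 2 c) * (A.x 0 2 c)⁻¹ := by rw [h2]; group
          _ = A.el ⟨0, c, 0⟩ := by rw [h3, A.el_x12]; group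
  obtain ⟨y, w, hy1, hy2, hw⟩ := key
  -- the element `p`
  have hp : ∃ q : Code, q.a * w.b + q.b * w.a = 1 := by
    have k : ∀ u v : F4, u ≠ 0 ∨ v ≠ 0 → ∃ a b : F4, a * v + b * u = 1 := by decide
    obtain ⟨a, b, h⟩ := k w.a w.b hw
    exact ⟨⟨a, b, 0⟩, h⟩
  obtain ⟨q, hq⟩ := hp
  have hqc : t⁻¹ * A.el q * t * A.x 0 2 c = A.x 0 2 c * (t⁻¹ * A.el q * t) :=
    (cent_x02_any hc0).2 (mul_mem (mul_mem (inv_mem (A.el_mem _)) (A.el_mem _)) (A.el_mem _))
  refine ⟨t⁻¹ * y * t, t⁻¹ * A.el q * t, ?_, hqc, ?_⟩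
  · rw [hjr]
    calc t⁻¹ * y * t * (t⁻¹ * A.el r * t) = t⁻¹ * (y * A.el r) * t := by group
      _ = t⁻¹ * A.el r * t * (t⁻¹ * y * t) := by rw [hy1]; group
  · have h1 : t⁻¹ * y * t * A.x 0 2 c * (t⁻¹ * y * t)⁻¹ * (A.x 0 2 c)⁻¹ = t⁻¹ * A.el w * t := by
      have h2 : t * A.x 0 2 c * t⁻¹ = A.x 0 2 c := by rw [htc]; group
      calc t⁻¹ * y * t * A.x 0 2 c * (t⁻¹ * y * t)⁻¹ * (A.x 0 2 c)⁻¹
          = t⁻¹ * (y * (t * A.x 0 2 c * t⁻¹) * y⁻¹ * (t * A.x 0 2 c * t⁻¹)⁻¹) * t := by group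
        _ = t⁻¹ * A.el w * t := by rw [h2, hy2]
    rw [h1]
    have h3 := A.el_comm q w
    rw [hq, commutatorElement_def] at h3
    have h4 : t⁻¹ * A.x 0 2 1 * t = A.x 0 2 1 := by
      have h5 : A.x 0 2 1 * t = t * A.x 0 2 1 := (cent_x02.2 (A.el_mem _)).symm
      rw [mul_assoc, h5]; group
    calc A.x 0 2 1 = t⁻¹ * (A.el q * A.el w * (A.el q)⁻¹ * (A.el w)⁻¹) * t := by rw [h3, h4]
      _ = _ := by group

theorem p3 (e : PSL3 ≃* L) (s i j : L) (hs : s * s = 1) (hs1 : s ≠ 1) (hi : i * i = 1)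
    (hi1 : i ≠ 1) (hj : j * j = 1) (hj1 : j ≠ 1) (hC : ∀ p, p * s = s * p → p * i = i * p)
    (his : i ≠ s) (hjs : j * s = s * j) (hji : j * i = i * j) (h1 : j ≠ i) (h2 : j ≠ s)
    (h3 : j ≠ i * s) : ∃ n p : L, n * j = j * n ∧ p * i = i * p ∧
      s = p * (n * i * n⁻¹ * i⁻¹) * p⁻¹ * (n * i * n⁻¹ * i⁻¹)⁻¹ := by
  obtain ⟨e', rfl⟩ := exists_x02 e hs hs1
  set A := D e' with hA
  obtain ⟨⟨a, b, c⟩, rfl⟩ := cent_x02.1 (hC _ rfl).symm
  have k1 := hC (A.el ⟨1, 0, 0⟩) (cent_x02.2 (A.el_mem _))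
  have k2 := hC (A.el ⟨0, 1, 0⟩) (cent_x02.2 (A.el_mem _))
  rw [A.el_mul, A.el_mul] at k1 k2
  obtain ⟨h4, h5⟩ := comm_aux a b c (A.inj k1).symm (A.inj k2).symm
  subst h4 h5
  rw [A.el_x02] at *
  have hc0 : c ≠ 0 := by
    rintro rfl
    exact hi1 (A.x_zero 0 2 (by decide))
  have hc1 : c ≠ 1 := by
    rintro rfl
    exact his rfl
  apply p3_core A hc0 (cent_x02.1 hjs) hj
  rintro ⟨d, rfl⟩
  have hd : ∀ c d : F4, c ≠ 0 → c ≠ 1 → d = 0 ∨ d = c ∨ d = 1 ∨ d = c + 1 := by decide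
  rcases hd c d hc0 hc1 with rfl | rfl | rfl | rfl
  · exact hj1 (A.x_zero 0 2 (by decide))
  · exact h1 rfl
  · exact h2 rfl
  · exact h3 (A.x_add 0 2 (by decide) _ _).symm

theorem p4 (e : PSL3 ≃* L) (s : L) (hs : s * s = 1) (hs1 : s ≠ 1) (p q r : L) (hp : p * s = s * p)
    (hq : q * s = s * q) (hr : r * s = s * r) :
    (p * q * p⁻¹ * q⁻¹) * r = r * (p * q * p⁻¹ * q⁻¹) := by
  obtain ⟨e', rfl⟩ := exists_x02 e hs hs1
  exact Z_comm (comm_mem_Z (cent_x02.1 hp) (cent_x02.1 hq)) (cent_x02.1 hr)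

theorem p4' (e : PSL3 ≃* L) (s : L) (hs : s * s = 1) (hs1 : s ≠ 1) (p : L) (hp : p * s = s * p)
    (h : ∀ r, r * s = s * r → r * p = p * r) : p * p = 1 := by
  obtain ⟨e', rfl⟩ := exists_x02 e hs hs1
  obtain ⟨⟨a, b, c⟩, rfl⟩ := cent_x02.1 hp
  have h1 := h ((D e').el ⟨1, 0, 0⟩) (cent_x02.2 ((D e').el_mem _))
  have h2 := h ((D e').el ⟨0, 1, 0⟩) (cent_x02.2 ((D e').el_mem _))
  rw [(D e').el_mul, (D e').el_mul] at h1 h2
  obtain ⟨h3, h4⟩ := comm_aux a b c ((D e').inj h1).symm ((D e').inj h2).symm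
  subst h3 h4
  rw [(D e').el_x02, (D e').x_sq 0 2 (by decide)]

/-! ### The polarity -/

theorem pure1 (e : PSL3 ≃* L) {α : MulAut L} (h2 : α * α = 1) {b1 b2 : Bool}
    (hb : bits ((D e).tyHom α) = (b1, b2)) (hne : (b1, b2) ≠ (false, false)) :
    ∃ e' : PSL3 ≃* L, (D e').IsTau (b1, b2, 0) α := by
  have hQ : IsPGroup 2 (closure ({α} : Set (MulAut L))) := by
    apply two_closure
    · rintro a rfl; exact h2
    · rintro a rfl b rfl; rfl
  obtain ⟨e', h, _⟩ := pl e _ hQ (subset_closure rfl) h2 hb hne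
  exact ⟨e', h⟩

/-- Boolean characters -/
def z2u : Multiplicative (ZMod 2) →* ℤˣ where
  toFun a := if a = 1 then 1 else -1
  map_one' := by decide
  map_mul' := by decide

/-- the field character -/
noncomputable def chF (e : PSL3 ≃* L) : MulAut L →* ℤˣ :=
  z2u.comp ((MonoidHom.fst _ _).comp (bitsHom.comp (D e).tyHom))

/-- the graph character -/
noncomputable def chG (e : PSL3 ≃* L) : MulAut L →* ℤˣ :=
  z2u.comp ((MonoidHom.snd _ _).comp (bitsHom.comp (D e).tyHom))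

theorem z2u_fst : ∀ g : TyG, z2u (bitsHom g).1 = if (bits g).1 then -1 else 1 := by decide +kernel

theorem z2u_snd : ∀ g : TyG, z2u (bitsHom g).2 = if (bits g).2 then -1 else 1 := by decide +kernel

theorem chF_eq (e : PSL3 ≃* L) (α : MulAut L) :
    chF e α = if (bits ((D e).tyHom α)).1 then -1 else 1 := z2u_fst _

theorem chG_eq (e : PSL3 ≃* L) (α : MulAut L) :
    chG e α = if (bits ((D e).tyHom α)).2 then -1 else 1 := z2u_snd _

section

variable (e : PSL3 ≃* L) {x : MulAut L} (hx : x * x = 1)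
  (hb : bits ((D e).tyHom x) = (true, true))

include hb in
theorem chi0 : ∃ χ : MulAut L →* ℤˣ, χ x = -1 := ⟨chF e, by rw [chF_eq, hb]; rfl⟩

include hx hb in
theorem chi1 : ∃ χ : MulAut L →* ℤˣ, χ x = 1 ∧ ∀ a, Wild x a → χ a = -1 := by
  refine ⟨chF e * chG e, ?_, ?_⟩
  · rw [MonoidHom.mul_apply, chF_eq, chG_eq, hb]; rfl
  · intro a ha
    rw [MonoidHom.mul_apply, chF_eq, chG_eq]
    rcases wild_bits e hx hb ha with h | h
    · rw [h]; rfl
    · rw [h]; rfl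

include hx hb in
theorem xconj (l : L) (h : (x * MulAut.conj l) * (x * MulAut.conj l) = 1) :
    ∃ m, MulAut.conj m * (x * MulAut.conj l) * (MulAut.conj m)⁻¹ = x := by
  obtain ⟨e', he⟩ := pure1 e hx hb (by decide)
  have h1 : (D e').HasTy (x * MulAut.conj l) (true, true, 0) := by
    have h2 := he.hasTy.mul ((D e').hasTy_conj l)
    rwa [Ty.mul_one] at h2
  have hQ : IsPGroup 2 (closure ({x * MulAut.conj l} : Set (MulAut L))) := by
    apply two_closure
    · rintro a rfl; exact h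
    · rintro a rfl b rfl; rfl
  obtain ⟨m, hm, _⟩ := exists_conj_pure (A := D e') _ hQ (subset_closure rfl) h (by decide) h1
  exact ⟨m, hm.ext he⟩

include hx hb in
theorem comm (s s' : L) (hs : s * s = 1) (hs' : s' * s' = 1) (hs1 : s ≠ 1) (hs1' : s' ≠ 1)
    (hxs : x s = s) (hxs' : x s' = s') (hc : s * s' = s' * s) : s = s' := by
  obtain ⟨e', h1, rfl⟩ := plx' e hx hb hs hs1 hxs
  obtain ⟨p, rfl⟩ := cent_x02.1 hc.symm
  have k1 : ctau (true, true, 0) p = p := (D e').inj (by rw [← h1.el, hxs'])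
  rcases fx_tt p k1 (el_sq hs') with h3 | h3
  · exfalso
    apply hs1'
    rw [h3]; exact (D e').el_one
  · rw [h3, (D e').el_x02]

include hx hb in
theorem p5 (s i : L) (hs : s * s = 1) (hs1 : s ≠ 1) (hxs : x s = s) (hi : i * i = 1)
    (his : i * s = s * i) (hp : ∃ p, p * s = s * p ∧ p * i ≠ i * p) : i * x i ≠ x i * i := by
  obtain ⟨e', h1, rfl⟩ := plx' e hx hb hs hs1 hxs
  obtain ⟨q, rfl⟩ := cent_x02.1 his
  have h2 := el_sq hi
  rw [h1.el]
  intro h3
  rw [(D e').el_mul, (D e').el_mul] at h3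
  have k : ∀ q : Code, cmul q q = cone → cmul q (ctau (true, true, 0) q) =
      cmul (ctau (true, true, 0) q) q → q.a = 0 ∧ q.b = 0 := by decide +kernel
  have h4 := k q h2 ((D e').inj h3)
  have h5 : (D e').el q ∈ (D e').Z := (D e').el_mem_Z.2 h4
  obtain ⟨p, hp1, hp2⟩ := hp
  exact hp2 (Z_comm h5 (cent_x02.1 hp1)).symm

theorem fix_symm {M : Type*} [Group M] (f : L ≃* M) (β : MulAut L) {m : M} :
    tr f β m = m ↔ β (f.symm m) = f.symm m := by
  rw [tr_apply, ← f.eq_symm_apply]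

/-- fixed points of a transported automorphism -/
noncomputable def fxEquiv {M : Type*} [Group M] (f : L ≃* M) (β : MulAut L) :
    fx (tr f β) ≃* fx β where
  toFun y := ⟨f.symm y.1, (fix_symm f β).1 y.2⟩
  invFun y := ⟨f y.1, by rw [mem_fx, tr_e]; exact congrArg f y.2⟩
  left_inv y := Subtype.ext (f.apply_symm_apply _)
  right_inv y := Subtype.ext (f.symm_apply_apply _)
  map_mul' y z := Subtype.ext (map_mul f.symm _ _)

include hx hb in
theorem three (y z : L) (hy : y ^ 3 = 1) (hxy : x y = y) (hz : z ^ 3 = 1) (hxz : x z = z) :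
    (y * z) ^ 3 = 1 := by
  obtain ⟨e', he⟩ := pure1 e hx hb (by decide)
  have h1 := eq_tr e' isTau_x0 he
  rw [h1, fix_symm] at hxy hxz
  have h2 := three0 (y := e'.symm y) (z := e'.symm z) (by rw [← map_pow, hy, map_one]) hxy
    (by rw [← map_pow, hz, map_one]) hxz
  rw [← map_mul, ← map_pow] at h2
  apply e'.symm.injective
  rw [h2, map_one]

include hx hb in
theorem irr (y z : L) (hy : y ^ 3 = 1) (hy1 : y ≠ 1) (hxy : x y = y) (hz : z ^ 3 = 1)
    (hxz : x z = z) : z ∈ closure {w | ∃ r, x r = r ∧ w = r * y * r⁻¹} := by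
  obtain ⟨e', he⟩ := pure1 e hx hb (by decide)
  have h1 := eq_tr e' isTau_x0 he
  rw [h1, fix_symm] at hxy hxz
  have h2 := irr0 (y := e'.symm y) (z := e'.symm z) (by rw [← map_pow, hy, map_one])
    (fun h => hy1 (e'.symm.injective (by rw [h, map_one]))) hxy
    (by rw [← map_pow, hz, map_one]) hxz
  rcases h2 with h2 | ⟨r, hr, hzr⟩
  · have h3 : z = 1 := e'.symm.injective (by rw [h2, map_one])
    rw [h3]; exact one_mem _
  · apply Subgroup.subset_closure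
    refine ⟨e' r, ?_, ?_⟩
    · rw [h1, tr_e, hr]
    · apply e'.symm.injective
      rw [hzr, map_mul, map_mul, map_inv, e'.symm_apply_apply]

include hx hb in
theorem solfx : Group.IsSolvable (fx x) := by
  obtain ⟨e', he⟩ := pure1 e hx hb (by decide)
  rw [eq_tr e' isTau_x0 he]
  have := solv0
  exact Group.isSolvable_of_isSolvable_injective (f := (fxEquiv e' x0).toMonoidHom)
    (fxEquiv e' x0).injective

include hx hb in
theorem solx : Group.IsSolvable (centralizer ({x} : Set (MulAut L))) := by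
  have h1 := solfx e hx hb
  have h2 := TyG.isSolvable
  have hm : ∀ l : fx x, MulAut.conj (l : L) ∈ centralizer ({x} : Set (MulAut L)) := by
    intro l
    rw [mem_centralizer_singleton_iff]
    exact (conj_comm l.2).symm
  let f : fx x →* centralizer ({x} : Set (MulAut L)) :=
    ((MulAut.conj : L →* MulAut L).comp (fx x).subtype).codRestrict _ hm
  let g : centralizer ({x} : Set (MulAut L)) →* TyG := (D e).tyHom.comp (Subgroup.subtype _)
  refine Group.isSolvable_of_ker_le_range f g ?_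
  rintro ⟨β, hβ⟩ hk
  obtain ⟨l, rfl⟩ := (D e).inner_iff.1 (MonoidHom.mem_ker.1 hk)
  have h3 : x l = l := by
    apply (D e).conj_injective
    rw [conj_map, ← mem_centralizer_singleton_iff.1 hβ]
    group
  exact ⟨⟨l, h3⟩, Subtype.ext rfl⟩

/-! ### Wild automorphisms -/

include hx hb in
theorem wpure {a : MulAut L} (ha : Wild x a) :
    ∃ e' : PSL3 ≃* L, (D e').IsTau (true, false, 0) a ∨ (D e').IsTau (false, true, 0) a := by
  rcases wild_bits e hx hb ha with h | h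
  · obtain ⟨e', h1⟩ := pure1 e ha.sq h (by decide)
    exact ⟨e', Or.inl h1⟩
  · obtain ⟨e', h1⟩ := pure1 e ha.sq h (by decide)
    exact ⟨e', Or.inr h1⟩

include hx hb in
theorem wsimp (a : MulAut L) (ha : Wild x a) : IsSimpleGroup (fx a) := by
  obtain ⟨e', h | h⟩ := wpure e hx hb ha
  · rw [eq_tr e' isTau_f0 h]
    have := simple_f0
    exact MulEquiv.isSimpleGroup (fxEquiv e' f0)
  · rw [eq_tr e' isTau_g0 h]
    have := simple_g0
    exact MulEquiv.isSimpleGroup (fxEquiv e' g0)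

theorem fx_x02 {A : Dat L} {τ : Ty} {a : MulAut L} (h : A.IsTau τ a) : A.x 0 2 1 ∈ fx a :=
  x02_one A h

theorem fx_x20 {A : Dat L} {τ : Ty} {a : MulAut L} (h : A.IsTau τ a) : A.x 2 0 1 ∈ fx a :=
  x20_one A h

theorem x02_ne (A : Dat L) : A.x 0 2 1 ≠ 1 := by
  rw [← A.el_x02, Ne, A.el_eq_one]
  decide

theorem x02_x20 (A : Dat L) : A.x 0 2 1 * A.x 2 0 1 ≠ A.x 2 0 1 * A.x 0 2 1 := by
  intro h
  rw [← A.el_x02] at h
  exact absurd (comm_x20 A h) (by decide)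

include hx hb in
theorem wperf (a : MulAut L) (ha : Wild x a) : commutator (fx a) = ⊤ := by
  have hs := wsimp e hx hb a ha
  obtain ⟨e', h⟩ := wpure e hx hb ha
  have h02 : (D e').x 0 2 1 ∈ fx a := h.elim fx_x02 fx_x02
  have h20 : (D e').x 2 0 1 ∈ fx a := h.elim fx_x20 fx_x20
  rcases hs.eq_bot_or_eq_top_of_normal (commutator (fx a)) inferInstance with h1 | h1
  · exfalso
    have h2 : ⁅(⟨_, h02⟩ : fx a), (⟨_, h20⟩ : fx a)⁆ ∈ commutator (fx a) := by
      rw [commutator_def]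
      exact commutator_mem_commutator (mem_top _) (mem_top _)
    rw [h1, mem_bot, commutatorElement_eq_one_iff_mul_comm] at h2
    exact x02_x20 (D e') (congrArg Subtype.val h2)
  · exact h1

include hx hb in
theorem weven (a : MulAut L) (ha : Wild x a) : 2 ∣ Nat.card (fx a) := by
  obtain ⟨e', h⟩ := wpure e hx hb ha
  have h02 : (D e').x 0 2 1 ∈ fx a := h.elim fx_x02 fx_x02
  have h1 : orderOf (⟨_, h02⟩ : fx a) = 2 := by
    apply orderOf_eq_prime
    · apply Subtype.ext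
      show (D e').x 0 2 1 ^ 2 = 1
      rw [pow_two, (D e').x_sq 0 2 (by decide)]
    · intro h1
      exact x02_ne (D e') (congrArg Subtype.val h1)
  rw [← h1]
  exact orderOf_dvd_natCard _

include hx hb in
theorem wgen (a : MulAut L) (ha : Wild x a) (i : L) (hi : i * i = 1) (hi1 : i ≠ 1) (hai : a i = i) :
    fx a ⊔ centralizer ({i} : Set L) = ⊤ := by
  obtain ⟨e', h, c, hc, rfl⟩ := pla e ha.sq (wild_bits e hx hb ha) hi hi1 hai
  have h20 : (D e').x 2 0 1 ∈ fx a := h.elim fx_x20 fx_x20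
  apply gen_T (D e')
  · intro l hl
    apply (le_sup_right : _ ≤ fx a ⊔ centralizer ({(D e').x 0 2 c} : Set L))
    rw [mem_centralizer_singleton_iff]
    exact (cent_x02_any hc).2 hl
  · exact (le_sup_left : fx a ≤ _) h20

theorem ty_field : ∀ τ : Ty, ctau τ ⟨1, 0, 0⟩ = ⟨1, 0, 0⟩ → τ = ty1 ∨ τ = (true, false, 0) := by
  decide +kernel

theorem ty_graph : ∀ τ : Ty, ctau τ ⟨0, 0, F4.w⟩ = ⟨0, 0, F4.w⟩ →
    τ.mul (false, true, 0) = Ty.mul (false, true, 0) τ → τ = ty1 ∨ τ = (false, true, 0) := by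
  decide +kernel

theorem pure_of_fix {A : Dat L} {b : MulAut L} (h1 : b (A.x 0 2 1) = A.x 0 2 1)
    (h2 : b (A.x 2 0 1) = A.x 2 0 1) : ∃ τ, A.IsTau τ b := by
  obtain ⟨p, τ, hp⟩ := A.exists_cd h1
  refine ⟨τ, ?_⟩
  have h3 := x20_one A hp
  rw [MulAut.mul_apply, h2, MulAut.conj_apply, mul_inv_eq_iff_eq_mul] at h3
  rw [comm_x20 A h3] at hp
  exact hp.cone

include hx hb in
theorem wcent (a : MulAut L) (ha : Wild x a) (b : MulAut L) (hab : b * a = a * b)
    (h : ∀ l, a l = l → b l = l) : b = 1 ∨ b = a := by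
  obtain ⟨e', h'⟩ := wpure e hx hb ha
  have h02 : (D e').x 0 2 1 ∈ fx a := h'.elim fx_x02 fx_x02
  have h20 : (D e').x 2 0 1 ∈ fx a := h'.elim fx_x20 fx_x20
  obtain ⟨τ, hτ⟩ := pure_of_fix (h _ h02) (h _ h20)
  rcases h' with h' | h'
  · have h1 : a ((D e').el ⟨1, 0, 0⟩) = (D e').el ⟨1, 0, 0⟩ := by
      rw [h'.el]; rfl
    have h2 := h _ h1
    rw [hτ.el] at h2
    rcases ty_field τ ((D e').inj h2) with h3 | h3
    · left; rw [h3] at hτ; exact hτ.ext isTau_one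
    · right; rw [h3] at hτ; exact hτ.ext h'
  · have h1 : a ((D e').el ⟨0, 0, F4.w⟩) = (D e').el ⟨0, 0, F4.w⟩ := by
      rw [h'.el]; rfl
    have h2 := h _ h1
    rw [hτ.el] at h2
    have h4 := hτ.mul h'
    rw [hab] at h4
    have h5 := h4.hasTy.unique (h'.mul hτ).hasTy
    rcases ty_graph τ ((D e').inj h2) h5 with h3 | h3
    · left; rw [h3] at hτ; exact hτ.ext isTau_one
    · right; rw [h3] at hτ; exact hτ.ext h'

theorem fx_one {A : Dat L} {a : MulAut L} (h : A.IsTau (true, false, 0) a) {i j : Fin 3}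
    (hij : i ≠ j) : A.x i j 1 ∈ fx a := by
  show a (A.x i j 1) = A.x i j 1
  rw [h i j hij]
  have : ∀ k l, pu (true, false, 0) k l 1 = 1 := by decide
  show A.x i j (pu (true, false, 0) i j 1) = _
  rw [this]

theorem fx_u {A : Dat L} {a : MulAut L} (h : A.IsTau (false, true, 0) a) (u : F4) :
    A.x 0 2 u ∈ fx a := by
  show a (A.x 0 2 u) = A.x 0 2 u
  rw [h.x02]; rfl

include hb in
theorem pair_x {a b : MulAut L} (ha : Wild x a) (hb' : Wild x b) (hab : a * b = b * a)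
    (h : ∃ l, a * b = x * MulAut.conj l) :
    (a * b) * (a * b) = 1 ∧ bits ((D e).tyHom (a * b)) = (true, true) := by
  constructor
  · calc (a * b) * (a * b) = a * (b * a) * b := by group
      _ = (a * a) * (b * b) := by rw [← hab]; group
      _ = 1 := by rw [ha.sq, hb'.sq, one_mul]
  · obtain ⟨l, hl⟩ := h
    rw [hl, map_mul, (D e).tyHom_conj, mul_one, hb]

include hx hb in
theorem wpair (a b : MulAut L) (ha : Wild x a) (hb' : Wild x b) (hab : a * b = b * a)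
    (h : ∃ l, a * b = x * MulAut.conj l) : fx a ⊔ fx b = ⊤ := by
  obtain ⟨h1, h2⟩ := pair_x e hb ha hb' hab h
  obtain ⟨e', h3, h4⟩ := pl2' e h1 h2 ha.sq (wild_bits e hx hb ha) (by
    rw [hab, ← mul_assoc, hab])
  have hbe : a * (a * b) = b := by rw [← mul_assoc, ha.sq, one_mul]
  rcases h4 with h4 | h4
  · have h5 := h4.mul h3
    rw [hbe] at h5
    have h6 : (D e').IsTau (false, true, 0) b := h5
    exact gen_pair (D e') (fun i j hij => (le_sup_left : fx a ≤ _) (fx_one h4 hij))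
      (fun u => (le_sup_right : fx b ≤ fx a ⊔ fx b) (fx_u h6 u))
  · have h5 := h4.mul h3
    rw [hbe] at h5
    have h6 : (D e').IsTau (true, false, 0) b := h5
    exact gen_pair (D e') (fun i j hij => (le_sup_right : fx b ≤ fx a ⊔ fx b) (fx_one h6 hij))
      (fun u => (le_sup_left : fx a ≤ _) (fx_u h4 u))

include hx hb in
theorem wthree (a : MulAut L) (ha : Wild x a) (hax : a * x = x * a) :
    ∃ y : L, y ^ 3 = 1 ∧ y ≠ 1 ∧ a y = y ∧ x y = y := by
  obtain ⟨e', h3, h4⟩ := pl2' e hx hb ha.sq (wild_bits e hx hb ha) hax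
  refine ⟨(D e').x 0 2 1 * (D e').x 2 0 1, (D e').r_pow, (D e').r_ne, ?_, ?_⟩
  · rw [map_mul]
    rcases h4 with h4 | h4
    · rw [x02_one _ h4, x20_one _ h4]
    · rw [x02_one _ h4, x20_one _ h4]
  · rw [map_mul, x02_one _ h3, x20_one _ h3]

end

end Cfsg.Agent.UGT.FL34
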