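import Cfsg.Agent.UGT.FL34.Std

/-!
# The matrices of `SU(3,2)`: finite computation
-/

set_option autoImplicit false
set_option linter.constructorNameAsVariable false
set_option linter.unusedVariables false

namespace Cfsg.Agent.UGT.FL34

open Matrix
open Cfsg.Agent.SporadicA.FieldFour
open Cfsg.Agent.SporadicA.FieldFour.F4

/-- 3×3 matrices over `F4`, rows `(a b c), (d e f), (g h i)` -/
structure M3 where
  a : F4
  b : F4
  c : F4
  d : F4
  e : F4
  f : F4
  g : F4
  h : F4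
  i : F4
  deriving DecidableEq

/-- quantification over `F4` -/
def allF (p : F4 → Bool) : Bool := p .z && (p .o && (p .w && p .v))

theorem allF_iff {p : F4 → Bool} (h : allF p = true) (x : F4) : p x = true := by
  unfold allF at h
  rw [Bool.and_eq_true, Bool.and_eq_true, Bool.and_eq_true] at h
  cases x
  · exact h.1
  · exact h.2.1
  · exact h.2.2.1
  · exact h.2.2.2

/-- Boolean equality of field elements -/
def eqb (a b : F4) : Bool := match add a b with
  | .z => true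
  | _ => false

theorem eqb_iff : ∀ a b : F4, eqb a b = true ↔ a = b := by decide

def dot3 (a b c d e f : F4) : F4 := add (add (mul a d) (mul b e)) (mul c f)

theorem dot3_eq (a b c d e f : F4) : dot3 a b c d e f = a * d + b * e + c * f := rfl

def sqr : F4 → F4
  | .z => .z
  | .o => .o
  | .w => .v
  | .v => .w

theorem sqr_eq : ∀ a : F4, sqr a = a * a := by decide

/-- Hermitian product of rows -/
def hm3 (a b c d e f : F4) : F4 := dot3 a b c (sqr f) (sqr e) (sqr d)

theorem hm3_eq (a b c d e f : F4) : hm3 a b c d e f = a * (f * f) + b * (e * e) + c * (d * d) := by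
  unfold hm3
  rw [dot3_eq, sqr_eq, sqr_eq, sqr_eq]

namespace M3

def mul (x y : M3) : M3 :=
  ⟨dot3 x.a x.b x.c y.a y.d y.g, dot3 x.a x.b x.c y.b y.e y.h, dot3 x.a x.b x.c y.c y.f y.i,
   dot3 x.d x.e x.f y.a y.d y.g, dot3 x.d x.e x.f y.b y.e y.h, dot3 x.d x.e x.f y.c y.f y.i,
   dot3 x.g x.h x.i y.a y.d y.g, dot3 x.g x.h x.i y.b y.e y.h, dot3 x.g x.h x.i y.c y.f y.i⟩

def det (x : M3) : F4 :=
  dot3 x.a x.b x.c (add (F4.mul x.e x.i) (F4.mul x.f x.h)) (add (F4.mul x.d x.i) (F4.mul x.f x.g))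
    (add (F4.mul x.d x.h) (F4.mul x.e x.g))

/-- scalar matrices -/
def isSc (x : M3) : Bool :=
  eqb x.b .z && (eqb x.c .z && (eqb x.d .z && (eqb x.f .z && (eqb x.g .z && (eqb x.h .z &&
    (eqb x.a x.e && eqb x.e x.i))))))

def smul (r : F4) (x : M3) : M3 :=
  ⟨F4.mul r x.a, F4.mul r x.b, F4.mul r x.c, F4.mul r x.d, F4.mul r x.e, F4.mul r x.f,
   F4.mul r x.g, F4.mul r x.h, F4.mul r x.i⟩

/-- the Hermitian conditions and determinant one -/
def unit (x : M3) : Bool :=
  eqb (hm3 x.a x.b x.c x.a x.b x.c) .z && (eqb (hm3 x.g x.h x.i x.g x.h x.i) .z &&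
  (eqb (hm3 x.a x.b x.c x.g x.h x.i) .o && (eqb (hm3 x.a x.b x.c x.d x.e x.f) .z &&
  (eqb (hm3 x.g x.h x.i x.d x.e x.f) .z && (eqb (hm3 x.d x.e x.f x.d x.e x.f) .o &&
  eqb (det x) .o)))))

def cube (x : M3) : M3 := mul (mul x x) x

/-- the matrix -/
def toM (x : M3) : Matrix (Fin 3) (Fin 3) F4 := !![x.a, x.b, x.c; x.d, x.e, x.f; x.g, x.h, x.i]

/-- the code of a matrix -/
def ofM (A : Matrix (Fin 3) (Fin 3) F4) : M3 :=
  ⟨A 0 0, A 0 1, A 0 2, A 1 0, A 1 1, A 1 2, A 2 0, A 2 1, A 2 2⟩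

theorem toM_ofM (A : Matrix (Fin 3) (Fin 3) F4) : (ofM A).toM = A := by
  ext i j
  fin_cases i <;> fin_cases j <;> rfl

theorem ofM_toM (x : M3) : ofM x.toM = x := rfl

theorem toM_mul (x y : M3) : (mul x y).toM = x.toM * y.toM := by
  ext i j
  rw [Matrix.mul_apply, Fin.sum_univ_three]
  fin_cases i <;> fin_cases j <;> rfl

theorem toM_smul (r : F4) (x : M3) : (smul r x).toM = r • x.toM := by
  ext i j
  fin_cases i <;> fin_cases j <;> rfl

theorem det_toM (x : M3) : x.toM.det = x.det := by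
  have hn : ∀ u : F4, -u = u := by decide
  have e : x.det = x.a * (x.e * x.i + x.f * x.h) + x.b * (x.d * x.i + x.f * x.g) +
    x.c * (x.d * x.h + x.e * x.g) := rfl
  rw [Matrix.det_fin_three, e]
  change x.a * x.e * x.i - x.a * x.f * x.h - x.b * x.d * x.i + x.b * x.f * x.g + x.c * x.d * x.h -
    x.c * x.e * x.g = _
  rw [sub_eq_add_neg, sub_eq_add_neg, sub_eq_add_neg, hn, hn, hn]
  ring

end M3

/-- the 27 elements of `SU(3,2)` whose cube is scalar -/
def Y27 : List M3 :=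
  [⟨.z, .z, .o, .z, .o, .z, .o, .z, .o⟩,
   ⟨.z, .z, .w, .z, .w, .z, .w, .z, .w⟩,
   ⟨.z, .z, .v, .z, .v, .z, .v, .z, .v⟩,
   ⟨.o, .z, .z, .z, .o, .z, .z, .z, .o⟩,
   ⟨.o, .z, .o, .z, .o, .z, .o, .z, .z⟩,
   ⟨.o, .o, .w, .o, .z, .v, .v, .w, .o⟩,
   ⟨.o, .o, .v, .o, .z, .w, .w, .v, .o⟩,
   ⟨.o, .w, .w, .v, .z, .w, .v, .v, .o⟩,
   ⟨.o, .w, .v, .v, .z, .o, .w, .o, .o⟩,
   ⟨.o, .v, .w, .w, .z, .o, .v, .o, .o⟩,
   ⟨.o, .v, .v, .w, .z, .v, .w, .w, .o⟩,
   ⟨.w, .z, .z, .z, .w, .z, .z, .z, .w⟩,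
   ⟨.w, .z, .w, .z, .w, .z, .w, .z, .z⟩,
   ⟨.w, .o, .o, .v, .z, .o, .v, .v, .w⟩,
   ⟨.w, .o, .v, .v, .z, .w, .o, .w, .w⟩,
   ⟨.w, .w, .o, .w, .z, .v, .v, .o, .w⟩,
   ⟨.w, .w, .v, .w, .z, .o, .o, .v, .w⟩,
   ⟨.w, .v, .o, .o, .z, .w, .v, .w, .w⟩,
   ⟨.w, .v, .v, .o, .z, .v, .o, .o, .w⟩,
   ⟨.v, .z, .z, .z, .v, .z, .z, .z, .v⟩,
   ⟨.v, .z, .v, .z, .v, .z, .v, .z, .z⟩,
   ⟨.v, .o, .o, .w, .z, .o, .w, .w, .v⟩,
   ⟨.v, .o, .w, .w, .z, .v, .o, .v, .v⟩,
   ⟨.v, .w, .o, .o, .z, .v, .w, .v, .v⟩,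
   ⟨.v, .w, .w, .o, .z, .w, .o, .o, .v⟩,
   ⟨.v, .v, .o, .v, .z, .w, .w, .o, .v⟩,
   ⟨.v, .v, .w, .v, .z, .o, .o, .w, .v⟩]

/-- Boolean membership -/
def memb (x : M3) : List M3 → Bool
  | [] => false
  | y :: l => (eqb x.a y.a && (eqb x.b y.b && (eqb x.c y.c && (eqb x.d y.d && (eqb x.e y.e &&
      (eqb x.f y.f && (eqb x.g y.g && (eqb x.h y.h && eqb x.i y.i)))))))) || memb x l

theorem mem_of_memb {x : M3} : ∀ {l : List M3}, memb x l = true → x ∈ l := by
  intro l
  induction l with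
  | nil => intro h; exact absurd h (by simp [memb])
  | cons y l ih =>
    intro h
    unfold memb at h
    rw [Bool.or_eq_true] at h
    rcases h with h | h
    · simp only [Bool.and_eq_true, eqb_iff] at h
      obtain ⟨h1, h2, h3, h4, h5, h6, h7, h8, h9⟩ := h
      have : x = y := by
        cases x; cases y
        simp only at h1 h2 h3 h4 h5 h6 h7 h8 h9
        subst h1 h2 h3 h4 h5 h6 h7 h8 h9
        rfl
      rw [this]; exact List.mem_cons_self
    · exact List.mem_cons_of_mem _ (ih h)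

/-- the check of one matrix -/
def chk (x : M3) : Bool :=
  let y := M3.mul x x
  let u := M3.mul y y
  M3.isSc (M3.cube u) && (!(M3.isSc (M3.cube x)) || memb x Y27)

/-- the enumeration -/
def chkAll : Bool :=
  allF fun a => allF fun b => allF fun c => !(eqb (hm3 a b c a b c) .z) ||
  allF fun g => allF fun h => allF fun i => !(eqb (hm3 g h i g h i) .z) ||
  (!(eqb (hm3 a b c g h i) .o) ||
  allF fun d => allF fun e => allF fun f => !(eqb (hm3 a b c d e f) .z) ||
  (!(eqb (hm3 g h i d e f) .z) || (!(eqb (hm3 d e f d e f) .o) ||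
  (!(eqb (M3.det ⟨a, b, c, d, e, f, g, h, i⟩) .o) || chk ⟨a, b, c, d, e, f, g, h, i⟩))))

set_option maxRecDepth 100000 in
theorem chkAll_eq : chkAll = true := by decide +kernel

theorem chk_of_unit (x : M3) (hx : x.unit = true) : chk x = true := by
  obtain ⟨a, b, c, d, e, f, g, h, i⟩ := x
  unfold M3.unit at hx
  simp only [Bool.and_eq_true] at hx
  obtain ⟨h1, h2, h3, h4, h5, h6, h7⟩ := hx
  have H := chkAll_eq
  unfold chkAll at H
  have H1 := allF_iff (allF_iff (allF_iff H a) b) c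
  rw [h1, Bool.not_true, Bool.false_or] at H1
  have H2 := allF_iff (allF_iff (allF_iff H1 g) h) i
  rw [h2, h3, Bool.not_true, Bool.false_or, Bool.false_or] at H2
  have H3 := allF_iff (allF_iff (allF_iff H2 d) e) f
  rw [h4, h5, h6, h7, Bool.not_true, Bool.false_or, Bool.false_or, Bool.false_or,
    Bool.false_or] at H3
  exact H3

/-- the Sylow 2-subgroup `Q₈` of `SU(3,2)` -/
def R8 : List M3 := (do
  let a ← [F4.z, .o, .w, .v]
  let b ← [F4.z, .o, .w, .v]
  let c ← [F4.z, .o, .w, .v]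
  let m : M3 := ⟨.o, a, c, .z, .o, b, .z, .z, .o⟩
  if m.unit then [m] else [])

/-- equality up to scalars -/
def sim (x y : M3) : Bool := memb x [y, M3.smul .w y, M3.smul .v y]

/-- all elements of a list -/
def allL (p : M3 → Bool) : List M3 → Bool
  | [] => true
  | y :: l => p y && allL p l

theorem allL_iff {p : M3 → Bool} : ∀ {l : List M3}, allL p l = true → ∀ x ∈ l, p x = true := by
  intro l
  induction l with
  | nil => intro _ x hx; exact absurd hx List.not_mem_nil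
  | cons y l ih =>
    intro h x hx
    unfold allL at h
    rw [Bool.and_eq_true] at h
    rcases List.mem_cons.1 hx with rfl | hx
    · exact h.1
    · exact ih h.2 x hx

/-- some element of a list -/
def exL (p : M3 → Bool) : List M3 → Bool
  | [] => false
  | y :: l => p y || exL p l

theorem exL_iff {p : M3 → Bool} : ∀ {l : List M3}, exL p l = true → ∃ x ∈ l, p x = true := by
  intro l
  induction l with
  | nil => intro h; exact absurd h (by simp [exL])
  | cons y l ih =>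
    intro h
    unfold exL at h
    rw [Bool.or_eq_true] at h
    rcases h with h | h
    · exact ⟨y, List.mem_cons_self, h⟩
    · obtain ⟨x, hx, hp⟩ := ih h
      exact ⟨x, List.mem_cons_of_mem _ hx, hp⟩

/-- the elements with scalar cube are closed under multiplication -/
def three_chk : Bool := allL (fun y => allL (fun x => M3.isSc (M3.cube (M3.mul y x))) Y27) Y27

/-- `Q₈` is transitive on the non-trivial elements -/
def irr_chk : Bool := allL (fun y => M3.isSc y || allL (fun x => M3.isSc x ||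
  exL (fun r => sim (M3.mul r y) (M3.mul x r)) R8) Y27) Y27

set_option maxRecDepth 100000 in
theorem three_chk_eq : three_chk = true := by decide +kernel

set_option maxRecDepth 100000 in
theorem irr_chk_eq : irr_chk = true := by decide +kernel

set_option maxRecDepth 100000 in
theorem R8_unit : allL M3.unit R8 = true := by decide +kernel

end Cfsg.Agent.UGT.FL34
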