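import Cfsg.Agent.UGT.FL34.Classes

/-!
# Facts on `L₃(4)`: five fields of `LTF.Defs.FT` (`c2`, `cls`, `cent`, `four`, `q8`)
-/

set_option autoImplicit false
set_option linter.constructorNameAsVariable false
set_option linter.unusedVariables false

namespace Cfsg.Agent.UGT.FL34.New5

open Subgroup
open Cfsg.Agent.SporadicA.FieldFour
open Cfsg.Agent.LThreeFour Cfsg.Agent.LThreeFour.Dat
open Cfsg.Agent.ONType.Psl (PSL3)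
open Cfsg.Agent.UGT.FL34
open scoped commutatorElement

variable {L : Type*} [Group L]

theorem c2 (e : PSL3 ≃* L) (s : L) (hs : s * s = 1) (hs1 : s ≠ 1) (l : L) (hl : l * s = s * l) :
    ∃ n : ℕ, l ^ 2 ^ n = 1 := by
  obtain ⟨e', rfl⟩ := exists_x02 e hs hs1
  obtain ⟨p, rfl⟩ := cent_x02.1 hl
  refine ⟨2, ?_⟩
  have h1 : (D e').el p * (D e').el p * ((D e').el p * (D e').el p) = 1 := by
    rw [(D e').el_mul, (D e').el_mul, code_four, (D e').el_one]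
  have h2 : (D e').el p ^ 2 ^ 2 = (D e').el p * (D e').el p * ((D e').el p * (D e').el p) := by
    rw [← pow_two, ← pow_two, ← pow_mul]; rfl
  rw [h2, h1]

theorem cls (e : PSL3 ≃* L) (s t : L) (hs : s * s = 1) (hs1 : s ≠ 1) (ht : t * t = 1) (ht1 : t ≠ 1) :
    ∃ g, g * s * g⁻¹ = t := by
  obtain ⟨g, hg⟩ := (D e).invol_conj s hs1 hs
  obtain ⟨h, hh⟩ := (D e).invol_conj t ht1 ht
  refine ⟨h⁻¹ * g, ?_⟩
  calc h⁻¹ * g * s * (h⁻¹ * g)⁻¹ = h⁻¹ * (g * s * g⁻¹) * h := by group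
    _ = h⁻¹ * (h * t * h⁻¹) * h := by rw [hg, hh]
    _ = t := by group

theorem code_cent : ∀ (τ : Ty) a b c,
    (∀ y ∈ ([⟨1, 0, 0⟩, ⟨F4.w, 0, 0⟩, ⟨0, 1, 0⟩, ⟨0, F4.w, 0⟩] : List Code),
      cact ⟨a, b, c⟩ τ y = y ∨ cact ⟨a, b, c⟩ τ y = cmul ⟨0, 0, 1⟩ y) →
    τ = ty1 ∧ a = 0 ∧ b = 0 := by decide +kernel

theorem cent (e : PSL3 ≃* L) (s : L) (hs : s * s = 1) (hs1 : s ≠ 1) (α : MulAut L)
    (h : ∀ p, p * s = s * p → α p * p⁻¹ = 1 ∨ α p * p⁻¹ = s) :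
    ∃ z, α = MulAut.conj z ∧ ∀ p, p * s = s * p → z * p = p * z := by
  obtain ⟨e', rfl⟩ := exists_x02 e hs hs1
  have h1 : α ((D e').x 0 2 1) = (D e').x 0 2 1 := by
    rcases h _ rfl with h2 | h2
    · exact mul_inv_eq_one.1 h2
    · rw [mul_inv_eq_iff_eq_mul, (D e').x_sq 0 2 (by decide)] at h2
      exact absurd (α.injective (by rw [h2, map_one])) hs1
  obtain ⟨⟨a, b, c⟩, τ, hp⟩ := (D e').exists_cd h1
  have h2 : ∀ y : Code, cact ⟨a, b, c⟩ τ y = y ∨ cact ⟨a, b, c⟩ τ y = cmul ⟨0, 0, 1⟩ y := by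
    intro y
    rcases h ((D e').el y) (cent_x02.2 ((D e').el_mem y)) with h3 | h3
    · left
      rw [mul_inv_eq_one, hp.apply] at h3
      exact (D e').inj h3
    · right
      rw [mul_inv_eq_iff_eq_mul, hp.apply, ← (D e').el_x02, (D e').el_mul] at h3
      exact (D e').inj h3
  obtain ⟨h3, h4, h5⟩ := code_cent τ a b c (fun y _ => h2 y)
  subst h3 h4 h5
  refine ⟨(D e').el (cinv ⟨0, 0, c⟩), hp.eq_conj, ?_⟩
  intro p hp'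
  have h6 : (D e').el (cinv ⟨0, 0, c⟩) ∈ (D e').Z := by
    rw [(D e').el_mem_Z]; exact ⟨rfl, rfl⟩
  exact Z_comm h6 (cent_x02.1 hp')

theorem code_w : ∀ a b : F4, ¬ (a = 0 ∧ b = 0) → ∃ c d : F4, a * d + b * c = F4.w := by decide

theorem four (e : PSL3 ≃* L) (s : L) (hs : s * s = 1) (hs1 : s ≠ 1) (w : L) (hw : w * s = s * w)
    (h : ∃ p, p * s = s * p ∧ w * p ≠ p * w) :
    ∃ p, p * s = s * p ∧ w * p * w⁻¹ * p⁻¹ ≠ 1 ∧ w * p * w⁻¹ * p⁻¹ ≠ s := by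
  obtain ⟨e', rfl⟩ := exists_x02 e hs hs1
  obtain ⟨q, rfl⟩ := cent_x02.1 hw
  have h1 : ¬ (q.a = 0 ∧ q.b = 0) := by
    intro h2
    obtain ⟨p, hp, hp'⟩ := h
    exact hp' (Z_comm ((D e').el_mem_Z.2 h2) (cent_x02.1 hp))
  obtain ⟨c, d, hcd⟩ := code_w _ _ h1
  have h2 := (D e').el_comm q ⟨c, d, 0⟩
  rw [commutatorElement_def] at h2
  have h3 : q.a * (⟨c, d, 0⟩ : Code).b + q.b * (⟨c, d, 0⟩ : Code).a = F4.w := hcd
  rw [h3] at h2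
  refine ⟨(D e').el ⟨c, d, 0⟩, cent_x02.2 ((D e').el_mem _), ?_, ?_⟩
  · rw [h2, ← (D e').el_x02, Ne, (D e').el_eq_one]
    decide
  · rw [h2, ← (D e').el_x02, ← (D e').el_x02]
    intro h4
    exact absurd ((D e').inj h4) (by decide)

theorem q8 (e : PSL3 ≃* L) {x : MulAut L} (hx : x * x = 1)
    (hb : bits ((D e).tyHom x) = (true, true)) (s : L) (hs : s * s = 1) (hs1 : s ≠ 1)
    (hxs : x s = s) : ∃ w₁ w₂, x w₁ = w₁ ∧ x w₂ = w₂ ∧ w₁ * w₁ = s ∧ w₂ * w₂ = s ∧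
      w₂ * w₁ * w₂⁻¹ = w₁⁻¹ := by
  obtain ⟨e', h1, rfl⟩ := plx' e hx hb hs hs1 hxs
  have k : ∃ a b c a' b' c' : F4, ctau (true, true, 0) ⟨a, b, c⟩ = ⟨a, b, c⟩ ∧
      ctau (true, true, 0) ⟨a', b', c'⟩ = ⟨a', b', c'⟩ ∧ cmul ⟨a, b, c⟩ ⟨a, b, c⟩ = ⟨0, 0, 1⟩ ∧
      cmul ⟨a', b', c'⟩ ⟨a', b', c'⟩ = ⟨0, 0, 1⟩ ∧
      cmul (cmul ⟨a', b', c'⟩ ⟨a, b, c⟩) (cinv ⟨a', b', c'⟩) = cinv ⟨a, b, c⟩ :=
    ⟨1, 1, F4.w, F4.w, F4.v, F4.w, by decide +kernel⟩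
  obtain ⟨a, b, c, a', b', c', k1, k2, k3, k4, k5⟩ := k
  refine ⟨(D e').el ⟨a, b, c⟩, (D e').el ⟨a', b', c'⟩, by rw [h1.el, k1], by rw [h1.el, k2], ?_, ?_, ?_⟩
  · rw [(D e').el_mul, k3, (D e').el_x02]
  · rw [(D e').el_mul, k4, (D e').el_x02]
  · rw [(D e').el_inv, (D e').el_inv, (D e').el_mul, (D e').el_mul, k5]

end Cfsg.Agent.UGT.FL34.New5
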