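import Cfsg.Agent.UGT.FL34.Classes

/-!
# Facts on `L₃(4)`: the fields `inv`, `ycomm`, `nine`, `wone`, `wsmall`, `pol`, `gen` of `LTF.Defs.FT`
-/

set_option autoImplicit false
set_option linter.constructorNameAsVariable false
set_option linter.unusedVariables false

namespace Cfsg.Agent.UGT.FL34.New6

open Subgroup Matrix
open Cfsg.Agent.SporadicA.FieldFour
open Cfsg.Agent.LThreeFour Cfsg.Agent.LThreeFour.Dat
open Cfsg.Agent.ONType.Psl (PSL3 SL3 T tm t kap)
open Cfsg.Agent.ClassicalGeometry.AutPSL.Root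
open Cfsg.Agent.ClassicalGeometry.AutPSL.Auto
open Cfsg.Agent.UGT.ThEL34
open Cfsg.Agent.UGT.FL34

/-- the matrix of `x₀₂(1)` -/
def BM : M3 := ⟨.o, .z, .o, .z, .o, .z, .z, .z, .o⟩

def inv_chk : Bool := allL (fun m => sim (M3.mul (M3.mul BM m) BM) (M3.mul m m)) Y27

set_option maxRecDepth 100000 in
theorem inv_chk_eq : inv_chk = true := by decide +kernel

def comm_chk : Bool := allL (fun m => allL (fun n => sim (M3.mul m n) (M3.mul n m)) Y27) Y27

set_option maxRecDepth 100000 in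
theorem comm_chk_eq : comm_chk = true := by decide +kernel

/-- representatives of the 9 elements of `Y` -/
def y9 : Fin 9 → M3
  | 0 => ⟨.o, .z, .z, .z, .o, .z, .z, .z, .o⟩
  | 1 => ⟨.z, .z, .o, .z, .o, .z, .o, .z, .o⟩
  | 2 => ⟨.o, .z, .o, .z, .o, .z, .o, .z, .z⟩
  | 3 => ⟨.o, .o, .w, .o, .z, .v, .v, .w, .o⟩
  | 4 => ⟨.o, .o, .v, .o, .z, .w, .w, .v, .o⟩
  | 5 => ⟨.o, .w, .w, .v, .z, .w, .v, .v, .o⟩
  | 6 => ⟨.o, .w, .v, .v, .z, .o, .w, .o, .o⟩
  | 7 => ⟨.o, .v, .w, .w, .z, .o, .v, .o, .o⟩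
  | 8 => ⟨.o, .v, .v, .w, .z, .v, .w, .w, .o⟩

theorem y9_unit : ∀ i, (y9 i).unit = true := by decide +kernel

theorem y9_cube : ∀ i, (M3.cube (y9 i)).isSc = true := by decide +kernel

theorem y9_sim : ∀ i j, sim (y9 i) (y9 j) = true → i = j := by decide +kernel

/-- membership of a representative -/
def y9_chk : Bool := allL (fun m => sim m (y9 0) || (sim m (y9 1) || (sim m (y9 2) || (sim m (y9 3) ||
  (sim m (y9 4) || (sim m (y9 5) || (sim m (y9 6) || (sim m (y9 7) || sim m (y9 8))))))))) Y27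

set_option maxRecDepth 100000 in
theorem y9_chk_eq : y9_chk = true := by decide +kernel

theorem y9_ex {m : M3} (h : memb m Y27 = true) : ∃ i, sim m (y9 i) = true := by
  have h1 := y9_chk_eq
  unfold y9_chk at h1
  have h2 := allL_iff h1 m (mem_of_memb h)
  simp only [Bool.or_eq_true] at h2
  rcases h2 with h | h | h | h | h | h | h | h | h
  · exact ⟨0, h⟩
  · exact ⟨1, h⟩
  · exact ⟨2, h⟩
  · exact ⟨3, h⟩
  · exact ⟨4, h⟩
  · exact ⟨5, h⟩
  · exact ⟨6, h⟩
  · exact ⟨7, h⟩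
  · exact ⟨8, h⟩

/-- equality in `PSL` from similarity -/
theorem pr_of_sim {A B : SL3} {a b : M3} (hA : A.1 = a.toM) (hB : B.1 = b.toM) (h : sim a b = true) :
    pr A = pr B := by
  obtain ⟨c, hc⟩ := mem_sim h
  symm
  apply pr_eq_of_smul (c := c)
  rw [hA, hB, hc, M3.toM_smul]

theorem sim_of_pr {A B : SL3} {a b : M3} (hA : A.1 = a.toM) (hB : B.1 = b.toM) (h : pr A = pr B) :
    sim a b = true := by
  obtain ⟨c, hc⟩ := exists_smul_of_pr_eq h.symm
  have hc0 : c ≠ 0 := by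
    rintro rfl
    have h5 : A.1.det = 1 := A.2
    rw [hc, zero_smul, Matrix.det_zero] at h5
    exact zero_ne_one h5
  apply sim_of_smul hc0
  apply toM_inj
  rw [M3.toM_smul, ← hA, ← hB, hc]

theorem exists_Y {y : PSL3} (hy : y ^ 3 = 1) (hx : x0 y = y) :
    ∃ (m : M3) (hm : m.unit = true), y = pr (sl m (unit_det hm)) ∧ memb m Y27 = true := by
  obtain ⟨m, hm, rfl⟩ := fix_x0_le hx
  exact ⟨m, hm, rfl, cube_memb hm ((pow_three_iff rfl).1 hy)⟩

theorem inv0 {y : PSL3} (hy : y ^ 3 = 1) (hx : x0 y = y) : t 0 2 1 * y * (t 0 2 1)⁻¹ = y⁻¹ := by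
  obtain ⟨m, hm, hym, h1⟩ := exists_Y hy hx
  have h2 : y⁻¹ = y * y := by
    rw [inv_eq_iff_mul_eq_one, ← mul_assoc, ← pow_three', hy]
  rw [h2, show (t 0 2 1)⁻¹ = t 0 2 1 from datPSL.x_inv 0 2 (by decide) 1, hym]
  have h3 := inv_chk_eq
  unfold inv_chk at h3
  have h4 := allL_iff h3 m (mem_of_memb h1)
  show pr (T 0 2 1) * pr _ * pr (T 0 2 1) = _
  rw [← map_mul, ← map_mul, ← map_mul]
  have hB : (T 0 2 1 : SL3).1 = BM.toM := by
    show tm 0 2 1 = _
    ext i j
    fin_cases i <;> fin_cases j <;> rfl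
  refine pr_of_sim ?_ ?_ h4
  · rw [M3.toM_mul, M3.toM_mul, ← hB]; rfl
  · rw [M3.toM_mul]; rfl

theorem ycomm0 {y z : PSL3} (hy : y ^ 3 = 1) (hx : x0 y = y) (hz : z ^ 3 = 1) (hz' : x0 z = z) :
    y * z = z * y := by
  obtain ⟨m, hm, rfl, h1⟩ := exists_Y hy hx
  obtain ⟨n, hn, rfl, h2⟩ := exists_Y hz hz'
  have h3 := comm_chk_eq
  unfold comm_chk at h3
  have h4 := allL_iff (allL_iff h3 m (mem_of_memb h1)) n (mem_of_memb h2)
  rw [← map_mul, ← map_mul]
  refine pr_of_sim ?_ ?_ h4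
  · rw [M3.toM_mul]; rfl
  · rw [M3.toM_mul]; rfl

/-- the elements of `Y` -/
noncomputable def yy (i : Fin 9) : PSL3 := pr (sl (y9 i) (unit_det (y9_unit i)))

theorem yy_three (i : Fin 9) : yy i ^ 3 = 1 := (pow_three_iff rfl).2 (y9_cube i)

theorem yy_fix (i : Fin 9) : x0 (yy i) = yy i := fix_x0_mem (y9_unit i)

theorem yy_inj : Function.Injective yy := fun i j h => y9_sim i j (sim_of_pr rfl rfl h)

theorem yy_surj {y : PSL3} (hy : y ^ 3 = 1) (hx : x0 y = y) : ∃ i, yy i = y := by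
  obtain ⟨m, hm, rfl, h1⟩ := exists_Y hy hx
  obtain ⟨i, hi⟩ := y9_ex h1
  exact ⟨i, (pr_of_sim rfl rfl hi).symm⟩

variable {L : Type*} [Group L] (e : PSL3 ≃* L) {x : MulAut L} (hx : x * x = 1)
  (hb : bits ((D e).tyHom x) = (true, true))

include hx hb in
theorem inv (b y : L) (hb2 : b * b = 1) (hb1 : b ≠ 1) (hxb : x b = b) (hy : y ^ 3 = 1)
    (hxy : x y = y) : b * y * b⁻¹ = y⁻¹ := by
  obtain ⟨e', h1, rfl⟩ := plx' e hx hb hb2 hb1 hxb
  have e1 := eq_tr e' isTau_x0 h1
  rw [e1, fix_symm] at hxy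
  have h2 := inv0 (y := e'.symm y) (by rw [← map_pow, hy, map_one]) hxy
  apply e'.symm.injective
  have h3 : e'.symm ((D e').x 0 2 1) = t 0 2 1 := e'.symm_apply_apply _
  rw [map_mul, map_mul, map_inv, map_inv, h3, h2]

include hx hb in
theorem ycomm (y z : L) (hy : y ^ 3 = 1) (hxy : x y = y) (hz : z ^ 3 = 1) (hxz : x z = z) :
    y * z = z * y := by
  obtain ⟨e', he⟩ := pure1 e hx hb (by decide)
  have e1 := eq_tr e' isTau_x0 he
  rw [e1, fix_symm] at hxy hxz
  have h2 := ycomm0 (y := e'.symm y) (z := e'.symm z) (by rw [← map_pow, hy, map_one]) hxy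
    (by rw [← map_pow, hz, map_one]) hxz
  apply e'.symm.injective
  rw [map_mul, map_mul, h2]

include hx hb in
theorem nine : ∃ Y : Subgroup L, Nat.card Y = 9 ∧ ∀ y, y ∈ Y ↔ y ^ 3 = 1 ∧ x y = y := by
  let Y : Subgroup L :=
    { carrier := {y | y ^ 3 = 1 ∧ x y = y}
      mul_mem' := by
        rintro y z ⟨hy, hxy⟩ ⟨hz, hxz⟩
        exact ⟨three e hx hb y z hy hxy hz hxz, by rw [map_mul, hxy, hxz]⟩
      one_mem' := ⟨one_pow 3, map_one x⟩
      inv_mem' := by
        rintro y ⟨hy, hxy⟩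
        exact ⟨by rw [inv_pow, hy, inv_one], by rw [map_inv, hxy]⟩ }
  have hY : ∀ y, y ∈ Y ↔ y ^ 3 = 1 ∧ x y = y := fun y => Iff.rfl
  obtain ⟨e', he⟩ := pure1 e hx hb (by decide)
  have e1 := eq_tr e' isTau_x0 he
  refine ⟨Y, ?_, hY⟩
  let f : Fin 9 → Y := fun i => ⟨e' (yy i), by
    rw [hY]
    exact ⟨by rw [← map_pow, yy_three, map_one], by rw [e1, tr_e, yy_fix]⟩⟩
  have hf : Function.Bijective f := by
    constructor
    · intro i j h
      exact yy_inj (e'.injective (congrArg Subtype.val h))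
    · rintro ⟨y, hy⟩
      have hy' := (hY y).1 hy
      have h3 : x0 (e'.symm y) = e'.symm y := by
        rw [← fix_symm, ← e1]; exact hy'.2
      obtain ⟨i, hi⟩ := yy_surj (y := e'.symm y) (by rw [← map_pow, hy'.1, map_one]) h3
      exact ⟨i, Subtype.ext (by show e' (yy i) = y; rw [hi, e'.apply_symm_apply])⟩
  rw [← Nat.card_eq_of_bijective f hf, Nat.card_eq_fintype_card, Fintype.card_fin]

include e in
theorem wone (x a : MulAut L) (ha : Wild x a) (t : L) (hat : a t = t) (ht : t * t = 1) (ht1 : t ≠ 1) :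
    ∃ m, MulAut.conj m * a * (MulAut.conj m)⁻¹ = a * MulAut.conj t := by
  have hc := conj_comm hat
  have h2 : (a * MulAut.conj t) * (a * MulAut.conj t) = 1 := by
    calc (a * MulAut.conj t) * (a * MulAut.conj t)
        = a * (MulAut.conj t * a) * MulAut.conj t := by group
      _ = (a * a) * (MulAut.conj t * MulAut.conj t) := by rw [← hc]; group
      _ = 1 := by rw [ha.sq, ← map_mul, ht, map_one, one_mul]
  apply conj_coset e h2 ha.sq
  · intro l h
    apply ha.inn (l * t⁻¹)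
    rw [map_mul, ← h, map_inv]; group
  · exact ⟨t⁻¹, by rw [map_inv]; group⟩

include hx hb in
theorem pol (β : MulAut L) (hβ : β * β = 1) : ∃ l, (MulAut.conj l * x * (MulAut.conj l)⁻¹) * β =
      β * (MulAut.conj l * x * (MulAut.conj l)⁻¹) := comm_polarity e hx hb hβ

include hx hb in
theorem gen (p b : L) (hb2 : b * b = 1) (hb1 : b ≠ 1) (hxb : x b = b) (hpb : p * b = b * p)
    (hp : MulAut.conj p * x * (MulAut.conj p)⁻¹ = x * MulAut.conj b) (H : Subgroup L)
    (hH : ∀ y, y ^ 3 = 1 → x y = y → y ∈ H ∧ p * y * p⁻¹ ∈ H) : H = ⊤ := by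
  rw [eq_top_iff, ← gen_two e hx hb hb2 hb1 hxb, closure_le]
  rintro y (⟨hy, hxy⟩ | ⟨hy, hxy⟩)
  · exact (hH y hy hxy).1
  · have h1 : x (p⁻¹ * y * p) = p⁻¹ * y * p := by
      have h2 := DFunLike.congr_fun hp y
      rw [hxy] at h2
      have h3 : p * x (p⁻¹ * y * p) * p⁻¹ = y := by
        have h4 : (MulAut.conj p * x * (MulAut.conj p)⁻¹) y = p * x (p⁻¹ * y * p) * p⁻¹ := by
          rw [← map_inv, MulAut.mul_apply, MulAut.mul_apply, MulAut.conj_apply, MulAut.conj_apply,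
            inv_inv]
        rw [← h4, h2]
      calc x (p⁻¹ * y * p) = p⁻¹ * (p * x (p⁻¹ * y * p) * p⁻¹) * p := by group
        _ = p⁻¹ * y * p := by rw [h3]
    have h4 := (hH (p⁻¹ * y * p) (by
      have h5 : p⁻¹ * y * p = p⁻¹ * y * p⁻¹⁻¹ := by rw [inv_inv]
      rw [h5, conj_pow, hy]; group) h1).2
    have h6 : p * (p⁻¹ * y * p) * p⁻¹ = y := by group
    rwa [h6] at h4

theorem code_small : ∀ τ : Ty, (τ.1 ≠ τ.2.1) → ∀ q : Code, ctau (true, true, 0) q = q →
    cmul (ctau τ q) q = cone → ∀ p : Code, ctau (true, true, 0) p = p → cact q τ p = p →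
    p = cone ∨ p = ⟨0, 0, 1⟩ := by decide +kernel

include hx hb in
theorem wsmall (a : MulAut L) (ha : Wild x a) (hax : a * x = x * a) (W : Subgroup L)
    (hW2 : IsPGroup 2 W) (hW : ∀ w ∈ W, x w = w ∧ a w = w) : Nat.card W ≤ 2 := by
  -- the 2-group generated by `x`, `a`, `W`
  have hQ : IsPGroup 2 (closure ({x, a} : Set (MulAut L)) ⊔ W.map (MulAut.conj : L →* MulAut L) :
      Subgroup (MulAut L)) := by
    have h1 : IsPGroup 2 (closure ({x, a} : Set (MulAut L))) := by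
      apply two_closure
      · rintro b (rfl | rfl)
        · exact hx
        · exact ha.sq
      · rintro b (rfl | rfl) c (rfl | rfl)
        · rfl
        · exact hax.symm
        · exact hax
        · rfl
    have h2 : IsPGroup 2 (W.map (MulAut.conj : L →* MulAut L)) := hW2.map _
    have h3 : closure ({x, a} : Set (MulAut L)) ≤ normalizer
        ((W.map (MulAut.conj : L →* MulAut L) : Subgroup (MulAut L)) : Set (MulAut L)) := by
      rw [closure_le]
      have h4 : ∀ b : MulAut L, (∀ w ∈ W, b w = w) → b ∈ normalizer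
          ((W.map (MulAut.conj : L →* MulAut L) : Subgroup (MulAut L)) : Set (MulAut L)) := by
        intro b hbw
        apply Subgroup.centralizer_le_normalizer
        rw [mem_centralizer_iff]
        rintro _ ⟨w, hw, rfl⟩
        exact (conj_comm (hbw w hw)).symm
      rintro b (rfl | rfl)
      · exact h4 _ fun w hw => (hW w hw).1
      · exact h4 _ fun w hw => (hW w hw).2
    exact h1.to_sup_of_normal_right' h2 h3
  have hx' : x ∈ (closure ({x, a} : Set (MulAut L)) ⊔ W.map (MulAut.conj : L →* MulAut L) :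
      Subgroup (MulAut L)) := (le_sup_left : closure ({x, a} : Set (MulAut L)) ≤ _)
        (Subgroup.subset_closure (Set.mem_insert _ _))
  have ha' : a ∈ (closure ({x, a} : Set (MulAut L)) ⊔ W.map (MulAut.conj : L →* MulAut L) :
      Subgroup (MulAut L)) := (le_sup_left : closure ({x, a} : Set (MulAut L)) ≤ _)
        (Subgroup.subset_closure (Set.mem_insert_of_mem _ rfl))
  obtain ⟨e', h1, h2⟩ := pl e _ hQ hx' hx hb (by decide)
  obtain ⟨q, τ, hq⟩ := h2 a ha'
  have hτ : τ.1 ≠ τ.2.1 := by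
    have h3 : bits ((D e').tyHom a) = (τ.1, τ.2.1) := by rw [hq.hasTy.tyHom]; rfl
    rw [bits_indep e e'] at h3
    rcases wild_bits e hx hb ha with h4 | h4
    · rw [h4] at h3
      rw [← (Prod.mk.inj h3).1, ← (Prod.mk.inj h3).2]; decide
    · rw [h4] at h3
      rw [← (Prod.mk.inj h3).1, ← (Prod.mk.inj h3).2]; decide
  have c1 : ctau (true, true, 0) q = q := by
    have u1 := h1.cd.mul hq
    have u2 := hq.mul h1.cd
    rw [hax] at u2
    have u3 := (u1.unique u2).2
    rw [ctau_cone, cone_cmul, cmul_cone] at u3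
    exact u3.symm
  have c2 : cmul (ctau τ q) q = cone := by
    have u1 := hq.mul hq
    rw [ha.sq] at u1
    exact u1.one.2
  have key : ∀ w ∈ W, w = 1 ∨ w = (D e').x 0 2 1 := by
    intro w hw
    obtain ⟨p, rfl⟩ := conj_mem (h2 (MulAut.conj w) ((le_sup_right : W.map (MulAut.conj : L →* MulAut L) ≤ _)
      ⟨w, hw, rfl⟩))
    have h3 := hW _ hw
    rw [h1.el, hq.apply] at h3
    rcases code_small τ hτ q c1 c2 p ((D e').inj h3.1) ((D e').inj h3.2) with h4 | h4
    · left; rw [h4]; exact (D e').el_one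
    · right; rw [h4, (D e').el_x02]
  classical
  let g : W → Fin 2 := fun w => if (w : L) = 1 then 0 else 1
  have hg : Function.Injective g := by
    intro u v huv
    apply Subtype.ext
    have h5 : ∀ w : W, g w = if (w : L) = 1 then 0 else 1 := fun _ => rfl
    rw [h5, h5] at huv
    rcases key u u.2 with h6 | h6 <;> rcases key v v.2 with h7 | h7
    · rw [h6, h7]
    · rw [if_pos h6, if_neg (by rw [h7]; exact x02_ne _)] at huv
      exact absurd huv (by decide)
    · rw [if_pos h7, if_neg (by rw [h6]; exact x02_ne _)] at huv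
      exact absurd huv (by decide)
    · rw [h6, h7]
  have h8 := Nat.card_le_card_of_injective g hg
  rwa [Nat.card_eq_fintype_card (α := Fin 2), Fintype.card_fin] at h8

end Cfsg.Agent.UGT.FL34.New6
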