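import Cfsg.Agent.UGT.FL34.New6
import Cfsg.Agent.UGT.FL34.KFCore

/-!
# Facts on `L₃(4)`: `C_{Aut L}(O(C_L(x))) = O(C_L(x))⟨x⟩` for a unitary polarity `x`
-/

set_option autoImplicit false
set_option linter.constructorNameAsVariable false
set_option linter.unusedVariables false

namespace Cfsg.Agent.UGT.FL34.New7

open Subgroup Matrix
open Cfsg.Agent.SporadicA.FieldFour
open Cfsg.Agent.LThreeFour Cfsg.Agent.LThreeFour.Dat
open Cfsg.Agent.ONType.Psl (PSL3 SL3 T tm t kap)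
open Cfsg.Agent.ClassicalGeometry.AutPSL.Root
open Cfsg.Agent.ClassicalGeometry.AutPSL.Auto
open Cfsg.Agent.UGT.ThEL34
open Cfsg.Agent.UGT.FL34

/-! ### The finite computation -/

def isZ (m : M3) : Bool := memb m [⟨.z, .z, .z, .z, .z, .z, .z, .z, .z⟩]

/-- a matrix `B` with `B R1 = k R1 B` -/
def B0 (k g h i d e f : F4) : M3 :=
  ⟨F4.add (F4.mul k i) (F4.mul k g), F4.mul k h, F4.mul k g, d, e, f, g, h, i⟩

def cchk (F2 : M3) (P : M3 → Bool) : Bool :=
  allF fun k => allF fun k' => eqb k .z || (eqb k' .z ||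
  (allF fun g => allF fun h => allF fun i =>
    !(eqb i (F4.mul k (F4.add (F4.add (F4.mul k i) (F4.mul k g)) g))) ||
  (!(eqb h (F4.mul k (F4.add (F4.mul k h) h))) ||
  (allF fun d => allF fun e => allF fun f =>
    !(memb (M3.mul (B0 k g h i d e f) R1) [M3.smul k (M3.mul R1 (B0 k g h i d e f))]) ||
    (!(memb (M3.mul (B0 k g h i d e f) R2) [M3.smul k' (M3.mul F2 (B0 k g h i d e f))]) ||
      P (B0 k g h i d e f))))))

set_option maxRecDepth 100000 in
theorem cchk_id : cchk R2 (fun m => isZ m || memb m Y27) = true := by decide +kernel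

set_option maxRecDepth 100000 in
theorem cchk_fr : cchk (frM R2) isZ = true := by decide +kernel

theorem frM_R1 : frM R1 = R1 := by decide

theorem dz1 : ∀ a b c : F4, dot3 a b c .z .z .o = c := by decide
theorem dz2 : ∀ a b c : F4, dot3 a b c .z .o .z = b := by decide
theorem dz3 : ∀ a b c : F4, dot3 a b c .o .z .o = F4.add a c := by decide
theorem dy1 : ∀ a b c : F4, dot3 .z .z .o a b c = c := by decide
theorem dy3 : ∀ a b c : F4, dot3 .o .z .o a b c = F4.add a c := by decide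
theorem add_cancel : ∀ a c y : F4, F4.add a c = y → a = F4.add y c := by decide

theorem cchk_iff {F2 : M3} {P : M3 → Bool} (H : cchk F2 P = true) {B : M3} {k k' : F4} (hk : k ≠ .z)
    (hk' : k' ≠ .z) (h1 : M3.mul B R1 = M3.smul k (M3.mul R1 B))
    (h2 : M3.mul B R2 = M3.smul k' (M3.mul F2 B)) : P B = true := by
  have ea : dot3 B.a B.b B.c .z .z .o = F4.mul k (dot3 .z .z .o B.a B.d B.g) := congrArg M3.a h1
  have eb : dot3 B.a B.b B.c .z .o .z = F4.mul k (dot3 .z .z .o B.b B.e B.h) := congrArg M3.b h1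
  have ec : dot3 B.a B.b B.c .o .z .o = F4.mul k (dot3 .z .z .o B.c B.f B.i) := congrArg M3.c h1
  have eg : dot3 B.g B.h B.i .z .z .o = F4.mul k (dot3 .o .z .o B.a B.d B.g) := congrArg M3.g h1
  have eh : dot3 B.g B.h B.i .z .o .z = F4.mul k (dot3 .o .z .o B.b B.e B.h) := congrArg M3.h h1
  rw [dz1, dy1] at ea
  rw [dz2, dy1] at eb
  rw [dz3, dy1] at ec
  rw [dz1, dy3] at eg
  rw [dz2, dy3] at eh
  have ec' := add_cancel _ _ _ ec
  rw [ea] at ec'
  have hB : B = B0 k B.g B.h B.i B.d B.e B.f := by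
    obtain ⟨a, b, c, d, e, f, g, h, i⟩ := B
    unfold B0
    simp only at ea eb ec'
    rw [ea, eb, ec']
  unfold cchk at H
  have H1 := allF_iff (allF_iff H k) k'
  have e1 : eqb k .z = false := by
    rw [Bool.eq_false_iff]; exact fun h => hk ((eqb_iff _ _).1 h)
  have e2 : eqb k' .z = false := by
    rw [Bool.eq_false_iff]; exact fun h => hk' ((eqb_iff _ _).1 h)
  rw [e1, e2, Bool.false_or, Bool.false_or] at H1
  have H2 := allF_iff (allF_iff (allF_iff H1 B.g) B.h) B.i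
  have e3 : eqb B.i (F4.mul k (F4.add (F4.add (F4.mul k B.i) (F4.mul k B.g)) B.g)) = true := by
    rw [eqb_iff]
    rw [ec'] at eg
    exact eg
  have e4 : eqb B.h (F4.mul k (F4.add (F4.mul k B.h) B.h)) = true := by
    rw [eqb_iff]
    rw [eb] at eh
    exact eh
  rw [e3, e4, Bool.not_true, Bool.false_or, Bool.false_or] at H2
  have H3 := allF_iff (allF_iff (allF_iff H2 B.d) B.e) B.f
  rw [← hB] at H3
  rw [memb_of_eq (l := [M3.smul k (M3.mul R1 B)]) (by rw [h1]; exact List.mem_cons_self),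
    memb_of_eq (l := [M3.smul k' (M3.mul F2 B)]) (by rw [h2]; exact List.mem_cons_self),
    Bool.not_true, Bool.false_or, Bool.false_or] at H3
  exact H3

/-! ### Automorphisms fixing `R1` and `R2` -/

/-- the code of `D⁻¹ S` -/
noncomputable def nn (d : Fin 3) (S : SL3) : M3 :=
  M3.ofM (((DD d)⁻¹ : GL (Fin 3) F4).1 * S.1)

theorem nn_toM (d : Fin 3) (S : SL3) : (nn d S).toM = ((DD d)⁻¹ : GL (Fin 3) F4).1 * S.1 :=
  M3.toM_ofM _

theorem dmat_nn (d : Fin 3) (S : SL3) : dmat d * (nn d S).toM = S.1 := by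
  rw [nn_toM, ← mul_assoc]
  have h : (DD d : GL (Fin 3) F4).1 * ((DD d)⁻¹ : GL (Fin 3) F4).1 = 1 := by
    rw [← Units.val_mul, mul_inv_cancel, Units.val_one]
  have h' : dmat d * ((DD d)⁻¹ : GL (Fin 3) F4).1 = 1 := h
  rw [h', one_mul]

theorem rel {S sR F : SL3} {d : Fin 3} {R F' : M3} (hR : sR.1 = R.toM) (hF : F.1 = F'.toM)
    (h : pr S * pr sR * (pr S)⁻¹ = pr (cj (DD d) F)) :
    ∃ c : F4, c ≠ .z ∧ M3.mul (nn d S) R = M3.smul c (M3.mul F' (nn d S)) := by
  rw [← map_inv, ← map_mul, ← map_mul] at h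
  obtain ⟨c, hc⟩ := exists_smul_of_pr_eq h.symm
  have hc0 : c ≠ 0 := by
    rintro rfl
    have h5 : (S * sR * S⁻¹).1.det = 1 := (S * sR * S⁻¹).2
    rw [hc, zero_smul, Matrix.det_zero] at h5
    exact zero_ne_one h5
  refine ⟨c, hc0, ?_⟩
  have e1 : S.1 * sR.1 = (S * sR * S⁻¹).1 * S.1 := by
    have : S * sR * S⁻¹ * S = S * sR := by group
    exact (congrArg Subtype.val this).symm
  have e2 : (cj (DD d) F).1 = (DD d : GL (Fin 3) F4).1 * F.1 * ((DD d)⁻¹ : GL (Fin 3) F4).1 := rfl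
  rw [hc, e2] at e1
  have h' : ((DD d)⁻¹ : GL (Fin 3) F4).1 * (DD d : GL (Fin 3) F4).1 = 1 := by
    rw [← Units.val_mul, inv_mul_cancel, Units.val_one]
  apply toM_inj
  rw [M3.toM_mul, M3.toM_smul, M3.toM_mul, nn_toM, ← hR, ← hF, mul_assoc, e1]
  rw [smul_mul_assoc, mul_smul_comm]
  congr 1
  calc ((DD d)⁻¹ : GL (Fin 3) F4).1 * ((DD d : GL (Fin 3) F4).1 * F.1 * ((DD d)⁻¹ : GL (Fin 3) F4).1 * S.1)
      = (((DD d)⁻¹ : GL (Fin 3) F4).1 * (DD d : GL (Fin 3) F4).1) * F.1 *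
        (((DD d)⁻¹ : GL (Fin 3) F4).1 * S.1) := by simp only [mul_assoc]
    _ = _ := by rw [h', one_mul]

theorem Y27_unit : allL (fun m => m.unit && M3.isSc (M3.cube m)) Y27 = true := by decide +kernel

theorem det_d : ∀ d : Fin 3, (dmat d).det = 1 → d = 0 := by
  intro d
  rw [Matrix.det_fin_three]; revert d; decide +kernel

/-- the elements `r0`, `r2` -/
noncomputable def ra : PSL3 := pr (sl R1 (unit_det R1_unit))
noncomputable def rb : PSL3 := pr (sl R2 (unit_det R2_unit))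

theorem ra3 : ra ^ 3 = 1 := (pow_three_iff rfl).2 indep_chk.1
theorem rb3 : rb ^ 3 = 1 := (pow_three_iff rfl).2 indep_chk.2.1
theorem x0_ra : x0 ra = ra := fix_x0_mem R1_unit
theorem x0_rb : x0 rb = rb := fix_x0_mem R2_unit

/-- an automorphism of type `(1, 1)` fixing `ra`, `rb` -/
theorem fix_id {β : MulAut PSL3} (hb : bits (datPSL.tyHom β) = (false, false)) (h1 : β ra = ra)
    (h2 : β rb = rb) : ∃ y : PSL3, y ^ 3 = 1 ∧ x0 y = y ∧ β = MulAut.conj y := by
  obtain ⟨l, hl⟩ := datPSL.hasTy_tyHom β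
  obtain ⟨S, rfl⟩ := pr_surjective l
  obtain ⟨d, hd⟩ : ∃ d : Fin 3, (datPSL.tyHom β).ty = (false, false, d) := by
    refine ⟨(datPSL.tyHom β).ty.2.2, ?_⟩
    have e1 : (datPSL.tyHom β).ty.1 = false := congrArg Prod.fst hb
    have e2 : (datPSL.tyHom β).ty.2.1 = false := congrArg Prod.snd hb
    exact Prod.ext e1 (Prod.ext e2 rfl)
  rw [hd] at hl
  have h3 : MulAut.conj (pr S) * β = dl d := hl.ext (isTau_dl d)
  have key : ∀ (sR : SL3), β (pr sR) = pr sR → pr S * pr sR * (pr S)⁻¹ = pr (cj (DD d) sR) := by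
    intro sR hsR
    have h4 : (MulAut.conj (pr S) * β) (pr sR) = dl d (pr sR) := by rw [h3]
    have h5 : dl d (pr sR) = pr (cj (DD d) sR) := lift_pr _ _
    rw [← h5, ← h4]
    show _ = MulAut.conj (pr S) (β (pr sR))
    rw [hsR]; rfl
  obtain ⟨k, hk, hk1⟩ := rel (R := R1) (F' := R1) rfl rfl (key _ h1)
  obtain ⟨k', hk', hk1'⟩ := rel (R := R2) (F' := R2) rfl rfl (key _ h2)
  have h6 := cchk_iff cchk_id hk hk' hk1 hk1'
  rw [Bool.or_eq_true] at h6
  have hS := dmat_nn d S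
  rcases h6 with h6 | h6
  · exfalso
    have h7 := mem_of_memb h6
    simp only [List.mem_cons, List.not_mem_nil, or_false] at h7
    have h8 : (nn d S).toM = 0 := by
      rw [h7]
      ext i j
      fin_cases i <;> fin_cases j <;> rfl
    rw [h8, mul_zero] at hS
    have h9 : S.1.det = 1 := S.2
    rw [← hS, Matrix.det_zero] at h9
    exact zero_ne_one h9
  · have h7 := mem_of_memb h6
    have h8 := allL_iff Y27_unit _ h7
    rw [Bool.and_eq_true] at h8
    have hd1 := unit_det h8.1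
    have h9 : S.1.det = 1 := S.2
    rw [← hS, Matrix.det_mul, M3.det_toM, hd1, mul_one] at h9
    obtain rfl := det_d d h9
    have h10 : MulAut.conj (pr S) * β = 1 := by
      rw [h3]
      exact (isTau_dl 0).ext datPSL.isTau_one
    have hD : dmat 0 = 1 := by
      ext i j
      fin_cases i <;> fin_cases j <;> rfl
    rw [hD, one_mul] at hS
    have hSS : S = sl (nn 0 S) hd1 := Subtype.ext hS.symm
    have e3 : pr S ^ 3 = 1 := (pow_three_iff hS.symm).2 h8.2
    have e4 : x0 (pr S) = pr S := by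
      rw [hSS]; exact fix_x0_mem h8.1
    refine ⟨(pr S)⁻¹, ?_, ?_, ?_⟩
    · rw [inv_pow, e3, inv_one]
    · rw [map_inv, e4]
    · rw [map_inv]
      exact eq_inv_of_mul_eq_one_right h10

/-- no automorphism of field type fixes `ra`, `rb` -/
theorem fix_fr {β : MulAut PSL3} (hb : bits (datPSL.tyHom β) = (true, false)) (h1 : β ra = ra)
    (h2 : β rb = rb) : False := by
  obtain ⟨l, hl⟩ := datPSL.hasTy_tyHom β
  obtain ⟨S, rfl⟩ := pr_surjective l
  obtain ⟨d, hd⟩ : ∃ d : Fin 3, (datPSL.tyHom β).ty = (true, false, d) := by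
    refine ⟨(datPSL.tyHom β).ty.2.2, ?_⟩
    have e1 : (datPSL.tyHom β).ty.1 = true := congrArg Prod.fst hb
    have e2 : (datPSL.tyHom β).ty.2.1 = false := congrArg Prod.snd hb
    exact Prod.ext e1 (Prod.ext e2 rfl)
  rw [hd] at hl
  have hm : ∀ d : Fin 3, Ty.mul (false, false, d) (true, false, 0) = (true, false, d) := by decide
  have h0 := (isTau_dl d).mul isTau_f0
  rw [hm d] at h0
  have h3 : MulAut.conj (pr S) * β = dl d * f0 := hl.ext h0
  have key : ∀ (sR : SL3), β (pr sR) = pr sR →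
      pr S * pr sR * (pr S)⁻¹ = pr (cj (DD d) (fld frob sR)) := by
    intro sR hsR
    have h4 : (MulAut.conj (pr S) * β) (pr sR) = (dl d * f0) (pr sR) := by rw [h3]
    have h5 : (dl d * f0) (pr sR) = pr (cj (DD d) (fld frob sR)) := by
      show dl d (f0 (pr sR)) = _
      have e1 : f0 (pr sR) = pr (fld frob sR) := lift_pr _ _
      rw [e1]
      exact lift_pr _ _
    rw [← h5, ← h4]
    show _ = MulAut.conj (pr S) (β (pr sR))
    rw [hsR]; rfl
  have hfr : ∀ (m : M3) (hm : m.det = 1), (fld frob (sl m hm)).1 = (frM m).toM := by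
    intro m hm
    ext i j
    rw [frM_toM]; rfl
  obtain ⟨k, hk, hk1⟩ := rel (R := R1) (F' := frM R1) rfl (hfr _ _) (key _ h1)
  obtain ⟨k', hk', hk1'⟩ := rel (R := R2) (F' := frM R2) rfl (hfr _ _) (key _ h2)
  rw [frM_R1] at hk1
  have h6 := cchk_iff cchk_fr hk hk' hk1 hk1'
  have hS := dmat_nn d S
  have h7 := mem_of_memb h6
  simp only [List.mem_cons, List.not_mem_nil, or_false] at h7
  have h8 : (nn d S).toM = 0 := by
    rw [h7]
    ext i j
    fin_cases i <;> fin_cases j <;> rfl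
  rw [h8, mul_zero] at hS
  have h9 : S.1.det = 1 := S.2
  rw [← hS, Matrix.det_zero] at h9
  exact zero_ne_one h9

/-- automorphisms fixing `ra`, `rb` -/
theorem fix_any {β : MulAut PSL3} (h1 : β ra = ra) (h2 : β rb = rb) :
    ∃ y : PSL3, y ^ 3 = 1 ∧ x0 y = y ∧ (β = MulAut.conj y ∨ β = MulAut.conj y * x0) := by
  have hx : x0 * x0 = 1 := by
    have h3 := isTau_x0.mul isTau_x0
    have h4 : Ty.mul (true, true, 0) (true, true, 0) = ty1 := by decide
    rw [h4] at h3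
    exact h3.ext datPSL.isTau_one
  have hxt : datPSL.tyHom x0 = ⟨(true, true, 0)⟩ := isTau_x0.hasTy.tyHom
  have hcases : bits (datPSL.tyHom β) = (false, false) ∨ bits (datPSL.tyHom β) = (true, false) ∨
      bits (datPSL.tyHom (β * x0)) = (false, false) ∨ bits (datPSL.tyHom (β * x0)) = (true, false) := by
    rw [map_mul, hxt]
    generalize datPSL.tyHom β = g
    revert g; decide +kernel
  have h1' : (β * x0) ra = ra := by
    show β (x0 ra) = ra
    rw [x0_ra, h1]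
  have h2' : (β * x0) rb = rb := by
    show β (x0 rb) = rb
    rw [x0_rb, h2]
  rcases hcases with h | h | h | h
  · obtain ⟨y, hy, hy', h3⟩ := fix_id h h1 h2
    exact ⟨y, hy, hy', Or.inl h3⟩
  · exact (fix_fr h h1 h2).elim
  · obtain ⟨y, hy, hy', h3⟩ := fix_id h h1' h2'
    refine ⟨y, hy, hy', Or.inr ?_⟩
    rw [← h3, mul_assoc, hx, mul_one]
  · exact (fix_fr h h1' h2').elim

variable {L : Type*} [Group L] (e : PSL3 ≃* L) {x : MulAut L} (hx : x * x = 1)
  (hb : bits ((D e).tyHom x) = (true, true))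

include hx hb in
/-- **`C_{Aut L}(O(C_L(x))) = O(C_L(x))⟨x⟩`** -/
theorem autY (β : MulAut L) (h : ∀ y : L, y ^ 3 = 1 → x y = y → β y = y) :
    ∃ y : L, y ^ 3 = 1 ∧ x y = y ∧ (β = MulAut.conj y ∨ β = MulAut.conj y * x) := by
  obtain ⟨e', he⟩ := pure1 e hx hb (by decide)
  have h1 := eq_tr e' isTau_x0 he
  have hfix : ∀ y0 : PSL3, x0 y0 = y0 → x (e' y0) = e' y0 := by
    intro y0 hy0
    rw [h1, fix_symm, MulEquiv.symm_apply_apply, hy0]
  have h2 : ∀ y0 : PSL3, y0 ^ 3 = 1 → x0 y0 = y0 → tr e'.symm β y0 = y0 := by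
    intro y0 hy hy0
    rw [tr_apply]
    have h3 := h (e' y0) (by rw [← map_pow, hy, map_one]) (hfix y0 hy0)
    rw [MulEquiv.symm_symm, h3, MulEquiv.symm_apply_apply]
  obtain ⟨y, hy, hxy, h3⟩ := fix_any (h2 ra ra3 x0_ra) (h2 rb rb3 x0_rb)
  have hβ : ∀ l, β l = e' (tr e'.symm β (e'.symm l)) := by
    intro l
    rw [tr_apply, MulEquiv.symm_symm, MulEquiv.apply_symm_apply, MulEquiv.apply_symm_apply]
  refine ⟨e' y, by rw [← map_pow, hy, map_one], hfix y hxy, ?_⟩
  rcases h3 with h3 | h3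
  · left
    apply MulEquiv.ext
    intro l
    rw [hβ, h3, MulAut.conj_apply, MulAut.conj_apply, map_mul, map_mul, map_inv,
      MulEquiv.apply_symm_apply]
  · right
    apply MulEquiv.ext
    intro l
    rw [hβ, h3, MulAut.mul_apply, MulAut.conj_apply, MulAut.mul_apply, MulAut.conj_apply, map_mul,
      map_mul, map_inv, h1, tr_apply]

/-- `autY` for a polarity given by an odd group of automorphisms, as in `KF34` -/
theorem autY' {D : Type*} [Group D] (hD : Iface.IsL34 D) {ξ : MulAut D} (hξ : ξ * ξ = 1)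
    {E : Subgroup (MulAut D)} (hE : LTF.Defs.OddC ξ E) (hE1 : E ≠ ⊥) (β : MulAut D)
    (h : ∀ y : D, y ^ 3 = 1 → ξ y = y → β y = y) :
    ∃ y : D, y ^ 3 = 1 ∧ ξ y = y ∧ (β = MulAut.conj y ∨ β = MulAut.conj y * ξ) := by
  obtain ⟨F, _, _, hF, ⟨e⟩⟩ := hD
  obtain ⟨e'⟩ := nonempty_psl_equiv (n := Fin 3) F hF
  let e0 : PSL3 ≃* D := e'.trans e.symm
  have hb := KF.bits_of_oddC e0 hξ hE hE1
  exact autY e0 hξ hb β h

end Cfsg.Agent.UGT.FL34.New7
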