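import Cfsg.Agent.UGT.FL34.KF34

/-!
# Facts on `L₃(4)`: characters of `Aut L₃(4)` and generation by fixed points of four-groups

* `sF`, `sG : MulAut L →* ℤˣ`: the field and the graph character (canonical: `sF_tr`, `sG_tr`); values on
  involutory automorphisms: inner `(1, 1)`, type `f` (`C_L = L₃(2)`) `(-1, 1)`, type `g` (`C_L = A₅`) `(1, -1)`,
  type `u` (`C_L = 3²:Q₈`) `(-1, -1)`.
* `gen_inner`: `⟨C_L(α), C_L(i)⟩ = L`, `α` an outer involution, `i` an involution of `C_L(α)`.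
* `gen_fg`: `⟨C_L(f), C_L(g)⟩ = L` for commuting `f`, `g` of field and graph type.
* `gen`: a four-group `{1, α, β, αβ}` of automorphisms which are not all inner: `⟨C_L(α), C_L(β), C_L(αβ)⟩ = L`.
* `rank_one`: `C_L(u)` contains no four-group.
* `e16`: a four-group `F ≤ C_L(f)` lies in a subgroup `E` of order 16 contained in every subgroup `K ≥ F` normalized
  by `C_L(v)`, `v ∈ F#`.
* `no_q8`: `C_Aut(f)` contains no quaternion group.
-/

set_option autoImplicit false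
set_option linter.constructorNameAsVariable false
set_option linter.unusedVariables false

namespace Cfsg.Agent.UGT.FL34.Seven

open Subgroup Cfsg.Agent.UGT.FL34
open Cfsg.Agent.SporadicA.FieldFour
open Cfsg.Agent.LThreeFour Cfsg.Agent.LThreeFour.Dat
open Cfsg.Agent.ONType.Psl (PSL3)
open Cfsg.Agent.UGT.ThEL34 (fx mem_fx)
open Cfsg.Agent.UGT.Iface (IsL34)

universe u

/-! ### the characters -/

section

variable {L : Type u} [Group L] {M : Type u} [Group M]

theorem exists_e (h : IsL34 L) : Nonempty (PSL3 ≃* L) := by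
  obtain ⟨F, _, _, hF, ⟨e⟩⟩ := h
  obtain ⟨e'⟩ := nonempty_psl_equiv (n := Fin 3) F hF
  exact ⟨e'.trans e.symm⟩

/-- the field character -/
noncomputable def sF (h : IsL34 L) : MulAut L →* ℤˣ := chF (exists_e h).some

/-- the graph character -/
noncomputable def sG (h : IsL34 L) : MulAut L →* ℤˣ := chG (exists_e h).some

theorem sF_eq (h : IsL34 L) (e : PSL3 ≃* L) (α : MulAut L) :
    sF h α = if (bits ((D e).tyHom α)).1 then -1 else 1 := by
  rw [sF, chF_eq, bits_indep e]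

theorem sG_eq (h : IsL34 L) (e : PSL3 ≃* L) (α : MulAut L) :
    sG h α = if (bits ((D e).tyHom α)).2 then -1 else 1 := by
  rw [sG, chG_eq, bits_indep e]

theorem hasTy_tr {A : Dat L} (f : L ≃* M) {β : MulAut L} {τ : Ty} (h : A.HasTy β τ) :
    (A.map f).HasTy (tr f β) τ := by
  obtain ⟨l, hl⟩ := h
  have h1 := isTau_map (A := A) f hl
  refine ⟨f l, ?_⟩
  have e : tr f (MulAut.conj l * β) = MulAut.conj (f l) * tr f β := by
    apply MulEquiv.ext
    intro m
    obtain ⟨m, rfl⟩ := f.surjective m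
    rw [tr_e, MulAut.mul_apply, MulAut.mul_apply, tr_e, MulAut.conj_apply, MulAut.conj_apply,
      map_mul, map_mul, map_inv]
  rwa [e] at h1

theorem tyHom_tr (e : PSL3 ≃* L) (f : L ≃* M) (β : MulAut L) :
    (D (e.trans f)).tyHom (tr f β) = (D e).tyHom β := by
  have h := hasTy_tr (A := D e) f ((D e).hasTy_tyHom β)
  exact h.tyHom

theorem sF_tr (h : IsL34 L) (h' : IsL34 M) (f : L ≃* M) (α : MulAut L) :
    sF h' (tr f α) = sF h α := by
  obtain ⟨e⟩ := exists_e h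
  rw [sF_eq h e, sF_eq h' (e.trans f), tyHom_tr]

theorem sG_tr (h : IsL34 L) (h' : IsL34 M) (f : L ≃* M) (α : MulAut L) :
    sG h' (tr f α) = sG h α := by
  obtain ⟨e⟩ := exists_e h
  rw [sG_eq h e, sG_eq h' (e.trans f), tyHom_tr]

theorem sF_conj (h : IsL34 L) (l : L) : sF h (MulAut.conj l) = 1 := by
  obtain ⟨e⟩ := exists_e h
  rw [sF_eq h e, (D e).tyHom_conj]; rfl

theorem sG_conj (h : IsL34 L) (l : L) : sG h (MulAut.conj l) = 1 := by
  obtain ⟨e⟩ := exists_e h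
  rw [sG_eq h e, (D e).tyHom_conj]; rfl

theorem sF_cases (h : IsL34 L) (α : MulAut L) : sF h α = 1 ∨ sF h α = -1 := Int.units_eq_one_or _

theorem sG_cases (h : IsL34 L) (α : MulAut L) : sG h α = 1 ∨ sG h α = -1 := Int.units_eq_one_or _

theorem ite_one {b : Bool} : (if b then (-1 : ℤˣ) else 1) = 1 ↔ b = false := by
  cases b <;> decide

theorem ite_neg {b : Bool} : (if b then (-1 : ℤˣ) else 1) = -1 ↔ b = true := by
  cases b <;> decide

theorem bits_of (h : IsL34 L) (e : PSL3 ≃* L) {α : MulAut L} {b c : Bool}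
    (h1 : sF h α = if b then -1 else 1) (h2 : sG h α = if c then -1 else 1) :
    bits ((D e).tyHom α) = (b, c) := by
  rw [sF_eq h e] at h1
  rw [sG_eq h e] at h2
  apply Prod.ext
  · cases b
    · exact ite_one.mp h1
    · exact ite_neg.mp h1
  · cases c
    · exact ite_one.mp h2
    · exact ite_neg.mp h2

/-- inner involutory automorphisms -/
theorem inner (h : IsL34 L) {α : MulAut L} (hα : α * α = 1) (h1 : sF h α = 1) (h2 : sG h α = 1) :
    ∃ l, α = MulAut.conj l := by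
  obtain ⟨e⟩ := exists_e h
  have hb := bits_of h e (b := false) (c := false) h1 h2
  rcases ty_sq ((D e).tyHom α) (by rw [← map_mul, hα, map_one]) with h3 | h3 | h3 | h3
  · exact (D e).inner_iff.1 h3
  · rw [hb] at h3; exact absurd h3 (by decide)
  · rw [hb] at h3; exact absurd h3 (by decide)
  · rw [h3] at hb; exact absurd hb (by decide)

/-- outer involutory automorphisms in adapted coordinates -/
theorem outer (h : IsL34 L) {α : MulAut L} (hα : α * α = 1) {b c : Bool}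
    (h1 : sF h α = if b then -1 else 1) (h2 : sG h α = if c then -1 else 1)
    (hne : (b, c) ≠ (false, false)) : ∃ e : PSL3 ≃* L, (D e).IsTau (b, c, 0) α := by
  obtain ⟨e⟩ := exists_e h
  exact pure1 e hα (bits_of h e h1 h2) hne

theorem not_inner (h : IsL34 L) {α : MulAut L} (h1 : sF h α = -1 ∨ sG h α = -1) (l : L) :
    α ≠ MulAut.conj l := by
  rintro rfl
  rcases h1 with h1 | h1
  · rw [sF_conj] at h1; exact absurd h1 (by decide)
  · rw [sG_conj] at h1; exact absurd h1 (by decide)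

/-! ### generation -/

/-- **`⟨C_L(α), C_L(i)⟩ = L`** -/
theorem gen_inner (h : IsL34 L) {α : MulAut L} (hα : α * α = 1) (ho : sF h α = -1 ∨ sG h α = -1)
    {i : L} (hi : i * i = 1) (hi1 : i ≠ 1) (hαi : α i = i) {K : Subgroup L} (h1 : fx α ≤ K)
    (h2 : centralizer ({i} : Set L) ≤ K) : K = ⊤ := by
  obtain ⟨e⟩ := exists_e h
  have key : ∃ e' : PSL3 ≃* L, ∃ τ : Ty, (D e').IsTau τ α ∧ ∃ c, c ≠ 0 ∧ i = (D e').x 0 2 c := by
    rcases sF_cases h α with hF | hF <;> rcases sG_cases h α with hG | hG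
    · rw [hF, hG] at ho
      exact absurd ho (by decide)
    · have hb := bits_of h e (b := false) (c := true) hF hG
      obtain ⟨e', h3 | h3, c, hc, h4⟩ := pla e hα (Or.inr hb) hi hi1 hαi
      · exact ⟨e', _, h3, c, hc, h4⟩
      · exact ⟨e', _, h3, c, hc, h4⟩
    · have hb := bits_of h e (b := true) (c := false) hF hG
      obtain ⟨e', h3 | h3, c, hc, h4⟩ := pla e hα (Or.inl hb) hi hi1 hαi
      · exact ⟨e', _, h3, c, hc, h4⟩
      · exact ⟨e', _, h3, c, hc, h4⟩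
    · have hb := bits_of h e (b := true) (c := true) hF hG
      obtain ⟨e', h3, h4⟩ := plx' e hα hb hi hi1 hαi
      exact ⟨e', _, h3, 1, by decide, h4⟩
  obtain ⟨e', τ, hτ, c, hc, rfl⟩ := key
  apply gen_T (D e')
  · intro l hl
    apply h2
    rw [mem_centralizer_singleton_iff]
    exact (cent_x02_any hc).2 hl
  · exact h1 (fx_x20 hτ)

/-- **`⟨C_L(f), C_L(g)⟩ = L`** -/
theorem gen_fg (h : IsL34 L) {φ γ : MulAut L} (hφ : φ * φ = 1) (hγ : γ * γ = 1) (hc : φ * γ = γ * φ)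
    (h1 : sF h φ = -1) (h2 : sG h φ = 1) (h3 : sF h γ = 1) (h4 : sG h γ = -1) {K : Subgroup L}
    (k1 : fx φ ≤ K) (k2 : fx γ ≤ K) : K = ⊤ := by
  obtain ⟨e⟩ := exists_e h
  obtain ⟨x, hx⟩ : ∃ x, x = φ * γ := ⟨_, rfl⟩
  have hxx : x * x = 1 := by
    rw [hx]
    calc φ * γ * (φ * γ) = φ * (γ * φ) * γ := by group
      _ = (φ * φ) * (γ * γ) := by rw [← hc]; group
      _ = 1 := by rw [hφ, hγ, one_mul]
  have hxF : sF h x = -1 := by rw [hx, map_mul, h1, h3]; decide
  have hxG : sG h x = -1 := by rw [hx, map_mul, h2, h4]; decide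
  obtain ⟨e', h5, h6⟩ := pl2 e hxx (bits_of h e (b := true) (c := true) hxF hxG) hφ
    (bits_of h e (b := true) (c := false) h1 h2) (by rw [hx, ← mul_assoc, mul_assoc φ γ φ, ← hc, ← mul_assoc])
  have h7 := h6.mul h5
  have h8 : φ * x = γ := by rw [hx, ← mul_assoc, hφ, one_mul]
  rw [h8] at h7
  have h9 : (D e').IsTau (false, true, 0) γ := h7
  exact gen_pair (D e') (fun i j hij => k1 (fx_one h6 hij)) (fun u => k2 (fx_u h9 u))

theorem fx_conj_le {K : Subgroup L} {β : MulAut L} {i : L} (hβ : β = MulAut.conj i) (h : fx β ≤ K) :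
    centralizer ({i} : Set L) ≤ K := by
  intro l hl
  apply h
  rw [mem_fx, hβ, MulAut.conj_apply]
  rw [mem_centralizer_singleton_iff] at hl
  rw [← hl, mul_inv_cancel_right]

/-- **A four-group of automorphisms, not all inner.** -/
theorem gen (h : IsL34 L) {α β : MulAut L} (hα : α * α = 1) (hβ : β * β = 1) (hc : α * β = β * α)
    (hβ1 : β ≠ 1) (hαβ : α ≠ β) (ho : sF h α = -1 ∨ sG h α = -1)
    {K : Subgroup L} (k1 : fx α ≤ K) (k2 : fx β ≤ K) (k3 : fx (α * β) ≤ K) : K = ⊤ := by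
  obtain ⟨e⟩ := exists_e h
  have hin : ∀ γ : MulAut L, γ * γ = 1 → γ ≠ 1 → α * γ = γ * α → sF h γ = 1 → sG h γ = 1 →
      fx γ ≤ K → K = ⊤ := by
    intro γ hγ hγ1 hcγ g1 g2 hK
    obtain ⟨i, hi⟩ := inner h hγ g1 g2
    have hi1 : i ≠ 1 := by
      rintro rfl
      exact hγ1 (by rw [hi, map_one])
    have hii : i * i = 1 := by
      apply (D e).conj_injective
      rw [map_mul, ← hi, hγ, map_one]
    refine gen_inner h hα ho hii hi1 ?_ k1 (fx_conj_le hi hK)
    apply (D e).conj_injective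
    rw [conj_map, ← hi, hcγ, mul_inv_cancel_right]
  have hαβ2 : (α * β) * (α * β) = 1 := by
    calc α * β * (α * β) = α * (β * α) * β := by group
      _ = (α * α) * (β * β) := by rw [← hc]; group
      _ = 1 := by rw [hα, hβ, one_mul]
  have hαβ1 : α * β ≠ 1 := by
    intro h1
    apply hαβ
    calc α = α * (β * β) := by rw [hβ, mul_one]
      _ = (α * β) * β := by rw [mul_assoc]
      _ = β := by rw [h1, one_mul]
  have hcαβ : α * (α * β) = α * β * α := by rw [hc, ← mul_assoc, hc, mul_assoc]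
  have e1 : sF h (α * β) = sF h α * sF h β := map_mul _ _ _
  have e2 : sG h (α * β) = sG h α * sG h β := map_mul _ _ _
  have hc2 : α * (α * β) = (α * β) * α := hcαβ
  have hc3 : β * (α * β) = (α * β) * β := by rw [← mul_assoc, ← hc]
  have hcs : (α * β) * α = α * (α * β) := hcαβ.symm
  rcases sF_cases h α with a1 | a1 <;> rcases sG_cases h α with a2 | a2 <;>
    rcases sF_cases h β with b1 | b1 <;> rcases sG_cases h β with b2 | b2 <;>
    rw [a1, b1] at e1 <;> rw [a2, b2] at e2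
  -- `α` inner
  · rw [a1, a2] at ho; exact absurd ho (by decide)
  · rw [a1, a2] at ho; exact absurd ho (by decide)
  · rw [a1, a2] at ho; exact absurd ho (by decide)
  · rw [a1, a2] at ho; exact absurd ho (by decide)
  -- `α` of type `g`
  · exact hin β hβ hβ1 hc b1 b2 k2
  · exact hin _ hαβ2 hαβ1 hcαβ (e1.trans (by decide)) (e2.trans (by decide)) k3
  · exact gen_fg h hβ hα hc.symm b1 b2 a1 a2 k2 k1
  · exact gen_fg h hαβ2 hα hcs (e1.trans (by decide)) (e2.trans (by decide)) a1 a2 k3 k1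
  -- `α` of type `f`
  · exact hin β hβ hβ1 hc b1 b2 k2
  · exact gen_fg h hα hβ hc a1 a2 b1 b2 k1 k2
  · exact hin _ hαβ2 hαβ1 hcαβ (e1.trans (by decide)) (e2.trans (by decide)) k3
  · exact gen_fg h hα hαβ2 hc2 a1 a2 (e1.trans (by decide)) (e2.trans (by decide)) k1 k3
  -- `α` of type `u`
  · exact hin β hβ hβ1 hc b1 b2 k2
  · exact gen_fg h hαβ2 hβ hc3.symm (e1.trans (by decide)) (e2.trans (by decide)) b1 b2 k3 k2
  · exact gen_fg h hβ hαβ2 hc3 b1 b2 (e1.trans (by decide)) (e2.trans (by decide)) k2 k3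
  · exact hin _ hαβ2 hαβ1 hcαβ (e1.trans (by decide)) (e2.trans (by decide)) k3

/-- `C_L(u)` contains no four-group -/
theorem rank_one (h : IsL34 L) {υ : MulAut L} (hυ : υ * υ = 1) (h1 : sF h υ = -1) (h2 : sG h υ = -1)
    {s t : L} (hs : s * s = 1) (ht : t * t = 1) (hs1 : s ≠ 1) (ht1 : t ≠ 1) (hυs : υ s = s)
    (hυt : υ t = t) (hc : s * t = t * s) : s = t := by
  obtain ⟨e⟩ := exists_e h
  exact comm e hυ (bits_of h e (b := true) (c := true) h1 h2) s t hs ht hs1 ht1 hυs hυt hc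

/-! ### the field type -/

theorem fld_code : ∀ p : Code, ctau (true, false, 0) p = p → cmul p p = cone → p ≠ cone →
    p ≠ ⟨0, 0, 1⟩ → (p = ⟨1, 0, 0⟩ ∨ p = ⟨1, 0, 1⟩) ∨ (p = ⟨0, 1, 0⟩ ∨ p = ⟨0, 1, 1⟩) := by
  decide +kernel

theorem fr_one : ∀ c : F4, c ≠ 0 → fr true c = c → c = 1 := by decide

/-- adapted coordinates for a field automorphism and a fixed involution -/
theorem exists_fld (h : IsL34 L) {φ : MulAut L} (hφ : φ * φ = 1) (h1 : sF h φ = -1)
    (h2 : sG h φ = 1) {s : L} (hs : s * s = 1) (hs1 : s ≠ 1) (hφs : φ s = s) :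
    ∃ e : PSL3 ≃* L, (D e).IsTau (true, false, 0) φ ∧ s = (D e).x 0 2 1 := by
  obtain ⟨e⟩ := exists_e h
  obtain ⟨e', h3 | h3, c, hc, h4⟩ :=
    pla e hφ (Or.inl (bits_of h e (b := true) (c := false) h1 h2)) hs hs1 hφs
  · refine ⟨e', h3, ?_⟩
    have h5 : φ ((D e').x 0 2 c) = (D e').x 0 2 c := by rw [← h4]; exact hφs
    rw [h3.x02] at h5
    have h6 : fr true c = c := by
      have h7 := (D e').inj (p := ⟨0, 0, fr true c⟩) (q := ⟨0, 0, c⟩) (by
        rw [(D e').el_x02, (D e').el_x02]; exact h5)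
      exact congrArg Code.c h7
    rw [h4, fr_one c hc h6]
  · exfalso
    have h5 := h3.hasTy.tyHom
    have h6 := bits_of h e' (b := true) (c := false) h1 h2
    rw [h5] at h6
    exact absurd h6 (by decide)

theorem e16_aux (A : Dat L) {p : Code}
    (hp : (p = ⟨1, 0, 0⟩ ∨ p = ⟨1, 0, 1⟩) ∨ (p = ⟨0, 1, 0⟩ ∨ p = ⟨0, 1, 1⟩)) :
    ∃ E : Subgroup L, Nat.card E = 16 ∧ (∀ y ∈ E, y * y = 1) ∧ A.x 0 2 1 ∈ E ∧ A.el p ∈ E ∧
      ∀ K : Subgroup L, A.x 0 2 1 ∈ K → A.el p ∈ K →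
        (∀ v, v = A.x 0 2 1 ∨ v = A.el p ∨ v = A.x 0 2 1 * A.el p → ∀ c, c * v = v * c →
          ∀ k ∈ K, c * k * c⁻¹ ∈ K) →
        E ≤ K := by
  have hC : ∀ c ∈ A.T, c * A.x 0 2 1 = A.x 0 2 1 * c := fun c hc => cent_x02.2 hc
  have sq1 : ∀ p : Code, p.b = 0 → cmul p p = cone := by decide +kernel
  have sq2 : ∀ p : Code, p.a = 0 → cmul p p = cone := by decide +kernel
  rcases hp with hp | hp
  · refine ⟨A.A1, A.card_A1, ?_, ?_, ?_, ?_⟩
    · rintro _ ⟨a, c, rfl⟩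
      rw [A.el_mul, sq1 _ rfl, A.el_one]
    · rw [← A.el_x02, el_mem_A1]
    · rw [el_mem_A1]
      rcases hp with rfl | rfl <;> rfl
    · intro K hsK htK hn
      -- `x₀₁(1)`
      have m1 : A.x 0 1 1 ∈ K ∧ ∀ c, c * A.x 0 1 1 = A.x 0 1 1 * c → ∀ k ∈ K, c * k * c⁻¹ ∈ K := by
        rcases hp with rfl | rfl
        · rw [A.el_x01] at htK hn
          exact ⟨htK, hn _ (Or.inr (Or.inl rfl))⟩
        · have e1 : A.x 0 2 1 * A.el ⟨1, 0, 1⟩ = A.x 0 1 1 := by
            rw [← A.el_x02, ← A.el_x01, A.el_mul]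
            congr 1
          have h3 := mul_mem hsK htK
          rw [e1] at h3
          refine ⟨h3, ?_⟩
          have h4 := hn _ (Or.inr (Or.inr rfl))
          rw [e1] at h4
          exact h4
      have m2 : ∀ v, A.x 0 2 v ∈ K := by
        intro v
        have e1 := A.x_sum 0 2 1 (by decide) (by decide) (by decide) 1 v
        rw [one_mul] at e1
        have h3 := hn _ (Or.inl rfl) (A.x 1 2 v)⁻¹ (hC _ (inv_mem (by rw [← A.el_x12]; exact A.el_mem _)))
          _ m1.1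
        have e2 : (A.x 1 2 v)⁻¹ * A.x 0 1 1 * (A.x 1 2 v)⁻¹⁻¹ = A.x 0 1 1 * A.x 0 2 v := by
          rw [inv_inv, mul_assoc, e1]; group
        rw [e2] at h3
        have h4 := mul_mem (inv_mem m1.1) h3
        rwa [inv_mul_cancel_left] at h4
      have m3 : ∀ u, A.x 0 1 u ∈ K := by
        intro u
        have e1 := A.x_sum 0 1 2 (by decide) (by decide) (by decide) 1 u
        rw [one_mul] at e1
        have hcm : (A.x 2 1 u)⁻¹ * A.x 0 1 1 = A.x 0 1 1 * (A.x 2 1 u)⁻¹ :=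
          (Commute.inv_left (show Commute (A.x 2 1 u) (A.x 0 1 1) from
            (A.x_col 0 1 2 (by decide) (by decide) 1 u).symm)).eq
        have h3 := m1.2 _ hcm _ hsK
        have e2 : (A.x 2 1 u)⁻¹ * A.x 0 2 1 * (A.x 2 1 u)⁻¹⁻¹ = A.x 0 2 1 * A.x 0 1 u := by
          rw [inv_inv, mul_assoc, e1]; group
        rw [e2] at h3
        have h4 := mul_mem (inv_mem hsK) h3
        rwa [inv_mul_cancel_left] at h4
      rintro _ ⟨a, c, rfl⟩
      rw [A.el_eq]
      simp only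
      rw [A.x_zero 1 2 (by decide), mul_one]
      exact mul_mem (m3 a) (m2 c)
  · refine ⟨A.A2, A.card_A2, ?_, ?_, ?_, ?_⟩
    · rintro _ ⟨a, c, rfl⟩
      rw [A.el_mul, sq2 _ rfl, A.el_one]
    · rw [← A.el_x02, el_mem_A2]
    · rw [el_mem_A2]
      rcases hp with rfl | rfl <;> rfl
    · intro K hsK htK hn
      have m1 : A.x 1 2 1 ∈ K ∧ ∀ c, c * A.x 1 2 1 = A.x 1 2 1 * c → ∀ k ∈ K, c * k * c⁻¹ ∈ K := by
        rcases hp with rfl | rfl
        · rw [A.el_x12] at htK hn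
          exact ⟨htK, hn _ (Or.inr (Or.inl rfl))⟩
        · have e1 : A.x 0 2 1 * A.el ⟨0, 1, 1⟩ = A.x 1 2 1 := by
            rw [← A.el_x02, ← A.el_x12, A.el_mul]
            congr 1
          have h3 := mul_mem hsK htK
          rw [e1] at h3
          refine ⟨h3, ?_⟩
          have h4 := hn _ (Or.inr (Or.inr rfl))
          rw [e1] at h4
          exact h4
      have m2 : ∀ v, A.x 0 2 v ∈ K := by
        intro v
        have e1 := A.x_sum 0 2 1 (by decide) (by decide) (by decide) v 1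
        rw [mul_one] at e1
        have h3 := hn _ (Or.inl rfl) (A.x 0 1 v) (hC _ (by rw [← A.el_x01]; exact A.el_mem _))
          _ m1.1
        have e3 := A.x_row 0 1 2 (by decide) (by decide) v v
        have e2 : A.x 0 1 v * A.x 1 2 1 * (A.x 0 1 v)⁻¹ = A.x 1 2 1 * A.x 0 2 v := by
          rw [e1, mul_assoc (A.x 1 2 1), e3]; group
        rw [e2] at h3
        have h4 := mul_mem (inv_mem m1.1) h3
        rwa [inv_mul_cancel_left] at h4
      have m3 : ∀ u, A.x 1 2 u ∈ K := by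
        intro u
        have e1 := A.x_sum 1 2 0 (by decide) (by decide) (by decide) u 1
        rw [mul_one] at e1
        have hcm : A.x 1 0 u * A.x 1 2 1 = A.x 1 2 1 * A.x 1 0 u :=
          A.x_row 1 0 2 (by decide) (by decide) u 1
        have h3 := m1.2 _ hcm _ hsK
        have e3 := A.x_row 1 0 2 (by decide) (by decide) u u
        have e2 : A.x 1 0 u * A.x 0 2 1 * (A.x 1 0 u)⁻¹ = A.x 0 2 1 * A.x 1 2 u := by
          rw [e1, mul_assoc (A.x 0 2 1), e3]; group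
        rw [e2] at h3
        have h4 := mul_mem (inv_mem hsK) h3
        rwa [inv_mul_cancel_left] at h4
      rintro _ ⟨a, c, rfl⟩
      rw [A.el_eq]
      simp only
      rw [A.x_zero 0 1 (by decide), one_mul]
      exact mul_mem (m3 a) (m2 c)

/-- **A four-group in `C_L(f) = L₃(2)`.** -/
theorem e16 (h : IsL34 L) {φ : MulAut L} (hφ : φ * φ = 1) (h1 : sF h φ = -1)
    (h2 : sG h φ = 1) {s t : L} (hs : s * s = 1) (ht : t * t = 1) (hs1 : s ≠ 1) (ht1 : t ≠ 1)
    (hst : s ≠ t) (hφs : φ s = s) (hφt : φ t = t) (hc : s * t = t * s) :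
    ∃ E : Subgroup L, Nat.card E = 16 ∧ (∀ y ∈ E, y * y = 1) ∧ s ∈ E ∧ t ∈ E ∧
      ∀ K : Subgroup L, s ∈ K → t ∈ K →
        (∀ v, v = s ∨ v = t ∨ v = s * t → ∀ c, c * v = v * c → ∀ k ∈ K, c * k * c⁻¹ ∈ K) →
        E ≤ K := by
  obtain ⟨e, hf, rfl⟩ := exists_fld h hφ h1 h2 hs hs1 hφs
  obtain ⟨p, rfl⟩ := cent_x02.1 hc.symm
  have k1 : ctau (true, false, 0) p = p := (D e).inj (by rw [← hf.el, hφt])
  have k2 : cmul p p = cone := el_sq ht
  have k3 : p ≠ cone := by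
    rintro rfl
    exact ht1 (D e).el_one
  have k4 : p ≠ ⟨0, 0, 1⟩ := by
    rintro rfl
    exact hst ((D e).el_x02 1).symm
  exact e16_aux (D e) (fld_code p k1 k2 k3 k4)

/-! ### `C_Aut(f)` contains no quaternion group -/

/-- the types commuting with `f` -/
def tl : List Ty := [(false, false, 0), (true, false, 0), (false, true, 0), (true, true, 0)]

/-- the codes fixed by `f` -/
def pl8 : List Code := [⟨0, 0, 0⟩, ⟨0, 0, 1⟩, ⟨0, 1, 0⟩, ⟨0, 1, 1⟩, ⟨1, 0, 0⟩, ⟨1, 0, 1⟩, ⟨1, 1, 0⟩,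
  ⟨1, 1, 1⟩]

theorem mem_tl : ∀ τ : Ty, τ.mul (true, false, 0) = Ty.mul (true, false, 0) τ → τ ∈ tl := by
  decide +kernel

theorem mem_pl8 : ∀ p : Code, ctau (true, false, 0) p = p → p ∈ pl8 := by decide +kernel

/-- the quaternion relations fail -/
def q8b (τ ρ : Ty) (p q : Code) : Bool :=
  !(decide (τ.mul τ = ρ.mul ρ)) || !(decide (cmul (ctau τ p) p = cmul (ctau ρ q) q)) ||
    !(decide ((τ.mul ρ).mul τ = ρ)) ||
    !(decide (cmul (ctau (τ.mul ρ) p) (cmul (ctau τ q) p) = q)) ||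
    (decide (τ.mul τ = ty1) && decide (cmul (ctau τ p) p = cone))

theorem q8_chk : ∀ τ ∈ tl, ∀ ρ ∈ tl, ∀ p ∈ pl8, ∀ q ∈ pl8, q8b τ ρ p q = true := by decide +kernel

theorem q8_code (τ : Ty) (h1 : τ.mul (true, false, 0) = Ty.mul (true, false, 0) τ)
    (ρ : Ty) (h2 : ρ.mul (true, false, 0) = Ty.mul (true, false, 0) ρ)
    (p : Code) (h3 : ctau (true, false, 0) p = p) (q : Code) (h4 : ctau (true, false, 0) q = q)
    (h5 : τ.mul τ = ρ.mul ρ) (h6 : cmul (ctau τ p) p = cmul (ctau ρ q) q)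
    (h7 : (τ.mul ρ).mul τ = ρ) (h8 : cmul (ctau (τ.mul ρ) p) (cmul (ctau τ q) p) = q) :
    τ.mul τ = ty1 ∧ cmul (ctau τ p) p = cone := by
  have h := q8_chk τ (mem_tl τ h1) ρ (mem_tl ρ h2) p (mem_pl8 p h3) q (mem_pl8 q h4)
  unfold q8b at h
  rw [decide_eq_true h5, decide_eq_true h6, decide_eq_true h7, decide_eq_true h8] at h
  simpa using h

/-- **`C_Aut(f)` contains no `Q₈`** -/
theorem no_q8 (h : IsL34 L) {φ : MulAut L} (hφ : φ * φ = 1) (h1 : sF h φ = -1)
    (h2 : sG h φ = 1) {a b : MulAut L} (ha : a * φ = φ * a) (hb : b * φ = φ * b)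
    (hab : a * a = b * b) (hinv : b * a * b⁻¹ = a⁻¹) : a * a = 1 := by
  obtain ⟨e⟩ := exists_e h
  have ha4 : a ^ 4 = 1 := by
    have e1 : b * (a * a) * b⁻¹ = (a * a)⁻¹ := by
      calc b * (a * a) * b⁻¹ = (b * a * b⁻¹) * (b * a * b⁻¹) := by group
        _ = (a * a)⁻¹ := by rw [hinv]; group
    have e2 : b * (a * a) * b⁻¹ = a * a := by rw [hab]; group
    have e3 : a * a = (a * a)⁻¹ := by rw [← e1, e2]
    calc a ^ 4 = (a * a) * (a * a) := by simp only [pow_succ, pow_zero, one_mul, mul_assoc]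
      _ = (a * a) * (a * a)⁻¹ := by rw [← e3]
      _ = 1 := mul_inv_cancel _
  have hb4 : b ^ 4 = 1 := by
    calc b ^ 4 = (b * b) * (b * b) := by simp only [pow_succ, pow_zero, one_mul, mul_assoc]
      _ = a ^ 4 := by rw [← hab]; simp only [pow_succ, pow_zero, one_mul, mul_assoc]
      _ = 1 := ha4
  have two : ∀ {c : MulAut L}, c ^ 4 = 1 → IsPGroup 2 (zpowers c) := by
    intro c hc g
    obtain ⟨k, hk⟩ := g.2
    refine ⟨2, Subtype.ext ?_⟩
    have h3 : ((g : MulAut L)) ^ (2 ^ 2) = 1 := by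
      rw [← hk]
      change (c ^ k) ^ (2 ^ 2) = 1
      rw [← zpow_natCast, ← zpow_mul, mul_comm, zpow_mul]
      have : c ^ ((2 ^ 2 : ℕ) : ℤ) = 1 := by rw [zpow_natCast]; exact hc
      rw [this, one_zpow]
    exact h3
  obtain ⟨R, hR⟩ : ∃ R, R = zpowers a ⊔ zpowers b := ⟨_, rfl⟩
  have hR2 : IsPGroup 2 R := by
    rw [hR]
    refine (two ha4).to_sup_of_normal_left' (two hb4) (zpowers_le.mpr ?_)
    rw [mem_normalizer_iff]
    intro g
    have hcj : ∀ g, g ∈ zpowers a → b * g * b⁻¹ ∈ zpowers a := by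
      rintro _ ⟨k, rfl⟩
      refine ⟨-k, ?_⟩
      change a ^ (-k) = b * a ^ k * b⁻¹
      rw [← conj_zpow, hinv, inv_zpow, zpow_neg]
    have hcj' : ∀ g, g ∈ zpowers a → b⁻¹ * g * b ∈ zpowers a := by
      rintro _ ⟨k, rfl⟩
      refine ⟨-k, ?_⟩
      change a ^ (-k) = b⁻¹ * a ^ k * b
      have h3 : b⁻¹ * a * b = a⁻¹ := by
        have h4 : b⁻¹ * a⁻¹ * b = a := by rw [← hinv]; group
        calc b⁻¹ * a * b = (b⁻¹ * a⁻¹ * b)⁻¹ := by group
          _ = a⁻¹ := by rw [h4]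
      have h5 : b⁻¹ * a ^ k * b = (b⁻¹ * a * b⁻¹⁻¹) ^ k := by rw [conj_zpow, inv_inv]
      rw [h5, inv_inv, h3, inv_zpow, zpow_neg]
    refine ⟨hcj g, fun hg => ?_⟩
    have := hcj' _ hg
    have e1 : b⁻¹ * (b * g * b⁻¹) * b = g := by group
    rwa [e1] at this
  have hQ2 : IsPGroup 2 (R ⊔ zpowers φ : Subgroup (MulAut L)) := by
    refine hR2.to_sup_of_normal_left' (two (c := φ) (by
      calc φ ^ 4 = (φ * φ) * (φ * φ) := by simp only [pow_succ, pow_zero, one_mul, mul_assoc]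
        _ = 1 := by rw [hφ, one_mul])) (zpowers_le.mpr ?_)
    apply centralizer_le_normalizer
    have : R ≤ centralizer ({φ} : Set (MulAut L)) := by
      rw [hR]
      exact sup_le (zpowers_le.mpr (mem_centralizer_singleton_iff.mpr ha))
        (zpowers_le.mpr (mem_centralizer_singleton_iff.mpr hb))
    rw [mem_centralizer_iff]
    intro r hr
    exact mem_centralizer_singleton_iff.mp (this hr)
  have hφQ : φ ∈ (R ⊔ zpowers φ : Subgroup (MulAut L)) := mem_sup_right (mem_zpowers φ)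
  have haQ : a ∈ (R ⊔ zpowers φ : Subgroup (MulAut L)) := by
    rw [hR]; exact mem_sup_left (mem_sup_left (mem_zpowers a))
  have hbQ : b ∈ (R ⊔ zpowers φ : Subgroup (MulAut L)) := by
    rw [hR]; exact mem_sup_left (mem_sup_right (mem_zpowers b))
  obtain ⟨e', h3, h4⟩ := pl e _ hQ2 hφQ hφ (bits_of h e (b := true) (c := false) h1 h2) (by decide)
  obtain ⟨p, τ, hp⟩ := h4 a haQ
  obtain ⟨q, ρ, hq⟩ := h4 b hbQ
  have comm : ∀ {c : MulAut L} {r : Code} {σ : Ty}, (D e').Cd c r σ → c * φ = φ * c →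
      σ.mul (true, false, 0) = Ty.mul (true, false, 0) σ ∧ ctau (true, false, 0) r = r := by
    intro c r σ hr hc
    have u1 := hr.mul h3.cd
    have u2 := h3.cd.mul hr
    rw [hc] at u1
    obtain ⟨v1, v2⟩ := u1.unique u2
    refine ⟨v1.symm, ?_⟩
    rw [ctau_cone, cone_cmul, cmul_cone] at v2
    exact v2
  obtain ⟨p1, p2⟩ := comm hp ha
  obtain ⟨q1, q2⟩ := comm hq hb
  have aa := hp.mul hp
  have bb := hq.mul hq
  rw [← hab] at bb
  obtain ⟨w1, w2⟩ := aa.unique bb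
  have aba := (hp.mul hq).mul hp
  have e5 : a * b * a = b := by
    have : b * a = a⁻¹ * b := by rw [← hinv]; group
    rw [mul_assoc, this, mul_inv_cancel_left]
  rw [e5] at aba
  obtain ⟨w3, w4⟩ := aba.unique hq
  obtain ⟨r1, r2⟩ := q8_code τ p1 ρ q1 p p2 q q2 w1.symm w2.symm w3.symm w4.symm
  rw [r1, r2] at aa
  exact IsTau.ext aa.cone isTau_one

end

end Cfsg.Agent.UGT.FL34.Seven
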