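import Cfsg.Agent.UGT.FL34.Seven

/-!
# Facts on `L₃(4)`: elementary abelian subgroups

* `exists_sqrt`: every element of order 2 is a square.
* `exists_e16`: an elementary abelian 2-subgroup centralizes a subgroup `E` of order 16 and exponent 2.
* `e16'`: `F ≤ C_L(f)` a four-group: there is `E` of order 16 and exponent 2 contained in every subgroup `K` containing
  the commutators `[c, v]`, `v ∈ F#`, `c ∈ C_L(v')`, `v' ∈ F#`.
-/

set_option autoImplicit false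
set_option linter.constructorNameAsVariable false
set_option linter.unusedVariables false

namespace Cfsg.Agent.UGT.FL34.Seven

open Subgroup Cfsg.Agent.UGT.FL34
open Cfsg.Agent.SporadicA.FieldFour
open Cfsg.Agent.LThreeFour Cfsg.Agent.LThreeFour.Dat
open Cfsg.Agent.ONType.Psl (PSL3)
open Cfsg.Agent.UGT.ThEL34 (fx mem_fx)
open Cfsg.Agent.UGT.Iface (IsL34)

universe u

variable {L : Type u} [Group L]

/-- every involution is a square -/
theorem exists_sqrt (h : IsL34 L) {s : L} (hs : s * s = 1) : ∃ r, r * r = s := by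
  by_cases hs1 : s = 1
  · exact ⟨1, by rw [hs1, one_mul]⟩
  obtain ⟨e⟩ := exists_e h
  obtain ⟨e', rfl⟩ := exists_x02 e hs hs1
  refine ⟨(D e').el ⟨1, 1, 0⟩, ?_⟩
  rw [(D e').el_mul, ← (D e').el_x02]
  congr 1

theorem elem_code : ∀ p q : Code, cmul p p = cone → cmul q q = cone →
    cmul (cmul p q) (cmul p q) = cone → p.b ≠ 0 → q.a = 0 := by decide +kernel

theorem elem_code' : ∀ p : Code, cmul p p = cone → p.b ≠ 0 → p.a = 0 := by decide +kernel

/-- **elementary abelian subgroups** -/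
theorem exists_e16 (h : IsL34 L) {V : Subgroup L} (hV : ∀ v ∈ V, v * v = 1) :
    ∃ E : Subgroup L, Nat.card E = 16 ∧ (∀ y ∈ E, y * y = 1) ∧ ∀ v ∈ V, ∀ y ∈ E, v * y = y * v := by
  have sq1 : ∀ p : Code, p.b = 0 → cmul p p = cone := by decide +kernel
  have sq2 : ∀ p : Code, p.a = 0 → cmul p p = cone := by decide +kernel
  have cm1 : ∀ p q : Code, p.b = 0 → q.b = 0 → cmul p q = cmul q p := by decide +kernel
  have cm2 : ∀ p q : Code, p.a = 0 → q.a = 0 → cmul p q = cmul q p := by decide +kernel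
  obtain ⟨e⟩ := exists_e h
  have hcomm : ∀ u ∈ V, ∀ v ∈ V, u * v = v * u := by
    intro u hu v hv
    calc u * v = u * (u * v * (u * v)) * v := by rw [hV _ (mul_mem hu hv), mul_one]
      _ = (u * u) * (v * u) * (v * v) := by group
      _ = v * u := by rw [hV u hu, hV v hv, one_mul, mul_one]
  by_cases hbot : V = ⊥
  · refine ⟨(D e).A1, (D e).card_A1, ?_, ?_⟩
    · rintro _ ⟨a, c, rfl⟩
      rw [(D e).el_mul, sq1 _ rfl, (D e).el_one]
    · intro v hv y _
      rw [hbot, mem_bot] at hv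
      rw [hv, one_mul, mul_one]
  obtain ⟨s, hsV, hs1⟩ : ∃ s ∈ V, s ≠ 1 := by
    by_contra hcon
    push Not at hcon
    apply hbot
    rw [eq_bot_iff]
    intro v hv
    rw [mem_bot]; exact hcon v hv
  obtain ⟨e', he'⟩ := exists_x02 e (hV s hsV) hs1
  have hT : ∀ v ∈ V, ∃ p, v = (D e').el p := by
    intro v hv
    exact (D e').cent v (by rw [he']; exact hcomm v hv s hsV)
  by_cases hb : ∀ v ∈ V, ∀ p, v = (D e').el p → p.b = 0
  · refine ⟨(D e').A1, (D e').card_A1, ?_, ?_⟩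
    · rintro _ ⟨a, c, rfl⟩
      rw [(D e').el_mul, sq1 _ rfl, (D e').el_one]
    · rintro v hv _ ⟨a, c, rfl⟩
      obtain ⟨p, hp⟩ := hT v hv
      rw [hp, (D e').el_mul, (D e').el_mul, cm1 p _ (hb v hv p hp) rfl]
  · push Not at hb
    obtain ⟨w, hw, q, hq, hqb⟩ := hb
    refine ⟨(D e').A2, (D e').card_A2, ?_, ?_⟩
    · rintro _ ⟨a, c, rfl⟩
      rw [(D e').el_mul, sq2 _ rfl, (D e').el_one]
    · rintro v hv _ ⟨a, c, rfl⟩
      obtain ⟨p, hp⟩ := hT v hv
      have h1 : p.a = 0 := by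
        refine elem_code q p (el_sq (A := D e') (by rw [← hq, hV w hw]))
          (el_sq (A := D e') (by rw [← hp, hV v hv])) ?_ hqb
        apply el_sq (A := D e')
        rw [← (D e').el_mul, ← hq, ← hp]
        exact hV _ (mul_mem hw hv)
      rw [hp, (D e').el_mul, (D e').el_mul, cm2 p _ h1 rfl]

theorem e16_aux' (A : Dat L) {p : Code}
    (hp : (p = ⟨1, 0, 0⟩ ∨ p = ⟨1, 0, 1⟩) ∨ (p = ⟨0, 1, 0⟩ ∨ p = ⟨0, 1, 1⟩)) :
    ∃ E : Subgroup L, Nat.card E = 16 ∧ (∀ y ∈ E, y * y = 1) ∧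
      ∀ K : Subgroup L,
        (∀ v, v = A.x 0 2 1 ∨ v = A.el p ∨ v = A.x 0 2 1 * A.el p →
          ∀ v', v' = A.x 0 2 1 ∨ v' = A.el p ∨ v' = A.x 0 2 1 * A.el p →
          ∀ c, c * v' = v' * c → c * v * c⁻¹ * v⁻¹ ∈ K) →
        E ≤ K := by
  have hC : ∀ c ∈ A.T, c * A.x 0 2 1 = A.x 0 2 1 * c := fun c hc => cent_x02.2 hc
  have sq1 : ∀ p : Code, p.b = 0 → cmul p p = cone := by decide +kernel
  have sq2 : ∀ p : Code, p.a = 0 → cmul p p = cone := by decide +kernel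
  rcases hp with hp | hp
  · refine ⟨A.A1, A.card_A1, ?_, ?_⟩
    · rintro _ ⟨a, c, rfl⟩
      rw [A.el_mul, sq1 _ rfl, A.el_one]
    · intro K hn
      -- `x₀₁(1)`
      have m1 : A.x 0 1 1 = A.x 0 2 1 ∨ A.x 0 1 1 = A.el p ∨ A.x 0 1 1 = A.x 0 2 1 * A.el p := by
        rcases hp with rfl | rfl
        · right; left; rw [A.el_x01]
        · right; right
          rw [← A.el_x02, ← A.el_x01, A.el_mul]
          congr 1
      have m2 : ∀ v, A.x 0 2 v ∈ K := by
        intro v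
        have e1 := A.x_sum 0 2 1 (by decide) (by decide) (by decide) 1 v
        rw [one_mul] at e1
        have e3 := A.x_row 0 1 2 (by decide) (by decide) 1 v
        have h3 := hn _ m1 _ (Or.inl rfl) (A.x 1 2 v)⁻¹
          (hC _ (inv_mem (by rw [← A.el_x12]; exact A.el_mem _)))
        have e2 : (A.x 1 2 v)⁻¹ * A.x 0 1 1 * (A.x 1 2 v)⁻¹⁻¹ * (A.x 0 1 1)⁻¹ = A.x 0 2 v := by
          rw [inv_inv, mul_assoc (A.x 1 2 v)⁻¹, e1]
          calc (A.x 1 2 v)⁻¹ * (A.x 1 2 v * A.x 0 1 1 * A.x 0 2 v) * (A.x 0 1 1)⁻¹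
              = (A.x 0 1 1 * A.x 0 2 v) * (A.x 0 1 1)⁻¹ := by group
            _ = A.x 0 2 v := by rw [e3]; group
        rwa [e2] at h3
      have m3 : ∀ u, A.x 0 1 u ∈ K := by
        intro u
        have e1 := A.x_sum 0 1 2 (by decide) (by decide) (by decide) 1 u
        rw [one_mul] at e1
        have e3 := A.x_row 0 1 2 (by decide) (by decide) u 1
        have hcm : (A.x 2 1 u)⁻¹ * A.x 0 1 1 = A.x 0 1 1 * (A.x 2 1 u)⁻¹ :=
          (Commute.inv_left (show Commute (A.x 2 1 u) (A.x 0 1 1) from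
            (A.x_col 0 1 2 (by decide) (by decide) 1 u).symm)).eq
        have h3 := hn _ (Or.inl rfl) _ m1 _ hcm
        have e2 : (A.x 2 1 u)⁻¹ * A.x 0 2 1 * (A.x 2 1 u)⁻¹⁻¹ * (A.x 0 2 1)⁻¹ = A.x 0 1 u := by
          rw [inv_inv, mul_assoc (A.x 2 1 u)⁻¹, e1]
          calc (A.x 2 1 u)⁻¹ * (A.x 2 1 u * A.x 0 2 1 * A.x 0 1 u) * (A.x 0 2 1)⁻¹
              = (A.x 0 2 1 * A.x 0 1 u) * (A.x 0 2 1)⁻¹ := by group
            _ = A.x 0 1 u := by rw [← e3]; group
        rwa [e2] at h3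
      rintro _ ⟨a, c, rfl⟩
      rw [A.el_eq]
      simp only
      rw [A.x_zero 1 2 (by decide), mul_one]
      exact mul_mem (m3 a) (m2 c)
  · refine ⟨A.A2, A.card_A2, ?_, ?_⟩
    · rintro _ ⟨a, c, rfl⟩
      rw [A.el_mul, sq2 _ rfl, A.el_one]
    · intro K hn
      have m1 : A.x 1 2 1 = A.x 0 2 1 ∨ A.x 1 2 1 = A.el p ∨ A.x 1 2 1 = A.x 0 2 1 * A.el p := by
        rcases hp with rfl | rfl
        · right; left; rw [A.el_x12]
        · right; right
          rw [← A.el_x02, ← A.el_x12, A.el_mul]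
          congr 1
      have m2 : ∀ v, A.x 0 2 v ∈ K := by
        intro v
        have e1 := A.x_sum 0 2 1 (by decide) (by decide) (by decide) v 1
        rw [mul_one] at e1
        have h3 := hn _ m1 _ (Or.inl rfl) (A.x 0 1 v) (hC _ (by rw [← A.el_x01]; exact A.el_mem _))
        have e3 := A.x_row 0 1 2 (by decide) (by decide) v v
        have e4 := A.x_col 0 2 1 (by decide) (by decide) v 1
        have e2 : A.x 0 1 v * A.x 1 2 1 * (A.x 0 1 v)⁻¹ * (A.x 1 2 1)⁻¹ = A.x 0 2 v := by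
          rw [e1, mul_assoc (A.x 1 2 1), e3]
          calc A.x 1 2 1 * (A.x 0 2 v * A.x 0 1 v) * (A.x 0 1 v)⁻¹ * (A.x 1 2 1)⁻¹
              = (A.x 1 2 1 * A.x 0 2 v) * (A.x 1 2 1)⁻¹ := by group
            _ = A.x 0 2 v := by rw [← e4]; group
        rwa [e2] at h3
      have m3 : ∀ u, A.x 1 2 u ∈ K := by
        intro u
        have e1 := A.x_sum 1 2 0 (by decide) (by decide) (by decide) u 1
        rw [mul_one] at e1
        have hcm : A.x 1 0 u * A.x 1 2 1 = A.x 1 2 1 * A.x 1 0 u :=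
          A.x_row 1 0 2 (by decide) (by decide) u 1
        have h3 := hn _ (Or.inl rfl) _ m1 _ hcm
        have e3 := A.x_row 1 0 2 (by decide) (by decide) u u
        have e4 := A.x_col 0 2 1 (by decide) (by decide) 1 u
        have e2 : A.x 1 0 u * A.x 0 2 1 * (A.x 1 0 u)⁻¹ * (A.x 0 2 1)⁻¹ = A.x 1 2 u := by
          rw [e1, mul_assoc (A.x 0 2 1), e3]
          calc A.x 0 2 1 * (A.x 1 2 u * A.x 1 0 u) * (A.x 1 0 u)⁻¹ * (A.x 0 2 1)⁻¹
              = (A.x 0 2 1 * A.x 1 2 u) * (A.x 0 2 1)⁻¹ := by group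
            _ = A.x 1 2 u := by rw [e4]; group
        rwa [e2] at h3
      rintro _ ⟨a, c, rfl⟩
      rw [A.el_eq]
      simp only
      rw [A.x_zero 0 1 (by decide), one_mul]
      exact mul_mem (m3 a) (m2 c)

/-- **A four-group in `C_L(f) = L₃(2)`.** -/
theorem e16' (h : IsL34 L) {φ : MulAut L} (hφ : φ * φ = 1) (h1 : sF h φ = -1)
    (h2 : sG h φ = 1) {s t : L} (hs : s * s = 1) (ht : t * t = 1) (hs1 : s ≠ 1) (ht1 : t ≠ 1)
    (hst : s ≠ t) (hφs : φ s = s) (hφt : φ t = t) (hc : s * t = t * s) :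
    ∃ E : Subgroup L, Nat.card E = 16 ∧ (∀ y ∈ E, y * y = 1) ∧
      ∀ K : Subgroup L,
        (∀ v, v = s ∨ v = t ∨ v = s * t → ∀ v', v' = s ∨ v' = t ∨ v' = s * t →
          ∀ c, c * v' = v' * c → c * v * c⁻¹ * v⁻¹ ∈ K) →
        E ≤ K := by
  obtain ⟨e, hf, rfl⟩ := exists_fld h hφ h1 h2 hs hs1 hφs
  obtain ⟨p, rfl⟩ := cent_x02.1 hc.symm
  have k1 : ctau (true, false, 0) p = p := (D e).inj (by rw [← hf.el, hφt])
  have k2 : cmul p p = cone := el_sq ht
  have k3 : p ≠ cone := by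
    rintro rfl
    exact ht1 (D e).el_one
  have k4 : p ≠ ⟨0, 0, 1⟩ := by
    rintro rfl
    exact hst ((D e).el_x02 1).symm
  exact e16_aux' (D e) (fld_code p k1 k2 k3 k4)

end Cfsg.Agent.UGT.FL34.Seven
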