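import Cfsg.Agent.LThreeFour.Solv
import Cfsg.Agent.LThreeFour.Exists

/-!
# Standard automorphisms of `PSL(3,4)` and coordinates adapted to an automorphism
-/

set_option autoImplicit false
set_option linter.constructorNameAsVariable false
set_option linter.unusedVariables false

namespace Cfsg.Agent.UGT.FL34

open Matrix
open Cfsg.Agent.SporadicA.FieldFour
open Cfsg.Agent.LThreeFour Cfsg.Agent.LThreeFour.Dat
open Cfsg.Agent.ONType.Psl (PSL3 SL3 T t tm)
open Cfsg.Agent.ONType.OuterL (rv rv_ne rv_rv J Jm coe_J cj_J_T itr_T fld_T cj_eq_of)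
open Cfsg.Agent.ClassicalGeometry.AutPSL.Root
open Cfsg.Agent.ClassicalGeometry.AutPSL.Auto

/-- the Frobenius automorphism of `F4` -/
def frob : F4 ≃+* F4 where
  toFun a := a * a
  invFun a := a * a
  left_inv := by intro a; revert a; decide
  right_inv := by intro a; revert a; decide
  map_mul' := by intro a b; revert a b; decide
  map_add' := by intro a b; revert a b; decide

theorem frob_apply (a : F4) : frob a = a * a := rfl

/-- diagonal matrices -/
def dmat (d : Fin 3) : Matrix (Fin 3) (Fin 3) F4 := fun a b => if a = b then gd d a else 0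

theorem det_dmat (d : Fin 3) : (dmat d).det ≠ 0 := by
  rw [Matrix.det_fin_three]; revert d; decide +kernel

noncomputable def DD (d : Fin 3) : GL (Fin 3) F4 :=
  Matrix.GeneralLinearGroup.mkOfDetNeZero (dmat d) (det_dmat d)

theorem cj_DD_T (d : Fin 3) (i j : Fin 3) (hij : i ≠ j) (u : F4) :
    cj (DD d) (T i j u) = T i j (dg d i j * u) := by
  apply cj_eq_of
  change dmat d * tm i j u = tm i j (dg d i j * u) * dmat d
  revert d i j u; decide +kernel

/-- the field automorphism -/
noncomputable def f0 : MulAut PSL3 := lift (fld frob)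

/-- the graph automorphism -/
noncomputable def g0 : MulAut PSL3 := lift (cj J * itr)

/-- the unitary polarity -/
noncomputable def x0 : MulAut PSL3 := lift (cj J * fld frob * itr)

/-- the diagonal automorphisms -/
noncomputable def dl (d : Fin 3) : MulAut PSL3 := lift (cj (DD d))

theorem isTau_f0 : datPSL.IsTau (true, false, 0) f0 := by
  intro i j hij u
  show lift (fld frob) (pr (T i j u)) = pr (T i j (dg 0 i j * fr true u))
  rw [lift_pr, fld_T frob i j hij, dg_zero, one_mul]
  rfl

theorem isTau_g0 : datPSL.IsTau (false, true, 0) g0 := by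
  intro i j hij u
  show lift (cj J * itr) (pr (T i j u)) = pr (T (rv j) (rv i) (dg 0 i j * fr false u))
  rw [lift_pr, MulAut.mul_apply, itr_T i j hij, cj_J_T, dg_zero, one_mul]
  rfl

theorem isTau_x0 : datPSL.IsTau (true, true, 0) x0 := by
  intro i j hij u
  show lift (cj J * fld frob * itr) (pr (T i j u)) = pr (T (rv j) (rv i) (dg 0 i j * fr true u))
  rw [lift_pr, MulAut.mul_apply, MulAut.mul_apply, itr_T i j hij, fld_T frob j i hij.symm, cj_J_T,
    dg_zero, one_mul]
  rfl

theorem isTau_dl (d : Fin 3) : datPSL.IsTau (false, false, d) (dl d) := by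
  intro i j hij u
  show lift (cj (DD d)) (pr (T i j u)) = pr (T i j (dg d i j * fr false u))
  rw [lift_pr, cj_DD_T d i j hij]
  rfl

/-! ### Transport of coordinates -/

section

variable {L M : Type*} [Group L] [Group M]

/-- transport of an automorphism -/
def tr (e : L ≃* M) (β : MulAut L) : MulAut M := (e.symm.trans β).trans e

theorem tr_apply (e : L ≃* M) (β : MulAut L) (m : M) : tr e β m = e (β (e.symm m)) := rfl

theorem tr_e (e : L ≃* M) (β : MulAut L) (l : L) : tr e β (e l) = e (β l) := by
  rw [tr_apply, MulEquiv.symm_apply_apply]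

theorem isTau_map {A : Dat L} (e : L ≃* M) {β : MulAut L} {τ : Ty} (h : A.IsTau τ β) :
    (A.map e).IsTau τ (tr e β) := by
  intro i j hij u
  show tr e β (e (A.x i j u)) = _
  rw [tr_e, h i j hij u]
  show e (imgx A.x τ i j u) = imgx (fun i j u => e (A.x i j u)) τ i j u
  unfold imgx
  split <;> rfl

theorem tr_conj (γ β : MulAut L) : tr γ β = γ * β * γ⁻¹ := by
  apply MulEquiv.ext
  intro l
  rfl

theorem isTau_map_conj {A : Dat L} (γ : MulAut L) {β : MulAut L} {τ : Ty}
    (h : A.IsTau τ (γ * β * γ⁻¹)) : (A.map γ⁻¹).IsTau τ β := by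
  have h1 := isTau_map (A := A) (γ⁻¹ : L ≃* L) h
  rw [tr_conj] at h1
  have e : γ⁻¹ * (γ * β * γ⁻¹) * γ⁻¹⁻¹ = β := by group
  rwa [e] at h1

/-- pure automorphisms are transported standard ones -/
theorem eq_tr (e : PSL3 ≃* L) {β : MulAut L} {β0 : MulAut PSL3} {τ : Ty}
    (h0 : datPSL.IsTau τ β0) (h : (datPSL.map e).IsTau τ β) : β = tr e β0 :=
  h.ext (isTau_map e h0)

theorem map_map {N : Type*} [Group N] (A : Dat L) (e : L ≃* M) (e' : M ≃* N) :
    (A.map e).map e' = A.map (e.trans e') := rfl

theorem map_el (A : Dat L) (e : L ≃* M) (p : Code) : (A.map e).el p = e (A.el p) := by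
  show elx (fun i j u => e (A.x i j u)) p = e (elx A.x p)
  unfold elx; rw [map_mul, map_mul]

theorem map_x (A : Dat L) (e : L ≃* M) (i j : Fin 3) (u : F4) :
    (A.map e).x i j u = e (A.x i j u) := rfl

end

/-- finite fact: involutory types -/
theorem ty_sq : ∀ g : TyG, g * g = 1 → g = 1 ∨ bits g = (true, false) ∨ bits g = (false, true) ∨
    g = ⟨(true, true, 0)⟩ := by decide +kernel

theorem tt_unique : ∀ g : TyG, g * g = 1 → bits g = (true, true) → g = ⟨(true, true, 0)⟩ := by
  decide +kernel

end Cfsg.Agent.UGT.FL34
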